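import Groth.Agent.L18.PBundle.SymMap
import Groth.Agent.L18.RelTilde.MulIso

/-!
# `O(n)` is the tensor power of `O(1)`
-/

set_option autoImplicit false
set_option linter.style.haveILetI false

noncomputable section

universe u

open CategoryTheory AlgebraicGeometry TopologicalSpace Opposite
open Groth.L18
open Groth.L18.Frame (rs IsFrame)

namespace Groth.L18.PBundle

variable {S P : Scheme.{u}} {𝒮 : RelProj.QCGrAlg S} {p : P ⟶ S}
  {chart : ∀ (U : S.Opens) (hU : IsAffineOpen U), (((p ⁻¹ᵁ U : P.Opens) : Scheme.{u}) ≅ Proj (𝒮.deg U hU))}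

/-- A global frame trivialises a module. -/
theorem nonempty_iso_unit {X : Scheme.{u}} {L : X.Modules} {e : Γ(L, ⊤)} (he : IsFrame L ⊤ e) :
    Nonempty (L ≅ Coh.structureModule X) :=
  haveI := Groth.L16.isIso_homOfSection L e fun V => he V le_top
  ⟨(asIso (Groth.L16.homOfSection L e)).symm⟩

theorem nonempty_iso_twist_pow (hP : RelProj.IsRelProj 𝒮 p chart) (hgen : 𝒮.IsGenDegOne) {L1 : P.Modules}
    {lam1 : ∀ (U : S.Opens) (hU : IsAffineOpen U),
      L1 ⟶ (Scheme.Modules.pushforward (RelProj.emb p chart U hU)).obj (GrTwist.twist (𝒮.deg U hU) 1)}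
    (h1 : RelProj.IsRelTwist 𝒮 p chart 1 L1 lam1) :
    ∀ (n : ℕ) (L : P.Modules) (lam : ∀ (U : S.Opens) (hU : IsAffineOpen U),
      L ⟶ (Scheme.Modules.pushforward (RelProj.emb p chart U hU)).obj (GrTwist.twist (𝒮.deg U hU) (n : ℤ))),
      RelProj.IsRelTwist 𝒮 p chart (n : ℤ) L lam → Nonempty (L ≅ CohB1.tensorPow L1 n)
  | 0, L, lam, h => by
    obtain ⟨e, he⟩ := RelTilde.exists_frame_zero hP h
    exact nonempty_iso_unit he
  | n + 1, L, lam, h => by
    obtain ⟨Ln, lamn, hn⟩ := exists_twist hP (n : ℤ)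
    obtain ⟨i1⟩ := nonempty_iso_twist_pow hP hgen h1 n Ln lamn hn
    obtain ⟨i2⟩ := RelTilde.nonempty_iso_mul hP hgen (RelTilde.isRel_of_isRelTwist hn) h1
      (RelTilde.isRel_of_isRelTwist h) (by push_cast; ring)
    exact ⟨i2.symm ≪≫ Groth.L00.Tensor.tensorIso i1 (Iso.refl L1)⟩

end Groth.L18.PBundle
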