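import Groth.Agent.L18.PBundle.ProjSpaceVA
import Groth.Agent.L18.VeryAmpleTensor
import Groth.Agent.L00.VeryAmpleBase

/-!
# Large powers of a relatively ample module are very ample
-/

set_option autoImplicit false
set_option linter.style.haveILetI false
set_option backward.isDefEq.respectTransparency false

noncomputable section

universe u

open CategoryTheory CategoryTheory.Limits AlgebraicGeometry TopologicalSpace Opposite
open Groth.L18

namespace Groth.L18.PBundle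

variable {X Y : Scheme.{u}} (f : X ⟶ Y)

theorem isRelVeryAmple_of_Pn {L : X.Modules} (h : RelAmple.IsRelVeryAmplePn f L) : RelProj.IsRelVeryAmple f L := by
  obtain ⟨n, i, hi, hip, ⟨e⟩⟩ := h
  haveI := hi
  have h2 := isRelVeryAmple_comp_immersion i (isRelVeryAmple_twistOver n Y)
  rw [hip] at h2
  exact isRelVeryAmple_of_iso e h2

/-- The passage from the members of a finite affine cover to the whole base. -/
theorem exists_forall_isRelVeryAmple [CompactSpace Y] [QuasiCompact f] (M : ℕ → X.Modules)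
    (hM : ∀ n, PicF.IsInvertible (M n))
    (h : ∀ U : Y.affineOpens, ∃ n₀ : ℕ, ∀ n, n₀ ≤ n →
      RelAmple.IsRelVeryAmplePn (f ∣_ U.1) ((M n).restrict (f ⁻¹ᵁ U.1).ι)) :
    ∃ n₀ : ℕ, ∀ n, n₀ ≤ n → RelProj.IsRelVeryAmple f (M n) := by
  classical
  choose U hU hyU _ using fun y : Y => exists_isAffineOpen_mem_and_subset (x := y) (U := ⊤) trivial
  choose N hN using fun y : Y => h ⟨U y, hU y⟩
  obtain ⟨T, hT⟩ := isCompact_univ.elim_finite_subcover (fun y : Y => (U y : Set Y)) (fun y => (U y).2)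
    (fun y _ => Set.mem_iUnion.2 ⟨y, hyU y⟩)
  refine ⟨T.sup N, fun n hn => isRelVeryAmple_of_openCover (hM n) fun y => ?_⟩
  obtain ⟨z, hz, hyz⟩ := Set.mem_iUnion₂.1 (hT (Set.mem_univ y))
  exact ⟨U z, hyz, isRelVeryAmple_of_Pn _ (hN z n ((Finset.le_sup hz).trans hn))⟩

theorem exists_forall_tensorPow [CompactSpace Y] [LocallyOfFiniteType f] {L : X.Modules} (hL : PicF.IsInvertible L)
    (h : RelAmple.IsRelAmple f L) :
    ∃ n₀ : ℕ, ∀ n, n₀ ≤ n → RelProj.IsRelVeryAmple f (CohB1.tensorPow L n) := by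
  haveI := h.1
  refine exists_forall_isRelVeryAmple f _ (fun n => Groth.L18.Ample.isInvertible_tensorPow hL n) fun U => ?_
  obtain ⟨n₀, hn₀⟩ := Groth.L00.VeryAmpleBase.exists_forall_isRelVeryAmplePn (f ∣_ U.1) (h.2 U)
  refine ⟨n₀, fun n hn => ?_⟩
  obtain ⟨m, r, hr, hrf, ⟨e⟩⟩ := hn₀ n hn
  exact ⟨m, r, hr, hrf, ⟨(Groth.L00.Tensor.tensorPowRestrict _ L n).symm ≪≫ e⟩⟩

theorem exists_forall_tensorPow_tensor [CompactSpace Y] [LocallyOfFiniteType f] {L L' : X.Modules}
    (hL : PicF.IsInvertible L) (hL' : PicF.IsInvertible L') (h : RelAmple.IsRelAmple f L) :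
    ∃ n₀ : ℕ, ∀ n, n₀ ≤ n → RelProj.IsRelVeryAmple f (CohB1.tensorMod (CohB1.tensorPow L n) L') := by
  haveI := h.1
  refine exists_forall_isRelVeryAmple f _
    (fun n => Groth.L18.GenLoc.isInvertible_tensor (Groth.L18.Ample.isInvertible_tensorPow hL n) hL') fun U => ?_
  haveI : IsAffine U.1.toScheme := U.2
  haveI := Groth.L18.Ample.isSeparated_of_isAmple (h.2 U)
  haveI : IsSeparated ((f ∣_ U.1) ≫ terminal.from U.1.toScheme) := by
    rw [show (f ∣_ U.1) ≫ terminal.from U.1.toScheme = terminal.from _ from terminal.hom_ext _ _]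
    exact Scheme.IsSeparated.isSeparated_terminal_from
  haveI : IsSeparated (f ∣_ U.1) := IsSeparated.of_comp (f ∣_ U.1) (terminal.from U.1.toScheme)
  obtain ⟨n₀, hn₀⟩ := Groth.L18.VeryAmpleTensor.exists_forall_isRelVeryAmplePn_tensor (f ∣_ U.1) (h.2 U)
    (Groth.L18.Ample.isInvertible_restrict hL' (f ⁻¹ᵁ U.1))
  refine ⟨n₀, fun n hn => ?_⟩
  obtain ⟨m, r, hr, hrf, ⟨e⟩⟩ := hn₀ n hn
  exact ⟨m, r, hr, hrf, ⟨(Groth.L00.Tensor.tensorRestrict _ _ _).symm ≪≫
    Groth.L00.Tensor.tensorIso (Groth.L00.Tensor.tensorPowRestrict _ L n).symm (Iso.refl _) ≪≫ e⟩⟩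

end Groth.L18.PBundle
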