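import Groth.Agent.L18.ProjAlg.TwistAmple
import Groth.Agent.L18.SymGraded
import Groth.Agent.L18.AmpleLocal

/-!
# Pullbacks of `O(1)` along topological embeddings into `Proj` of an algebra generated in degree one
-/

set_option autoImplicit false

noncomputable section

universe u

open CategoryTheory CategoryTheory.Limits AlgebraicGeometry TopologicalSpace Opposite
open Groth.L18.Frame (rs rs_rs rs_self IsFrame)
open Groth.L18.Ample (isAmple_of_iso isAmple_pullback_congr)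

namespace Groth.L18.PBundle

section Ring

variable {A σ : Type u} [CommRing A] [SetLike σ A] [AddSubgroupClass σ A] (𝒜 : ℕ → σ) [GradedRing 𝒜]

/-- `O(1)` is ample on a finite union of degree-one basic opens. -/
theorem isAmple_twist_restrict (hcov : ∀ x : Proj 𝒜, ∃ g : 𝒜 1, x ∈ Proj.basicOpen 𝒜 g.1)
    (T : Finset (𝒜 1)) (O : (Proj 𝒜).Opens) (hO : (O : Set (Proj 𝒜)) = ⋃ t ∈ T, Proj.basicOpen 𝒜 t.1) :
    CohB1.IsAmple ((Scheme.Modules.pullback O.ι).obj (GrTwist.twist 𝒜 1)) := by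
  have hinv : PicF.IsInvertible (GrTwist.twist 𝒜 1) := GenLoc.isInvertible_of_frames fun x => by
    obtain ⟨t, ht⟩ := hcov x
    exact ⟨_, _, ht, TwistAmp.isFrame_gsec 𝒜 t _ le_rfl⟩
  have haff : ∀ t : 𝒜 1, IsAffineOpen (Proj.basicOpen 𝒜 t.1) := fun t =>
    Proj.isAffineOpen_basicOpen 𝒜 _ t.2 one_pos
  refine ⟨Ample.isInvertible_pullback O.ι hinv, isCompact_iff_compactSpace.mp ?_, fun z => ?_⟩
  · rw [hO]
    exact T.finite_toSet.isCompact_biUnion fun t _ => (haff t).isCompact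
  · obtain ⟨t, htT, hzt⟩ := Set.mem_iUnion₂.1 (hO ▸ z.2 : (z.1 : Proj 𝒜) ∈ ⋃ t ∈ T, (Proj.basicOpen 𝒜 t.1 : Set (Proj 𝒜)))
    obtain ⟨s, hs⟩ := Ample.exists_pull_pow O.ι hinv (n := 1)
      (TwistAmp.gmap 𝒜 t ≫ (Groth.L00.Tensor.tensorUnitLeft (GrTwist.twist 𝒜 1)).inv)
    have e : CohB1.genLocus (CohB1.tensorPow (GrTwist.twist 𝒜 1) 1)
        (TwistAmp.gmap 𝒜 t ≫ (Groth.L00.Tensor.tensorUnitLeft (GrTwist.twist 𝒜 1)).inv) = Proj.basicOpen 𝒜 t.1 :=
      (Groth.L16.genLocus_comp_iso _ (Groth.L00.Tensor.tensorUnitLeft (GrTwist.twist 𝒜 1)).symm).trans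
        (TwistAmp.genLocus_gmap 𝒜 hcov _)
    rw [e] at hs
    refine ⟨0, s, ?_, ?_⟩
    · rw [hs]; exact hzt
    · rw [hs]
      refine (haff t).preimage_of_isOpenImmersion O.ι ?_
      rw [Scheme.Opens.opensRange_ι]
      intro y hy
      rw [← SetLike.mem_coe, hO]
      exact Set.mem_iUnion₂.2 ⟨t, htT, hy⟩

/-- The pullback of `O(1)` along a topological embedding of a quasi-compact scheme is ample. -/
theorem isAmple_pullback_twist_one (hcov : ∀ x : Proj 𝒜, ∃ g : 𝒜 1, x ∈ Proj.basicOpen 𝒜 g.1)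
    {X : Scheme.{u}} [CompactSpace X] (g : X ⟶ Proj 𝒜) (hg : Topology.IsInducing g) :
    CohB1.IsAmple ((Scheme.Modules.pullback g).obj (GrTwist.twist 𝒜 1)) := by
  choose t ht using hcov
  obtain ⟨T₀, hT₀⟩ := isCompact_univ.elim_finite_subcover
    (fun x : X => (g ⁻¹ᵁ Proj.basicOpen 𝒜 (t (g x)).1 : Set X)) (fun x => (g ⁻¹ᵁ _).2)
    (fun x _ => Set.mem_iUnion.2 ⟨x, ht (g x)⟩)
  classical
  let T : Finset (𝒜 1) := T₀.image fun x => t (g x)
  let O : (Proj 𝒜).Opens := ⨆ s : T, Proj.basicOpen 𝒜 s.1.1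
  have hO : (O : Set (Proj 𝒜)) = ⋃ s ∈ T, (Proj.basicOpen 𝒜 s.1 : Set (Proj 𝒜)) := by
    rw [Opens.coe_iSup, ← Set.iUnion_subtype (p := fun s => s ∈ T) (s := fun s : T => (Proj.basicOpen 𝒜 s.1.1 : Set (Proj 𝒜)))]
  have hrange : Set.range g ⊆ Set.range O.ι := by
    rw [Scheme.Opens.range_ι, hO]
    rintro _ ⟨x, rfl⟩
    obtain ⟨x', hx', hxx'⟩ := Set.mem_iUnion₂.1 (hT₀ (Set.mem_univ x))
    exact Set.mem_iUnion₂.2 ⟨t (g x'), Finset.mem_image_of_mem _ hx', hxx'⟩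
  let g' := IsOpenImmersion.lift O.ι g hrange
  have hfac : g' ≫ O.ι = g := IsOpenImmersion.lift_fac _ _ _
  have hg' : Topology.IsInducing g' := by
    refine Topology.IsInducing.of_comp (by fun_prop) (g := O.ι) (by fun_prop) ?_
    rw [← TopCat.coe_comp, ← Scheme.Hom.comp_base, hfac]
    exact hg
  have h := Ample.isAmple_pullback_of_isInducing g' hg'
    (isAmple_twist_restrict 𝒜 (fun x => ⟨t x, ht x⟩) T O hO)
  exact isAmple_of_iso ((Scheme.Modules.pullbackComp _ _).app _ ≪≫ (Scheme.Modules.pullbackCongr hfac).app _) h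

end Ring

section Rel

variable {X S P : Scheme.{u}} {𝒮 : RelProj.QCGrAlg S} {p : P ⟶ S}
  {chart : ∀ (U : S.Opens) (hU : IsAffineOpen U), (((p ⁻¹ᵁ U : P.Opens) : Scheme.{u}) ≅ Proj (𝒮.deg U hU))}
  {L : P.Modules} {lam : ∀ (U : S.Opens) (hU : IsAffineOpen U),
    L ⟶ (Scheme.Modules.pushforward (RelProj.emb p chart U hU)).obj (GrTwist.twist (𝒮.deg U hU) 1)}

/-- Degree one elements cover every chart. -/
theorem hcov (hgen : 𝒮.IsGenDegOne) (U : S.Opens) (hU : IsAffineOpen U) (x : Proj (𝒮.deg U hU)) :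
    ∃ g : 𝒮.deg U hU 1, x ∈ Proj.basicOpen (𝒮.deg U hU) g.1 := by
  obtain ⟨t, ht, htx⟩ := RelTilde.irr_le_span hgen U hU x
  exact ⟨⟨t, ht⟩, (Proj.mem_basicOpen _ _ _).2 htx⟩

/-- The pullback of `O(1)` along a topological embedding over the base is relatively ample. -/
theorem isRelAmple_pullback (hgen : 𝒮.IsGenDegOne) (hL : RelProj.IsRelTwist 𝒮 p chart 1 L lam)
    (f : X ⟶ S) [QuasiCompact f] (g : X ⟶ P) (hg : g ≫ p = f) (hind : Topology.IsInducing g) :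
    RelAmple.IsRelAmple f ((Scheme.Modules.pullback g).obj L) := by
  refine ⟨inferInstance, fun V => ?_⟩
  obtain ⟨U, hU⟩ := V
  haveI : CompactSpace (f ⁻¹ᵁ U : Scheme.{u}) :=
    isCompact_iff_compactSpace.mp (f.isCompact_preimage hU.isCompact)
  let r : (f ⁻¹ᵁ U : Scheme.{u}) ⟶ (p ⁻¹ᵁ U : P.Opens) :=
    g.resLE (p ⁻¹ᵁ U) (f ⁻¹ᵁ U) (by rw [← hg]; exact le_of_eq rfl)
  let g₁ : (f ⁻¹ᵁ U : Scheme.{u}) ⟶ Proj (𝒮.deg U hU) := r ≫ (chart U hU).hom
  have hfac : g₁ ≫ RelProj.emb p chart U hU = (f ⁻¹ᵁ U).ι ≫ g := by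
    simp [g₁, r, RelProj.emb]
  have hg₁ : Topology.IsInducing g₁ := by
    refine Topology.IsInducing.of_comp (by fun_prop) (g := RelProj.emb p chart U hU) (by fun_prop) ?_
    rw [← TopCat.coe_comp, ← Scheme.Hom.comp_base, hfac, Scheme.Hom.comp_base, TopCat.coe_comp]
    exact hind.comp (f ⁻¹ᵁ U).ι.isOpenEmbedding.isInducing
  have e : (Scheme.Modules.pullback (RelProj.emb p chart U hU)).obj L ≅ GrTwist.twist (𝒮.deg U hU) 1 :=
    ((Scheme.Modules.restrictFunctorIsoPullback _).app L).symm ≪≫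
      RelTilde.Data.resIso (RelTilde.isRel_of_isRelTwist hL) U hU
  have h := isAmple_pullback_twist_one _ (hcov hgen U hU) g₁ hg₁
  refine (Ample.isAmple_restrict_iff_pullback _).2 (isAmple_of_iso ?_ h)
  exact (Scheme.Modules.pullback g₁).mapIso e.symm ≪≫ (Scheme.Modules.pullbackComp _ _).app L ≪≫
    (Scheme.Modules.pullbackCongr hfac).app L ≪≫ ((Scheme.Modules.pullbackComp _ _).app L).symm

end Rel

/-- The graded symmetric algebra is generated in degree one. -/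
theorem isGenDegOne_of_isGrSymAlg {S : Scheme.{u}} {E : S.Modules} (hE : Coh.IsQCoh E)
    {𝒮 : RelProj.QCGrAlg S} {j : E ⟶ 𝒮.toModule} (hj : RelProj.IsGrSymAlg E 𝒮 j) : 𝒮.IsGenDegOne := by
  haveI := hE
  obtain ⟨Φ, h0, h1, -⟩ := SymSheaf.exists_gradedEquiv hj
  intro U hU
  refine top_le_iff.mp fun a _ => ?_
  obtain ⟨b, rfl⟩ := (Φ U hU).surjective a
  induction b using SymmetricAlgebra.induction with
  | algebraMap r => rw [h0]; exact Subring.subset_closure (Or.inl (𝒮.str_mem U hU r))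
  | ι m => rw [h1]; exact Subring.subset_closure (Or.inr (hj.2 U hU m))
  | mul a b ha hb => rw [map_mul]; exact mul_mem (ha trivial) (hb trivial)
  | add a b ha hb => rw [map_add]; exact add_mem (ha trivial) (hb trivial)

/-- Relatively very ample modules are relatively ample. -/
theorem isRelAmple_of_isRelVeryAmple {X Y : Scheme.{u}} {f : X ⟶ Y} [QuasiCompact f] {L : X.Modules}
    (h : RelProj.IsRelVeryAmple f L) : RelAmple.IsRelAmple f L := by
  obtain ⟨E, hE, 𝒮, j, hj, P, p, chart, -, O1, lam, hO1, i, hi, hf, ⟨e⟩⟩ := h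
  haveI := hi
  have h' := isRelAmple_pullback (isGenDegOne_of_isGrSymAlg hE hj) hO1 f i hf i.isEmbedding.isInducing
  exact ⟨h'.1, fun V => isAmple_of_iso ((Scheme.Modules.restrictFunctor _).mapIso e.symm) (h'.2 V)⟩

end Groth.L18.PBundle
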