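import Groth.Agent.L18.PBundle.SymMap
import Groth.Agent.L18.PBundle.Ample
import Groth.Agent.L18.ProjAlg.Consequences
import Groth.Agent.L16.SchSupport
import Groth.Agent.L20.ModStalk

/-!
# Embeddings into projective bundles
-/

set_option autoImplicit false

noncomputable section

universe u

open CategoryTheory CategoryTheory.Limits AlgebraicGeometry TopologicalSpace Opposite
open scoped HomogeneousIdeal

namespace Groth.L18.PBundle

section Embed

variable {S P : Scheme.{u}} {𝒮 : RelProj.QCGrAlg S} {p : P ⟶ S}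
  {chart : ∀ (U : S.Opens) (hU : IsAffineOpen U), (((p ⁻¹ᵁ U : P.Opens) : Scheme.{u}) ≅ Proj (𝒮.deg U hU))}

/-- `Proj 𝒮 ↪ P(𝒮₁)`, compatibly with `O(1)`. -/
theorem exists_embedding (hgen : 𝒮.IsGenDegOne) (hP : RelProj.IsRelProj 𝒮 p chart) :
    ∃ (Q : Scheme.{u}) (q : Q ⟶ S)
      (chQ : ∀ (U : S.Opens) (hU : IsAffineOpen U),
        (((q ⁻¹ᵁ U : Q.Opens) : Scheme.{u}) ≅ Proj ((SymSheaf.symGr (degMod 𝒮 1)).deg U hU)))
      (O1 : Q.Modules) (lam : ∀ (U : S.Opens) (hU : IsAffineOpen U),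
        O1 ⟶ (Scheme.Modules.pushforward (RelProj.emb q chQ U hU)).obj
          (GrTwist.twist ((SymSheaf.symGr (degMod 𝒮 1)).deg U hU) 1))
      (h : P ⟶ Q),
      RelProj.IsRelProj (SymSheaf.symGr (degMod 𝒮 1)) q chQ ∧
        RelProj.IsRelTwist (SymSheaf.symGr (degMod 𝒮 1)) q chQ 1 O1 lam ∧
        IsClosedImmersion h ∧ h ≫ q = p ∧
        ∀ (L : P.Modules) (lamP : ∀ (U : S.Opens) (hU : IsAffineOpen U),
          L ⟶ (Scheme.Modules.pushforward (RelProj.emb p chart U hU)).obj (GrTwist.twist (𝒮.deg U hU) 1)),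
          RelProj.IsRelTwist 𝒮 p chart 1 L lamP → Nonempty ((Scheme.Modules.pullback h).obj O1 ≅ L) := by
  obtain ⟨Q, q, chQ, hQ⟩ := RP.exists_isRelProj (SymSheaf.symGr (degMod 𝒮 1))
  obtain ⟨O1, lam, hO1⟩ := exists_twist hQ 1
  obtain ⟨h, hc, hover, htw⟩ := exists_closedImmersion (E := degMod 𝒮 1) (isQCoh_degMod 𝒮 1)
    (SymSheaf.isGrSymAlg (degMod 𝒮 1)) (degι 𝒮 1)
    (fun U hU x => (mem_range_degι 𝒮 1 U hU _).2 ⟨x, rfl⟩)
    (fun U hU y hy => (mem_range_degι 𝒮 1 U hU y).1 hy)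
    (isGenDegOne_of_isGrSymAlg (isQCoh_degMod 𝒮 1) (SymSheaf.isGrSymAlg (degMod 𝒮 1))) hgen hQ hP
  exact ⟨Q, q, chQ, O1, lam, h, hQ, hO1, hc, hover, fun L lamP hL => htw 1 O1 lam L lamP hO1 hL⟩

/-- An immersion into a relative `Proj` generated in degree one makes `i^* O(1)` very ample. -/
theorem isRelVeryAmple_of_immersion {X : Scheme.{u}} {q : X ⟶ S} {L : X.Modules} (hgen : 𝒮.IsGenDegOne)
    (hP : RelProj.IsRelProj 𝒮 p chart) {O1 : P.Modules}
    {lam : ∀ (U : S.Opens) (hU : IsAffineOpen U),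
      O1 ⟶ (Scheme.Modules.pushforward (RelProj.emb p chart U hU)).obj (GrTwist.twist (𝒮.deg U hU) 1)}
    (hO1 : RelProj.IsRelTwist 𝒮 p chart 1 O1 lam) (i : X ⟶ P) [IsImmersion i] (hi : i ≫ p = q)
    (e : L ≅ (Scheme.Modules.pullback i).obj O1) : RelProj.IsRelVeryAmple q L := by
  obtain ⟨Q, r, chQ, O1', lam', h, hQ, hO1', hc, hover, htw⟩ := exists_embedding hgen hP
  obtain ⟨e'⟩ := htw O1 lam hO1
  haveI := hc
  exact ⟨degMod 𝒮 1, isQCoh_degMod 𝒮 1, SymSheaf.symGr (degMod 𝒮 1), SymSheaf.j _,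
    SymSheaf.isGrSymAlg (degMod 𝒮 1), Q, r, chQ, hQ, O1', lam', hO1', i ≫ h, inferInstance,
    by rw [Category.assoc, hover, hi],
    ⟨e ≪≫ (Scheme.Modules.pullback i).mapIso e'.symm ≪≫ (Scheme.Modules.pullbackComp i h).app O1'⟩⟩

/-- The degree-one part is of finite type. -/
theorem isCoh_degMod (d : ℕ) (hft : 𝒮.IsFTDeg d) : Coh.IsCoh (degMod 𝒮 d) := by
  refine Groth.L16.CohClosedPush.isCoh_of_finite_sections _ fun x => ?_
  obtain ⟨U, hU, hxU, -⟩ := exists_isAffineOpen_mem_and_subset (x := x) (U := ⊤) trivial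
  refine ⟨U, hxU, hU, ?_⟩
  obtain ⟨T, hT, hspan⟩ := hft U hU
  choose m hm using fun t : T => (mem_range_degι 𝒮 d U hU t.1).1 (hT t.2)
  classical
  refine ⟨⟨Finset.univ.image m, top_le_iff.mp fun y _ => ?_⟩⟩
  obtain ⟨c, hc⟩ := hspan _ ((mem_range_degι 𝒮 d U hU _).2 ⟨y, rfl⟩)
  have hy : y = ∑ t : T, c t.1 • m t := by
    refine degι_injective 𝒮 d U ?_
    rw [map_sum]
    refine hc.trans ?_
    rw [← T.sum_coe_sort]
    refine Finset.sum_congr rfl fun t _ => ?_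
    rw [Scheme.Modules.Hom.app_smul, SymSheaf.smul_toModule]
    exact congrArg _ (hm t).symm
  rw [hy]
  exact Submodule.sum_mem _ fun t _ => Submodule.smul_mem _ _
    (Submodule.subset_span (Finset.mem_image_of_mem _ (Finset.mem_univ t)))

end Embed

/-- The graded symmetric algebra of a module of finite type has degree-one part of finite type. -/
theorem isFTDeg_one_of_isGrSymAlg {S : Scheme.{u}} {E : S.Modules} (hE : Coh.IsCoh E)
    {𝒯 : RelProj.QCGrAlg S} {j : E ⟶ 𝒯.toModule} (hj : RelProj.IsGrSymAlg E 𝒯 j) : 𝒯.IsFTDeg 1 := by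
  haveI := hE.1
  obtain ⟨Φ, h0, h1, hmem⟩ := SymSheaf.exists_gradedEquiv hj
  intro U hU
  obtain ⟨G, hG⟩ := (Groth.L20.ModStalk.finite_sections E hE hU).1
  classical
  refine ⟨G.image fun m => (show 𝒯.presheaf.obj (op U) from j.app U m), ?_, fun x hx => ?_⟩
  · intro y hy
    obtain ⟨m, -, rfl⟩ := Finset.mem_image.1 hy
    exact hj.2 U hU m
  · obtain ⟨a, rfl⟩ := (Φ U hU).surjective x
    have ha := (hmem U hU 1 a).2 hx
    rw [SymRing.piece, pow_one] at ha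
    obtain ⟨m, rfl⟩ := ha
    rw [h1]
    obtain ⟨c, hc⟩ : ∃ c : Γ(E, U) → Γ(S, U), ∑ g ∈ G, c g • g = m :=
      (Submodule.mem_span_finset.1 (hG.ge (Submodule.mem_top (x := m)))).imp fun c hc => hc.2
    refine ⟨fun y => ∑ g ∈ G.filter (fun g => (show 𝒯.presheaf.obj (op U) from j.app U g) = y), c g, ?_⟩
    rw [← hc, map_sum]
    rw [← Finset.sum_fiberwise_of_maps_to (g := fun g => (show 𝒯.presheaf.obj (op U) from j.app U g))
      (fun g hg => Finset.mem_image_of_mem _ hg)]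
    refine Finset.sum_congr rfl fun y _ => ?_
    rw [map_sum, Finset.sum_mul]
    refine Finset.sum_congr rfl fun g hg => ?_
    rw [Scheme.Modules.Hom.app_smul, SymSheaf.smul_toModule, (Finset.mem_filter.1 hg).2]

/-- Projective morphisms are exactly the closed subschemes of projective bundles of modules of finite type. -/
theorem isProjective_iff {X Y : Scheme.{u}} (f : X ⟶ Y) :
    RelProj.IsProjective f ↔
      ∃ (E : Y.Modules) (𝒯 : RelProj.QCGrAlg Y) (j : E ⟶ 𝒯.toModule) (P : Scheme.{u}) (p : P ⟶ Y)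
        (chart : ∀ (U : Y.Opens) (hU : IsAffineOpen U), ((p ⁻¹ᵁ U : P.Opens) : Scheme.{u}) ≅ Proj (𝒯.deg U hU))
        (i : X ⟶ P),
        Coh.IsQCoh E ∧ CohB1.IsFT E ∧ RelProj.IsGrSymAlg E 𝒯 j ∧ RelProj.IsRelProj 𝒯 p chart ∧
          IsClosedImmersion i ∧ i ≫ p = f := by
  constructor
  · rintro ⟨𝒮, P, p, chart, e, hgen, hft, hP, rfl⟩
    obtain ⟨Q, q, chQ, O1, lam, h, hQ, -, hc, hover, -⟩ := exists_embedding hgen hP
    haveI := hc
    exact ⟨degMod 𝒮 1, _, SymSheaf.j _, Q, q, chQ, e.hom ≫ h, isQCoh_degMod 𝒮 1, (isCoh_degMod 1 hft).2,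
      SymSheaf.isGrSymAlg (degMod 𝒮 1), hQ, inferInstance, by rw [Category.assoc, hover]⟩
  · rintro ⟨E, 𝒯, j, P, p, chart, i, hE, hft, hj, hP, hi, rfl⟩
    haveI := hi
    exact VanishI.isProjective_comp_closedImmersion i p
      ⟨𝒯, P, p, chart, Iso.refl P, isGenDegOne_of_isGrSymAlg hE hj, isFTDeg_one_of_isGrSymAlg ⟨hE, hft⟩ hj, hP,
        Category.id_comp p⟩

end Groth.L18.PBundle
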