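import Groth.Agent.L18.PBundle.FTSub
import Groth.Agent.L18.PBundle.AmpleVA
import Groth.Agent.L18.PBundle.Embed
import Groth.Agent.L18.ProjAlg.ClosedSubscheme
import Mathlib.AlgebraicGeometry.IdealSheaf.Subscheme

/-!
# Quasi-projective and projective morphisms through bundles of finite type
-/

set_option autoImplicit false
set_option linter.style.haveILetI false
set_option backward.isDefEq.respectTransparency false

noncomputable section

universe u

open CategoryTheory CategoryTheory.Limits AlgebraicGeometry TopologicalSpace Opposite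
open Groth.L18

namespace Groth.L18.PBundle

/-- A quasi-compact immersion into its scheme-theoretic image is open. -/
theorem isOpenImmersion_toImage {X Y : Scheme.{u}} (f : X ⟶ Y) [IsImmersion f] [QuasiCompact f] :
    IsOpenImmersion f.toImage := by
  haveI : IsImmersion (f.toImage ≫ f.imageι) := by rw [Scheme.Hom.toImage_imageι]; infer_instance
  haveI : IsImmersion f.toImage := IsImmersion.of_comp f.toImage f.imageι
  let t := f.toImage
  have hrange : Set.range t = (t.coborderRange : Set f.image) := by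
    refine Set.Subset.antisymm subset_coborder fun z hz => ?_
    have hcl : z ∈ closure (Set.range t) := by rw [t.denseRange.closure_eq]; trivial
    by_contra hnz
    exact hz ⟨hcl, hnz⟩
  have hemb : Topology.IsOpenEmbedding t.base :=
    ⟨t.isEmbedding, by rw [hrange]; exact t.coborderRange.2⟩
  haveI : ∀ x, IsIso (t.stalkMap x) := fun x => by
    refine (ConcreteCategory.isIso_iff_bijective _).2 ⟨?_, t.stalkMap_surjective x⟩
    change Function.Injective (CommRingCat.Hom.hom (((TopCat.Presheaf.stalkFunctor CommRingCat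
      (f.toImage x)).map f.toImage.c) ≫ X.presheaf.stalkPushforward _ _ x))
    simp only [TopCat.Presheaf.stalkFunctor_obj, CommRingCat.hom_comp, RingHom.coe_comp]
    refine .comp ?_ (f.stalkFunctor_toImage_injective _)
    have := TopCat.Presheaf.stalkPushforward.stalkPushforward_iso_of_isInducing CommRingCat
      (f := f.toImage.base) f.toImage.isEmbedding.isInducing X.presheaf x
    exact ((ConcreteCategory.isIso_iff_bijective _).mp this).1
  exact IsOpenImmersion.of_isIso_stalkMap t hemb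

variable {X Y : Scheme.{u}} (q : X ⟶ Y)

/-- A relatively ample module is invertible. -/
theorem isInvertible_of_isRelAmple {L : X.Modules} (hL : RelAmple.IsRelAmple q L) : PicF.IsInvertible L := by
  refine Groth.L18.GenLoc.isInvertible_of_frames fun x => ?_
  obtain ⟨_, ⟨V', hV', rfl⟩, hxV', -⟩ := Y.isBasis_affineOpens.exists_subset_of_mem_open
    (Set.mem_univ (q x)) isOpen_univ
  obtain ⟨U, e, hxU, he⟩ := Groth.L18.Frame.exists_frame (hL.2 ⟨V', hV'⟩).1 ⟨x, hxV'⟩
  exact ⟨(q ⁻¹ᵁ V').ι ''ᵁ U, e, ⟨⟨x, hxV'⟩, hxU, rfl⟩,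
    (Groth.L18.Ample.isFrame_restrict_iff L (q ⁻¹ᵁ V') U e).mp he⟩

/-- A quasi-projective morphism carries a very ample module. -/
theorem exists_isRelVeryAmple_of_isQuasiProjective [CompactSpace Y] (hq : RelProj.IsQuasiProjective q) :
    LocallyOfFiniteType q ∧ QuasiCompact q ∧
      ∃ L : X.Modules, PicF.IsInvertible L ∧ RelProj.IsRelVeryAmple q L := by
  obtain ⟨h1, h2, L, hL⟩ := hq
  haveI := h1
  haveI := h2
  have hLinv := isInvertible_of_isRelAmple q hL
  obtain ⟨n₀, hn₀⟩ := exists_forall_tensorPow q hLinv hL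
  exact ⟨h1, h2, _, Groth.L18.Ample.isInvertible_tensorPow hLinv n₀, hn₀ n₀ le_rfl⟩

/-- Proper quasi-projective morphisms over a quasi-compact quasi-separated base are projective. -/
theorem isProjective_of_isQuasiProjective [CompactSpace Y] [QuasiSeparatedSpace Y] [IsProper q]
    (hq : RelProj.IsQuasiProjective q) : RelProj.IsProjective q := by
  obtain ⟨h1, h2, L, hL, hva⟩ := exists_isRelVeryAmple_of_isQuasiProjective q hq
  obtain ⟨E, 𝒯, j, P, p, chart, O1, lam, i, hE, hft, hj, hP, -, hi, hip, -⟩ := exists_ft_immersion q hL hva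
  haveI := hi
  haveI : IsSeparated p := RP.isSeparated hP
  haveI : IsProper (i ≫ p) := by rw [hip]; infer_instance
  haveI : IsProper i := IsProper.of_comp i p
  haveI : IsClosedImmersion i := IsClosedImmersion.of_isPreimmersion i i.isClosedMap.isClosed_range
  exact (isProjective_iff q).2 ⟨E, 𝒯, j, P, p, chart, i, hE, hft, hj, hP, inferInstance, hip⟩

/-- A very ample module comes from a dense open immersion into a relative `Proj`. -/
theorem exists_openDense [CompactSpace Y] [QuasiSeparatedSpace Y] [QuasiCompact q] [LocallyOfFiniteType q]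
    {L : X.Modules} (hL : PicF.IsInvertible L) (h : RelProj.IsRelVeryAmple q L) :
    ∃ (𝒮 : RelProj.QCGrAlg Y) (P : Scheme.{u}) (p : P ⟶ Y)
      (chart : ∀ (U : Y.Opens) (hU : IsAffineOpen U), ((p ⁻¹ᵁ U : P.Opens) : Scheme.{u}) ≅ Proj (𝒮.deg U hU))
      (O1 : P.Modules)
      (lam : ∀ (U : Y.Opens) (hU : IsAffineOpen U),
        O1 ⟶ (Scheme.Modules.pushforward (RelProj.emb p chart U hU)).obj (GrTwist.twist (𝒮.deg U hU) 1))
      (i : X ⟶ P),
      𝒮.IsGenDegOne ∧ 𝒮.IsFTDeg 1 ∧ RelProj.IsRelProj 𝒮 p chart ∧ RelProj.IsRelTwist 𝒮 p chart 1 O1 lam ∧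
        IsOpenImmersion i ∧ Dense (Set.range i.base) ∧ i ≫ p = q ∧
        Nonempty (L ≅ (Scheme.Modules.pullback i).obj O1) := by
  obtain ⟨E, 𝒯, j, P, p, chart, O1, lam, i, hE, hft, hj, hP, hO1, hi, hip, ⟨e⟩⟩ := exists_ft_immersion q hL h
  haveI := hi
  haveI : IsSeparated p := RP.isSeparated hP
  haveI : QuasiCompact (i ≫ p) := by rw [hip]; infer_instance
  haveI : QuasiCompact i := QuasiCompact.of_comp i p
  haveI := isOpenImmersion_toImage i
  have hgenT := isGenDegOne_of_isGrSymAlg hE hj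
  have hftT : 𝒯.IsFTDeg 1 := isFTDeg_one_of_isGrSymAlg ⟨hE, hft⟩ hj
  obtain ⟨PB, pB, chartB, h', ε, hB, hh, hover, hε⟩ :=
    Groth.L18.VanishI.exists_relProj_iso i.imageι hP hftT hgenT
  obtain ⟨OB, lamB, hOB⟩ := exists_twist hB 1
  obtain ⟨τ⟩ := RelTilde.nonempty_iso_pullback hgenT hP hB hh hO1 hOB
  have hfac : (i.toImage ≫ ε.hom) ≫ h' = i := by rw [Category.assoc, hε, Scheme.Hom.toImage_imageι]
  refine ⟨_, PB, pB, chartB, OB, lamB, i.toImage ≫ ε.hom, Groth.L18.VanishI.qGr_isGenDegOne _ hP hftT hgenT,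
    Groth.L18.VanishI.qGr_isFTDeg _ hP hftT, hB, hOB, inferInstance, ?_, ?_, ⟨?_⟩⟩
  · show Dense (Set.range (ε.hom.homeomorph ∘ i.toImage))
    exact (ε.hom.homeomorph.surjective.denseRange).comp i.toImage.denseRange ε.hom.continuous
  · rw [← hover, ← Category.assoc, hfac, hip]
  · exact e ≪≫ ((Scheme.Modules.pullbackCongr hfac).app O1).symm ≪≫
      ((Scheme.Modules.pullbackComp _ h').app O1).symm ≪≫ (Scheme.Modules.pullback _).mapIso τ

/-- Quasi-projective morphisms are the dense open parts of projective ones. -/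
theorem isQuasiProjective_iff_openDense [CompactSpace Y] [QuasiSeparatedSpace Y] :
    RelProj.IsQuasiProjective q ↔
      (LocallyOfFiniteType q ∧ QuasiCompact q ∧
        ∃ (𝒮 : RelProj.QCGrAlg Y) (P : Scheme.{u}) (p : P ⟶ Y)
          (chart : ∀ (U : Y.Opens) (hU : IsAffineOpen U), ((p ⁻¹ᵁ U : P.Opens) : Scheme.{u}) ≅ Proj (𝒮.deg U hU))
          (j : X ⟶ P), 𝒮.IsGenDegOne ∧ 𝒮.IsFTDeg 1 ∧ RelProj.IsRelProj 𝒮 p chart ∧
            IsOpenImmersion j ∧ Dense (Set.range j.base) ∧ j ≫ p = q) := by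
  constructor
  · intro hq
    obtain ⟨h1, h2, L, hL, hva⟩ := exists_isRelVeryAmple_of_isQuasiProjective q hq
    obtain ⟨𝒮, P, p, chart, O1, lam, i, hgen, hft, hP, -, hi, hd, hip, -⟩ := exists_openDense q hL hva
    exact ⟨h1, h2, 𝒮, P, p, chart, i, hgen, hft, hP, hi, hd, hip⟩
  · rintro ⟨h1, h2, 𝒮, P, p, chart, i, hgen, -, hP, hi, -, hip⟩
    obtain ⟨O1, lam, hO1⟩ := exists_twist hP 1
    haveI := hi
    haveI := h2
    exact ⟨h1, h2, _, isRelAmple_of_isRelVeryAmple (isRelVeryAmple_of_immersion hgen hP hO1 i hip (Iso.refl _))⟩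

end Groth.L18.PBundle
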