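import Groth.Agent.L18.RelTilde.ComparePull
import Groth.Agent.L18.QMap.Map
import Groth.Agent.L18.QMap.Props
import Groth.Agent.L18.RelProj.Props

/-!
# `g^* O_P(n) ≅ O_{P'}(n)` along a graded morphism over a morphism of bases
-/

set_option autoImplicit false

noncomputable section

universe u

open CategoryTheory AlgebraicGeometry TopologicalSpace Opposite
open scoped HomogeneousIdeal
open Groth.L18
open Groth.L18.RelTilde (Bas rdT rdT_add rdT_smul rdT_rs twist_compat_bas locMap_square)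
open Groth.L18.Frame (rs rs_rs rs_self IsFrame)

namespace Groth.L18.PBundle

variable {S S' P P' : Scheme.{u}} {ψ : S' ⟶ S} {𝒮 : RelProj.QCGrAlg S} {𝒮' : RelProj.QCGrAlg S'}
  {p : P ⟶ S} {p' : P' ⟶ S'}
  {chart : ∀ (U : S.Opens) (hU : IsAffineOpen U), (((p ⁻¹ᵁ U : P.Opens) : Scheme.{u}) ≅ Proj (𝒮.deg U hU))}
  {chart' : ∀ (U' : S'.Opens) (hU' : IsAffineOpen U'), (((p' ⁻¹ᵁ U' : P'.Opens) : Scheme.{u}) ≅ Proj (𝒮'.deg U' hU'))}

/-- Gluing of sections of a module. -/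
theorem exists_glue {X : Scheme.{u}} (M : X.Modules) {ι : Type u} (Ω : ι → X.Opens) (O : X.Opens)
    (hle : ∀ k, Ω k ≤ O) (hcov : O ≤ ⨆ k, Ω k) (e : ∀ k, Γ(M, Ω k))
    (h : ∀ j k, rs M (inf_le_left : Ω j ⊓ Ω k ≤ Ω j) (e j) = rs M (inf_le_right : Ω j ⊓ Ω k ≤ Ω k) (e k)) :
    ∃ e₀ : Γ(M, O), ∀ k, rs M (hle k) e₀ = e k :=
  (TopCat.Sheaf.existsUnique_gluing' (⟨M.presheaf, M.isSheaf⟩ : TopCat.Sheaf Ab X.toTopCat)
    Ω O (fun k => homOfLE (hle k)) hcov e h).exists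

variable (ψ) in
/-- Pairs of affine opens. -/
abbrev AffPair : Type u := {V : S.affineOpens × S'.affineOpens // (V.2 : S'.Opens) ≤ ψ ⁻¹ᵁ (V.1 : S.Opens)}

/-- The graded homomorphism of a pair. -/
abbrev gh (u : RelProj.QGrHom ψ 𝒮 𝒮') (k : AffPair ψ) : 𝒮.deg k.1.1.1 k.1.1.2 →+*ᵍ 𝒮'.deg k.1.2.1 k.1.2.2 :=
  u.gradedAt k.1.1.1 k.1.1.2 k.1.2.1 k.1.2.2 k.2

/-- `g` is the map induced by `u`. -/
structure IsInduced (u : RelProj.QGrHom ψ 𝒮 𝒮')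
    (p : P ⟶ S) (chart : ∀ (U : S.Opens) (hU : IsAffineOpen U), (((p ⁻¹ᵁ U : P.Opens) : Scheme.{u}) ≅ Proj (𝒮.deg U hU)))
    (p' : P' ⟶ S')
    (chart' : ∀ (U' : S'.Opens) (hU' : IsAffineOpen U'), (((p' ⁻¹ᵁ U' : P'.Opens) : Scheme.{u}) ≅ Proj (𝒮'.deg U' hU')))
    (g : P' ⟶ P) : Prop where
  irr : ∀ k : AffPair ψ, (𝒮'.deg k.1.2.1 k.1.2.2)₊ ≤ ((𝒮.deg k.1.1.1 k.1.1.2)₊).map (gh u k)
  emb_comp : ∀ k : AffPair ψ, RelProj.emb p' chart' k.1.2.1 k.1.2.2 ≫ g =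
    Proj.map (gh u k) (irr k) ≫ RelProj.emb p chart k.1.1.1 k.1.1.2

variable {u : RelProj.QGrHom ψ 𝒮 𝒮'} {g : P' ⟶ P} {n : ℤ}
  {L : P.Modules} {lam : ∀ (U : S.Opens) (hU : IsAffineOpen U),
    L ⟶ (Scheme.Modules.pushforward (RelProj.emb p chart U hU)).obj (GrTwist.twist (𝒮.deg U hU) n)}
  {L' : P'.Modules} {lam' : ∀ (U' : S'.Opens) (hU' : IsAffineOpen U'),
    L' ⟶ (Scheme.Modules.pushforward (RelProj.emb p' chart' U' hU')).obj (GrTwist.twist (𝒮'.deg U' hU') n)}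

private theorem emb_comp_base (hg : IsInduced u p chart p' chart' g) (k : AffPair ψ)
    (y : ProjectiveSpectrum (𝒮'.deg k.1.2.1 k.1.2.2)) :
    g.base ((RelProj.emb p' chart' k.1.2.1 k.1.2.2).base y) =
      (RelProj.emb p chart k.1.1.1 k.1.1.2).base (ProjectiveSpectrum.comap (gh u k) (hg.irr k) y) := by
  rw [← Scheme.Hom.comp_apply, hg.emb_comp k]
  rfl

/-- The pulled back section on a chart. -/
def chartPull (hg : IsInduced u p chart p' chart' g)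
    (lam : ∀ (U : S.Opens) (hU : IsAffineOpen U),
      L ⟶ (Scheme.Modules.pushforward (RelProj.emb p chart U hU)).obj (GrTwist.twist (𝒮.deg U hU) n))
    (k : AffPair ψ) {W : P.Opens} (s : Γ(L, W)) :
    GrTwist.sectN (𝒜 := 𝒮'.deg k.1.2.1 k.1.2.2) n (op (RelProj.emb p' chart' k.1.2.1 k.1.2.2 ⁻¹ᵁ (g ⁻¹ᵁ W))) :=
  GrTwist.comapApp (gh u k) (hg.irr k) n (RelProj.emb p chart k.1.1.1 k.1.1.2 ⁻¹ᵁ W) _
    (fun y hy => show (RelProj.emb p chart k.1.1.1 k.1.1.2).base _ ∈ W by rw [← emb_comp_base hg]; exact hy)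
    (rdT lam k.1.1 s)

/-- A common pair inside two pairs near a point. -/
private theorem exists_common_pair (j k : AffPair ψ) (y : S') (hj : y ∈ j.1.2.1) (hk : y ∈ k.1.2.1) :
    ∃ q : AffPair ψ, y ∈ q.1.2.1 ∧ Bas j.1.1.1 q.1.1.1 ∧ Bas k.1.1.1 q.1.1.1 ∧
      Bas j.1.2.1 q.1.2.1 ∧ Bas k.1.2.1 q.1.2.1 := by
  obtain ⟨a, b, hab, hya⟩ := exists_basicOpen_le_affine_inter j.1.1.2 k.1.1.2 (ψ.base y) ⟨j.2 hj, k.2 hk⟩
  obtain ⟨a', b', hab', hya'⟩ := exists_basicOpen_le_affine_inter j.1.2.2 k.1.2.2 y ⟨hj, hk⟩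
  obtain ⟨r, hr, hyr⟩ := (j.1.2.2.basicOpen a').exists_basicOpen_le (V := ψ ⁻¹ᵁ S.basicOpen a)
    ⟨y, hya⟩ hya'
  refine ⟨⟨(⟨S.basicOpen a, j.1.1.2.basicOpen a⟩,
      ⟨S'.basicOpen r, (j.1.2.2.basicOpen a').basicOpen r⟩), hr⟩, hyr, ⟨a, rfl⟩, ⟨b, hab.symm⟩,
    RelTilde.Bas.trans j.1.2.2 ⟨a', rfl⟩ ⟨r, rfl⟩, RelTilde.Bas.trans k.1.2.2 ⟨b', hab'.symm⟩ ⟨r, rfl⟩⟩

private theorem res_gh (j q : AffPair ψ) (i : q.1.1.1 ≤ j.1.1.1) (i' : q.1.2.1 ≤ j.1.2.1)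
    (a : 𝒮.presheaf.obj (op j.1.1.1)) :
    gh u q (𝒮.res j.1.1.2 q.1.1.2 i a) = 𝒮'.res j.1.2.2 q.1.2.2 i' (gh u j a) :=
  (QMap.res_gradedAt u j.1.1.2 j.1.2.2 q.1.1.2 q.1.2.2 j.2 q.2 i i' a).symm

variable (hg : IsInduced u p chart p' chart' g) (hP : RelProj.IsRelProj 𝒮 p chart)
  (hP' : RelProj.IsRelProj 𝒮' p' chart')
  (hL : RelProj.IsRelTwist 𝒮 p chart n L lam) (hL' : RelProj.IsRelTwist 𝒮' p' chart' n L' lam')

include hL' in
/-- Sections with the same chart readings agree. -/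
private theorem sec_ext {Ω : P'.Opens} {a b : Γ(L', Ω)}
    (hab : ∀ x ∈ Ω, ∃ k : AffPair ψ, p'.base x ∈ k.1.2.1 ∧ rdT lam' k.1.2 a = rdT lam' k.1.2 b) : a = b := by
  choose k hk hkab using fun x : Ω => hab x.1 x.2
  refine TopCat.Sheaf.eq_of_locally_eq' (⟨L'.presheaf, L'.isSheaf⟩ : TopCat.Sheaf Ab P'.toTopCat)
    (fun x => Ω ⊓ p' ⁻¹ᵁ (k x).1.2.1) Ω (fun x => homOfLE inf_le_left)
    (fun x hx => Opens.mem_iSup.mpr ⟨⟨x, hx⟩, hx, hk ⟨x, hx⟩⟩) _ _ fun x => ?_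
  show rs L' inf_le_left a = rs L' inf_le_left b
  refine (hL'.bijective (k x).1.2.1 (k x).1.2.2 _ inf_le_right).1 ?_
  exact (rdT_rs (lam := lam') (k x).1.2 inf_le_left a).trans
    ((congrArg (GrTwist.resN n _) (hkab x)).trans (rdT_rs (lam := lam') (k x).1.2 inf_le_left b).symm)

include hP hP' hL hL' hg in
/-- Readings transported to a smaller pair. -/
private theorem reading_down {W : P.Opens} (s : Γ(L, W)) {Ω : P'.Opens} (e : Γ(L', Ω)) (hΩ : Ω ≤ g ⁻¹ᵁ W) (j q : AffPair ψ)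
    (h : Bas j.1.1.1 q.1.1.1) (h' : Bas j.1.2.1 q.1.2.1)
    (he : rdT lam' j.1.2 e = GrTwist.resN n (homOfLE ((RelProj.emb p' chart' j.1.2.1 j.1.2.2).preimage_mono hΩ)).op
      (chartPull hg lam j s))
    (y : ProjectiveSpectrum (𝒮'.deg q.1.2.1 q.1.2.2)) (hy : (RelProj.emb p' chart' q.1.2.1 q.1.2.2).base y ∈ Ω) :
    ((rdT lam' q.1.2 e).1 ⟨y, hy⟩ : GrTwist.Loc _ y) =
      ((chartPull hg lam q s).1 ⟨y, hΩ hy⟩ : GrTwist.Loc _ y) := by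
  have hy' : (RelProj.emb p' chart' j.1.2.1 j.1.2.2).base (RelTilde.Data.down j.1.2.2 q.1.2.2 h' y) ∈ Ω := by
    rw [RelTilde.Data.emb_down hP']; exact hy
  have hz : (RelProj.emb p chart q.1.1.1 q.1.1.2).base (ProjectiveSpectrum.comap (gh u q) (hg.irr q) y) ∈ W := by
    rw [← emb_comp_base hg]; exact hΩ hy
  have hz' : (RelProj.emb p chart j.1.1.1 j.1.1.2).base
      (RelTilde.Data.down j.1.1.2 q.1.1.2 h (ProjectiveSpectrum.comap (gh u q) (hg.irr q) y)) ∈ W := by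
    rw [RelTilde.Data.emb_down hP]; exact hz
  have e1 := twist_compat_bas hL' j.1.2.2 q.1.2.2 h' e y hy hy'
  have e2 := twist_compat_bas hL j.1.1.2 q.1.1.2 h s _ hz hz'
  have v1 : ((rdT lam' j.1.2 e).1 ⟨RelTilde.Data.down j.1.2.2 q.1.2.2 h' y, hy'⟩ : GrTwist.Loc (𝒮'.deg j.1.2.1 j.1.2.2) (RelTilde.Data.down j.1.2.2 q.1.2.2 h' y)) =
      ((chartPull hg lam j s).1 ⟨RelTilde.Data.down j.1.2.2 q.1.2.2 h' y, hΩ hy'⟩ : GrTwist.Loc (𝒮'.deg j.1.2.1 j.1.2.2) (RelTilde.Data.down j.1.2.2 q.1.2.2 h' y)) :=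
    congrArg (fun t : GrTwist.sectN (𝒜 := 𝒮'.deg j.1.2.1 j.1.2.2) n
      (op (RelProj.emb p' chart' j.1.2.1 j.1.2.2 ⁻¹ᵁ Ω)) => ((t.1 ⟨RelTilde.Data.down j.1.2.2 q.1.2.2 h' y, hy'⟩ : GrTwist.twistAt (𝒮'.deg j.1.2.1 j.1.2.2) n (RelTilde.Data.down j.1.2.2 q.1.2.2 h' y)) : GrTwist.Loc (𝒮'.deg j.1.2.1 j.1.2.2) (RelTilde.Data.down j.1.2.2 q.1.2.2 h' y))) he
  have v2 := GrTwist.comapApp_apply_coe (gh u j) (hg.irr j) n (RelProj.emb p chart j.1.1.1 j.1.1.2 ⁻¹ᵁ W)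
    (RelProj.emb p' chart' j.1.2.1 j.1.2.2 ⁻¹ᵁ (g ⁻¹ᵁ W))
    (fun z hz => show (RelProj.emb p chart j.1.1.1 j.1.1.2).base _ ∈ W by rw [← emb_comp_base hg]; exact hz)
    (rdT lam j.1.1 s) ⟨RelTilde.Data.down j.1.2.2 q.1.2.2 h' y, hΩ hy'⟩
  have v3 := GrTwist.comapApp_apply_coe (gh u q) (hg.irr q) n (RelProj.emb p chart q.1.1.1 q.1.1.2 ⁻¹ᵁ W)
    (RelProj.emb p' chart' q.1.2.1 q.1.2.2 ⁻¹ᵁ (g ⁻¹ᵁ W))
    (fun z hz => show (RelProj.emb p chart q.1.1.1 q.1.1.2).base _ ∈ W by rw [← emb_comp_base hg]; exact hz)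
    (rdT lam q.1.1 s) ⟨y, hΩ hy⟩
  have sq := locMap_square (𝒮.res j.1.1.2 q.1.1.2 h.le) (RP.irr 𝒮 j.1.1.2 q.1.1.2 h h.le)
    (gh u j) (hg.irr j) (gh u q) (hg.irr q)
    (𝒮'.res j.1.2.2 q.1.2.2 h'.le) (RP.irr 𝒮' j.1.2.2 q.1.2.2 h' h'.le) (res_gh j q h.le h'.le) (rdT lam j.1.1 s) y
    hz' (show (RelProj.emb p chart j.1.1.1 j.1.1.2).base _ ∈ W by rw [← emb_comp_base hg]; exact hΩ hy')
  exact e1.trans ((congrArg (GrTwist.locMap _ _ y) (v1.trans v2)).trans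
    (sq.symm.trans ((congrArg (GrTwist.locMap (gh u q) (hg.irr q) y) e2).symm.trans v3.symm)))

/-- The value of a restricted reading. -/
private theorem rdT_rs_val {Ω Ω' : P'.Opens} (i : Ω' ≤ Ω) (e : Γ(L', Ω)) (U : S'.affineOpens)
    (y : ProjectiveSpectrum (𝒮'.deg U.1 U.2)) (hy : (RelProj.emb p' chart' U.1 U.2).base y ∈ Ω') :
    ((rdT lam' U (rs L' i e)).1 ⟨y, hy⟩ : GrTwist.Loc (𝒮'.deg U.1 U.2) y) =
      ((rdT lam' U e).1 ⟨y, i hy⟩ : GrTwist.Loc (𝒮'.deg U.1 U.2) y) :=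
  congrArg (fun t : GrTwist.sectN (𝒜 := 𝒮'.deg U.1 U.2) n (op (RelProj.emb p' chart' U.1 U.2 ⁻¹ᵁ Ω')) =>
    ((t.1 ⟨y, hy⟩ : GrTwist.twistAt (𝒮'.deg U.1 U.2) n y) : GrTwist.Loc (𝒮'.deg U.1 U.2) y))
    (rdT_rs (lam := lam') U i e)

include hg hP hP' hL hL' in
/-- Local pullbacks agree on overlaps. -/
private theorem loc_agree {W : P.Opens} (s : Γ(L, W)) {Ω₁ Ω₂ : P'.Opens} (h₁ : Ω₁ ≤ g ⁻¹ᵁ W) (h₂ : Ω₂ ≤ g ⁻¹ᵁ W)
    (e₁ : Γ(L', Ω₁)) (e₂ : Γ(L', Ω₂)) (j k q : AffPair ψ)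
    (hj : Bas j.1.1.1 q.1.1.1) (hj' : Bas j.1.2.1 q.1.2.1) (hk : Bas k.1.1.1 q.1.1.1) (hk' : Bas k.1.2.1 q.1.2.1)
    (he₁ : rdT lam' j.1.2 e₁ = GrTwist.resN n (homOfLE ((RelProj.emb p' chart' j.1.2.1 j.1.2.2).preimage_mono h₁)).op
      (chartPull hg lam j s))
    (he₂ : rdT lam' k.1.2 e₂ = GrTwist.resN n (homOfLE ((RelProj.emb p' chart' k.1.2.1 k.1.2.2).preimage_mono h₂)).op
      (chartPull hg lam k s)) :
    rdT lam' q.1.2 (rs L' (inf_le_left : Ω₁ ⊓ Ω₂ ≤ Ω₁) e₁) =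
      rdT lam' q.1.2 (rs L' (inf_le_right : Ω₁ ⊓ Ω₂ ≤ Ω₂) e₂) :=
  GrM.sectN_ext fun y =>
    (rdT_rs_val (inf_le_left : Ω₁ ⊓ Ω₂ ≤ Ω₁) e₁ q.1.2 y.1 y.2).trans
      (((reading_down hg hP hP' hL hL' s e₁ h₁ j q hj hj' he₁ y.1 y.2.1).trans
        (reading_down hg hP hP' hL hL' s e₂ h₂ k q hk hk' he₂ y.1 y.2.2).symm).trans
        (rdT_rs_val (inf_le_right : Ω₁ ⊓ Ω₂ ≤ Ω₂) e₂ q.1.2 y.1 y.2).symm)

/-- Readings determined by a restriction. -/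
private theorem val_of_rs_eq {Ω Ω' : P'.Opens} (i : Ω' ≤ Ω) (e₀ : Γ(L', Ω)) (e : Γ(L', Ω')) (h0 : rs L' i e₀ = e)
    (U : S'.affineOpens) (t : GrTwist.sectN (𝒜 := 𝒮'.deg U.1 U.2) n (op (RelProj.emb p' chart' U.1 U.2 ⁻¹ᵁ Ω)))
    (ht : rdT lam' U e = GrTwist.resN n (homOfLE ((RelProj.emb p' chart' U.1 U.2).preimage_mono i)).op t)
    (y : ProjectiveSpectrum (𝒮'.deg U.1 U.2)) (hy : (RelProj.emb p' chart' U.1 U.2).base y ∈ Ω') :
    ((rdT lam' U e₀).1 ⟨y, i hy⟩ : GrTwist.Loc (𝒮'.deg U.1 U.2) y) =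
      ((t.1 ⟨y, i hy⟩ : GrTwist.twistAt (𝒮'.deg U.1 U.2) n y) : GrTwist.Loc (𝒮'.deg U.1 U.2) y) := by
  subst h0
  exact (rdT_rs_val (lam' := lam') i e₀ U y hy).symm.trans
    (congrArg (fun q : GrTwist.sectN (𝒜 := 𝒮'.deg U.1 U.2) n (op (RelProj.emb p' chart' U.1 U.2 ⁻¹ᵁ Ω')) =>
      ((q.1 ⟨y, hy⟩ : GrTwist.twistAt (𝒮'.deg U.1 U.2) n y) : GrTwist.Loc (𝒮'.deg U.1 U.2) y)) ht)

include hg hP hP' hL hL' in
/-- Existence of the pulled back section. -/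
private theorem pullExists {W : P.Opens} (s : Γ(L, W)) :
    ∃ e : Γ(L', g ⁻¹ᵁ W), ∀ k : AffPair ψ, rdT lam' k.1.2 e = chartPull hg lam k s := by
  let Ω : AffPair ψ → P'.Opens := fun k => g ⁻¹ᵁ W ⊓ p' ⁻¹ᵁ k.1.2.1
  have hloc : ∀ k : AffPair ψ, ∃ e : Γ(L', Ω k), rdT lam' k.1.2 e =
      GrTwist.resN n (homOfLE ((RelProj.emb p' chart' k.1.2.1 k.1.2.2).preimage_mono
        (inf_le_left : Ω k ≤ g ⁻¹ᵁ W))).op (chartPull hg lam k s) := fun k =>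
    (hL'.bijective k.1.2.1 k.1.2.2 _ inf_le_right).2 _
  choose e he using hloc
  have hcov : ∀ x : P', ∃ k : AffPair ψ, p'.base x ∈ k.1.2.1 := fun x => by
    obtain ⟨q, hq, -, -⟩ := RSGlue.exists_pair_le ψ (p'.base x) ⊤ ⊤ trivial trivial
    exact ⟨⟨(⟨q.U, q.hU⟩, ⟨q.U', q.hU'⟩), q.hle⟩, hq⟩
  have hag : ∀ j k : AffPair ψ, rs L' (inf_le_left : Ω j ⊓ Ω k ≤ Ω j) (e j) =
      rs L' (inf_le_right : Ω j ⊓ Ω k ≤ Ω k) (e k) := fun j k =>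
    sec_ext (ψ := ψ) (lam' := lam') (Ω := Ω j ⊓ Ω k) hL' fun x hx =>
      (exists_common_pair j k (p'.base x) hx.1.2 hx.2.2).elim fun q hq =>
        ⟨q, hq.1, loc_agree hg hP hP' hL hL' s (Ω₁ := Ω j) (Ω₂ := Ω k) inf_le_left inf_le_left (e j) (e k) j k q
          hq.2.1 hq.2.2.2.1 hq.2.2.1 hq.2.2.2.2 (he j) (he k)⟩
  have hG := exists_glue L' Ω (g ⁻¹ᵁ W) (fun k => inf_le_left)
    (fun x hx => (hcov x).elim fun k hk => Opens.mem_iSup.mpr ⟨k, hx, hk⟩) e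
  refine Exists.elim (hG hag) fun e₀ he₀ => ?_
  refine ⟨e₀, fun k => GrM.sectN_ext fun y => ?_⟩
  have hy : (RelProj.emb p' chart' k.1.2.1 k.1.2.2).base y.1 ∈ Ω k :=
    ⟨y.2, (RP.opensRange_emb (chart := chart') k.1.2.1 k.1.2.2).le ⟨y.1, rfl⟩⟩
  exact val_of_rs_eq (lam' := lam') (inf_le_left : Ω k ≤ g ⁻¹ᵁ W) e₀ (e k) (he₀ k) k.1.2
    (chartPull hg lam k s) (he k) y.1 hy

/-- The pulled back section. -/
def pullSec {W : P.Opens} (s : Γ(L, W)) : Γ(L', g ⁻¹ᵁ W) :=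
  (pullExists hg hP hP' hL hL' s).choose

private theorem rdT_pullSec {W : P.Opens} (s : Γ(L, W)) (k : AffPair ψ) :
    rdT lam' k.1.2 (pullSec hg hP hP' hL hL' s) = chartPull hg lam k s :=
  (pullExists hg hP hP' hL hL' s).choose_spec k

attribute [irreducible] pullSec

include hL' in
private theorem sec_ext_all {Ω : P'.Opens} {a b : Γ(L', Ω)} (hab : ∀ k : AffPair ψ, rdT lam' k.1.2 a = rdT lam' k.1.2 b) :
    a = b := by
  refine sec_ext (ψ := ψ) (lam' := lam') (Ω := Ω) hL' fun x _ => ?_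
  exact (RSGlue.exists_pair_le ψ (p'.base x) ⊤ ⊤ trivial trivial).elim fun q hq =>
    ⟨⟨(⟨q.U, q.hU⟩, ⟨q.U', q.hU'⟩), q.hle⟩, hq.1, hab ⟨(⟨q.U, q.hU⟩, ⟨q.U', q.hU'⟩), q.hle⟩⟩

private theorem chartPull_add {W : P.Opens} (k : AffPair ψ) (a b : Γ(L, W)) :
    chartPull hg lam k (a + b) = chartPull hg lam k a + chartPull hg lam k b := by
  unfold chartPull
  exact (congrArg _ (rdT_add (lam := lam) k.1.1 a b)).trans (map_add _ _ _)

private theorem chartPull_rs {W W' : P.Opens} (k : AffPair ψ) (i : W' ≤ W) (s : Γ(L, W)) :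
    chartPull hg lam k (rs L i s) = GrTwist.resN n
      (homOfLE ((RelProj.emb p' chart' k.1.2.1 k.1.2.2).preimage_mono (g.preimage_mono i))).op
      (chartPull hg lam k s) := by
  unfold chartPull
  exact (congrArg _ (rdT_rs (lam := lam) k.1.1 i s)).trans (GrM.sectN_ext fun _ => rfl)

private theorem scalar_comap {W : P.Opens} (r : Γ(P, W)) (k : AffPair ψ) (hg : IsInduced u p chart p' chart' g)
    (hsub : (RelProj.emb p' chart' k.1.2.1 k.1.2.2 ⁻¹ᵁ (g ⁻¹ᵁ W)).1 ⊆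
      ProjectiveSpectrum.comap (gh u k) (hg.irr k) ⁻¹' (RelProj.emb p chart k.1.1.1 k.1.1.2 ⁻¹ᵁ W).1) :
    (show GrTwist.O (op (RelProj.emb p' chart' k.1.2.1 k.1.2.2 ⁻¹ᵁ (g ⁻¹ᵁ W))) from
      Proj.comapStructureSheaf (gh u k) (hg.irr k) (RelProj.emb p chart k.1.1.1 k.1.1.2 ⁻¹ᵁ W)
        (RelProj.emb p' chart' k.1.2.1 k.1.2.2 ⁻¹ᵁ (g ⁻¹ᵁ W)) hsub
        (show GrTwist.O (op (RelProj.emb p chart k.1.1.1 k.1.1.2 ⁻¹ᵁ W)) from
          (RelProj.emb p chart k.1.1.1 k.1.1.2).app W r)) =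
      (RelProj.emb p' chart' k.1.2.1 k.1.2.2).app (g ⁻¹ᵁ W) (g.app W r) := by
  have e := ConcreteCategory.congr_hom (Scheme.Hom.congr_app (hg.emb_comp k) W) r
  refine Eq.trans ?_ e.symm
  rfl

private theorem chartPull_smul {W : P.Opens} (k : AffPair ψ) (r : Γ(P, W)) (s : Γ(L, W)) :
    chartPull hg lam k (r • s) = (show GrTwist.O (op (RelProj.emb p' chart' k.1.2.1 k.1.2.2 ⁻¹ᵁ (g ⁻¹ᵁ W))) from
      (RelProj.emb p' chart' k.1.2.1 k.1.2.2).app (g ⁻¹ᵁ W) (g.app W r)) • chartPull hg lam k s := by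
  unfold chartPull
  exact (congrArg _ (rdT_smul (lam := lam) k.1.1 r s)).trans
    ((GrTwist.comapApp_smul (gh u k) (hg.irr k) n _ _ _ _ (rdT lam k.1.1 s)).trans
      (congrArg (· • _) (scalar_comap r k hg _)))

private theorem pullSec_add {W : P.Opens} (a b : Γ(L, W)) :
    pullSec hg hP hP' hL hL' (a + b) = pullSec hg hP hP' hL hL' a + pullSec hg hP hP' hL hL' b := by
  refine sec_ext_all (ψ := ψ) (lam' := lam') hL' fun k => ?_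
  refine (rdT_pullSec hg hP hP' hL hL' (a + b) k).trans ((chartPull_add hg k a b).trans ?_)
  exact ((congrArg₂ (· + ·) (rdT_pullSec hg hP hP' hL hL' a k).symm
    (rdT_pullSec hg hP hP' hL hL' b k).symm).trans
    (rdT_add (lam := lam') k.1.2 (pullSec hg hP hP' hL hL' a) (pullSec hg hP hP' hL hL' b)).symm)

private theorem pullSec_rs {W W' : P.Opens} (i : W' ≤ W) (s : Γ(L, W)) :
    pullSec hg hP hP' hL hL' (rs L i s) = rs L' (g.preimage_mono i) (pullSec hg hP hP' hL hL' s) := by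
  refine sec_ext_all (ψ := ψ) (lam' := lam') hL' fun k => ?_
  refine (rdT_pullSec hg hP hP' hL hL' (rs L i s) k).trans ((chartPull_rs hg k i s).trans ?_)
  exact ((congrArg (GrTwist.resN n _) (rdT_pullSec hg hP hP' hL hL' s k).symm).trans
    (rdT_rs (lam := lam') k.1.2 (g.preimage_mono i) (pullSec hg hP hP' hL hL' s)).symm)

private theorem pullSec_smul {W : P.Opens} (r : Γ(P, W)) (s : Γ(L, W)) :
    pullSec hg hP hP' hL hL' (r • s) = g.app W r • pullSec hg hP hP' hL hL' s := by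
  refine sec_ext_all (ψ := ψ) (lam' := lam') hL' fun k => ?_
  refine (rdT_pullSec hg hP hP' hL hL' (r • s) k).trans ((chartPull_smul hg k r s).trans ?_)
  exact ((congrArg (HSMul.hSMul _) (rdT_pullSec hg hP hP' hL hL' s k).symm).trans
    (rdT_smul (lam := lam') k.1.2 (g.app W r) (pullSec hg hP hP' hL hL' s)).symm)

/-- `O_P(n) ⟶ g_* O_{P'}(n)`. -/
def pullHom : L ⟶ (Scheme.Modules.pushforward g).obj L' :=
  ⟨PresheafOfModules.homMk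
    { app := fun W => AddCommGrpCat.ofHom (AddMonoidHom.mk'
        (fun s : Γ(L, W.unop) => pullSec hg hP hP' hL hL' s) (fun a b => pullSec_add hg hP hP' hL hL' a b))
      naturality := fun _ _ i => AddCommGrpCat.hom_ext (AddMonoidHom.ext fun s =>
        pullSec_rs hg hP hP' hL hL' i.unop.le s) }
    fun W r s => pullSec_smul hg hP hP' hL hL' r s⟩

private theorem pullHom_app {W : P.Opens} (s : Γ(L, W)) :
    (pullHom hg hP hP' hL hL').app W s = pullSec hg hP hP' hL hL' s := rfl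

/-- A map to a direct image carrying frames to frames on smaller opens has an invertible adjunct. -/
private theorem isIso_adjunct_of_frames' {X Y : Scheme.{u}} (f : X ⟶ Y) {M : Y.Modules} {N : X.Modules}
    (θ : M ⟶ (Scheme.Modules.pushforward f).obj N)
    (h : ∀ x : X, ∃ (V : Y.Opens) (e : Γ(M, V)) (W : X.Opens) (hW : W ≤ f ⁻¹ᵁ V), x ∈ W ∧ IsFrame M V e ∧
      IsFrame N W (rs N hW (show Γ(N, f ⁻¹ᵁ V) from θ.app V e))) :
    IsIso (((Scheme.Modules.pullbackPushforwardAdjunction f).homEquiv M N).symm θ) := by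
  choose V e W₀ hW₀ hx he hθe using h
  set a := ((Scheme.Modules.pullbackPushforwardAdjunction f).homEquiv M N).symm θ with ha
  refine IsoCover.isIso_of_bijective a W₀ (fun x => ⟨x, hx x⟩) fun x W hW => ?_
  have hpull : a.app (f ⁻¹ᵁ V x) (Frame.pull f M (V x) (e x)) = θ.app (V x) (e x) := by
    have h1 : (Scheme.Modules.pullbackPushforwardAdjunction f).unit.app M ≫ (Scheme.Modules.pushforward f).map a = θ :=
      (Adjunction.homEquiv_unit _ _ _ _).symm.trans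
        (((Scheme.Modules.pullbackPushforwardAdjunction f).homEquiv M N).apply_symm_apply θ)
    exact congr($(h1).app (V x) (e x))
  have hW' : W ≤ f ⁻¹ᵁ V x := hW.trans (hW₀ x)
  have key : (a.app W) ∘ (fun r : Γ(X, W) => r • rs _ hW' (Frame.pull f M (V x) (e x))) =
      fun r : Γ(X, W) => r • rs N hW (rs N (hW₀ x) (show Γ(N, f ⁻¹ᵁ V x) from θ.app (V x) (e x))) := by
    funext r
    refine (Scheme.Modules.Hom.app_smul a r _).trans (congrArg (r • ·) ?_)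
    refine Eq.trans ?_ (rs_rs _ _ _ _).symm
    refine Eq.trans ?_ (congrArg (rs N hW') hpull)
    exact ConcreteCategory.congr_hom (a.mapPresheaf.naturality (homOfLE hW').op) _
  exact (Function.Bijective.of_comp_iff _ ((Frame.IsFrame.pullback f M (he x)) W hW')).1
    (key ▸ hθe x W hW)

include hg hP hP' hL hL' in
/-- Inverse images of twisting sheaves along maps induced over the bases. -/
theorem nonempty_iso_basePull (hgen : 𝒮.IsGenDegOne) : Nonempty ((Scheme.Modules.pullback g).obj L ≅ L') := by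
  haveI := isIso_adjunct_of_frames' g (pullHom hg hP hP' hL hL') fun x => ?_
  · exact ⟨asIso (((Scheme.Modules.pullbackPushforwardAdjunction g).homEquiv L L').symm
      (pullHom hg hP hP' hL hL'))⟩
  obtain ⟨q, hq, -, -⟩ := RSGlue.exists_pair_le ψ (p'.base x) ⊤ ⊤ trivial trivial
  let k : AffPair ψ := ⟨(⟨q.U, q.hU⟩, ⟨q.U', q.hU'⟩), q.hle⟩
  obtain ⟨y, hy⟩ := QMap.exists_point (chart := chart') k.1.2.1 k.1.2.2 x hq
  obtain ⟨t, ht, hty⟩ := RelTilde.irr_le_span hgen k.1.1.1 k.1.1.2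
    (ProjectiveSpectrum.comap (gh u k) (hg.irr k) y)
  let V : P.Opens := RelProj.emb p chart k.1.1.1 k.1.1.2 ''ᵁ Proj.basicOpen (𝒮.deg k.1.1.1 k.1.1.2) t
  have hV : V ≤ p ⁻¹ᵁ k.1.1.1 := (Scheme.Hom.image_le_opensRange _ _).trans (RP.opensRange_emb _ _).le
  have hVt : ∀ z, (RelProj.emb p chart k.1.1.1 k.1.1.2).base z ∈ V → ∀ N : ℕ, t ^ N ∉ z.asHomogeneousIdeal := by
    rintro z ⟨z', hz', e⟩ N
    rw [(RelProj.emb p chart k.1.1.1 k.1.1.2).isOpenEmbedding.injective e] at hz'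
    exact GrM.notMem_pow ((Proj.mem_basicOpen _ _ _).1 hz') N
  obtain ⟨e, he, hev⟩ := RelTilde.exists_frame_twist hL k.1.1.2
    (⟨t ^ n.toNat, SetLike.pow_mem_graded _ ht⟩ : 𝒮.deg k.1.1.1 k.1.1.2 (n.toNat • 1))
    (⟨t ^ (-n).toNat, SetLike.pow_mem_graded _ ht⟩ : 𝒮.deg k.1.1.1 k.1.1.2 ((-n).toNat • 1))
    (by simp only [smul_eq_mul, mul_one]; omega) hV (fun z hz => hVt z hz _) (fun z hz => hVt z hz _)
  let W₀ : P'.Opens := g ⁻¹ᵁ V ⊓ p' ⁻¹ᵁ k.1.2.1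
  refine ⟨V, e, W₀, inf_le_left, ⟨?_, hq⟩, he, ?_⟩
  · show g.base x ∈ V
    rw [← hy, emb_comp_base hg]
    exact ⟨_, (Proj.mem_basicOpen _ _ _).2 hty, rfl⟩
  rw [pullHom_app]
  refine RelTilde.isFrame_of_adjoint _ (lam' k.1.2.1 k.1.2.2)
    (fun W hW' => hL'.bijective k.1.2.1 k.1.2.2 W (hW'.trans (RP.opensRange_emb k.1.2.1 k.1.2.2).le))
    ((inf_le_right : W₀ ≤ _).trans (RP.opensRange_emb k.1.2.1 k.1.2.2).ge) _ ?_
  have hmem : ∀ z : (RelProj.emb p' chart' k.1.2.1 k.1.2.2 ⁻¹ᵁ W₀ : (Proj (𝒮'.deg k.1.2.1 k.1.2.2)).Opens),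
      ∀ N : ℕ, gh u k (t ^ N) ∉ z.1.asHomogeneousIdeal := fun z N hN => hVt
    (ProjectiveSpectrum.comap (gh u k) (hg.irr k) z.1) (by rw [← emb_comp_base hg]; exact z.2.1) N hN
  have key : rdT lam' k.1.2 (rs L' (inf_le_left : W₀ ≤ g ⁻¹ᵁ V) (pullSec hg hP hP' hL hL' e)) =
      GrM.genT (⟨gh u k (t ^ n.toNat), (gh u k).map_mem (SetLike.pow_mem_graded _ ht)⟩ :
          𝒮'.deg k.1.2.1 k.1.2.2 (n.toNat • 1))
        (⟨gh u k (t ^ (-n).toNat), (gh u k).map_mem (SetLike.pow_mem_graded _ ht)⟩ :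
          𝒮'.deg k.1.2.1 k.1.2.2 ((-n).toNat • 1))
        (n := n) (by simp only [smul_eq_mul, mul_one]; omega) _ (fun z => hmem z _) := by
    exact (rdT_rs (lam := lam') k.1.2 (inf_le_left : W₀ ≤ g ⁻¹ᵁ V) (pullSec hg hP hP' hL hL' e)).trans
      ((congrArg (GrTwist.resN n _) ((rdT_pullSec hg hP hP' hL hL' e k).trans
        ((congrArg (fun q => GrTwist.comapApp (gh u k) (hg.irr k) n
          (RelProj.emb p chart k.1.1.1 k.1.1.2 ⁻¹ᵁ V) _ _ q) hev).trans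
          (RelTilde.comapApp_genT _ _ _ _ _ _ _)))).trans (GrM.sectN_ext fun _ => rfl))
  refine (congrArg (IsFrame (GrTwist.twist (𝒮'.deg k.1.2.1 k.1.2.2) n) _) key).mpr ?_
  exact GrM.isFrame_genT _ _ _ _ (fun z => hmem z _) (fun z => hmem z _)

/-- The map of a base change is induced. -/
theorem isInduced_of_isQBaseChange (hP : RelProj.IsRelProj 𝒮 p chart) (hu : RelSpec.IsQBaseChange u.toQHom)
    {h : P' ⟶ P} (hh : RelProj.IsProjQMap u p chart p' chart' h) : IsInduced u p chart p' chart' h where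
  irr k := QMap.irrelevant_le_map_of_isPushout (gh u k) _ _ _ (𝒮'.str_mem k.1.2.1 k.1.2.2)
    (hu k.1.1.1 k.1.1.2 k.1.2.1 k.1.2.2 k.2)
  emb_comp k := by
    refine (Proj.mapAffineOpenCover _ (QMap.irrelevant_le_map_of_isPushout (gh u k) _ _ _
      (𝒮'.str_mem k.1.2.1 k.1.2.2) (hu k.1.1.1 k.1.1.2 k.1.2.1 k.1.2.2 k.2))).openCover.hom_ext _ _ fun i => ?_
    obtain ⟨d, f, hf⟩ := i
    refine Eq.trans ?_ ((hh.2 k.1.1.1 k.1.1.2 k.1.2.1 k.1.2.2 k.2 d d.pos f hf).trans ?_)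
    · exact (Category.assoc _ _ _).symm
    · exact (Proj.awayι_comp_map_assoc _ _ d.pos f hf _).symm

end Groth.L18.PBundle
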