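import Groth.Agent.L18.PBundle.DegOne
import Groth.Agent.L18.RelTilde.ComparePull
import Groth.Agent.L18.RelProj.Exists
import Groth.Agent.L18.RelTilde.Apps

/-!
# The closed immersion `Proj 𝒮 ⟶ P(E)` of a surjection `E ⟶ 𝒮₁`
-/

set_option autoImplicit false

noncomputable section

universe u

open CategoryTheory CategoryTheory.Limits AlgebraicGeometry TopologicalSpace Opposite
open scoped HomogeneousIdeal

namespace Groth.L18.PBundle

variable {S : Scheme.{u}} {E : S.Modules} {𝒯 𝒮 : RelProj.QCGrAlg S} {j : E ⟶ 𝒯.toModule}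

/-- The graded homomorphism `Sym E ⟶ 𝒮` of a map into degree one. -/
theorem exists_gradedHom (hE : Coh.IsQCoh E) (hj : RelProj.IsGrSymAlg E 𝒯 j) (k : E ⟶ 𝒮.toModule)
    (hk : ∀ (U : S.Opens) (hU : IsAffineOpen U) (x : Γ(E, U)), k.app U x ∈ 𝒮.deg U hU 1) :
    ∃ φ : 𝒯.toQCAlg ⟶ 𝒮.toQCAlg, RelProj.IsGradedHom φ ∧
      ∀ (U : S.Opens) (x : Γ(E, U)), (φ.hom.app (op U)).hom (j.app U x) = k.app U x := by
  haveI := hE
  obtain ⟨φ, hφ, -⟩ := hj.1 𝒮.toQCAlg k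
  have hval : ∀ (U : S.Opens) (x : Γ(E, U)), (φ.hom.app (op U)).hom (j.app U x) = k.app U x := fun U x =>
    congr(($hφ).app U x)
  refine ⟨φ, fun U hU d y hy => ?_, hval⟩
  obtain ⟨Φ, h0, h1, hmem⟩ := SymSheaf.exists_gradedEquiv hj
  obtain ⟨x, rfl⟩ := (Φ U hU).surjective y
  replace hy := (hmem U hU d x).2 hy
  induction hy using Submodule.pow_induction_on_left' with
  | algebraMap r =>
    rw [h0, show (φ.hom.app (op U)).hom ((𝒯.str.app (op U)).hom r) = (𝒮.str.app (op U)).hom r from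
      ConcreteCategory.congr_hom (NatTrans.congr_app φ.comm (op U)) r]
    exact 𝒮.str_mem U hU r
  | add x y i hx hy ihx ihy => rw [map_add, map_add]; exact add_mem ihx ihy
  | mem_mul m hm i x hx ih =>
    obtain ⟨m', rfl⟩ := hm
    rw [map_mul, map_mul, h1, hval, Nat.succ_eq_one_add]
    exact SetLike.mul_mem_graded (hk U hU m') ih

/-- A graded homomorphism onto degree one meets the irrelevant-ideal condition. -/
theorem irr_of_surj_one (hgen : 𝒮.IsGenDegOne) (φ : 𝒯.toQCAlg ⟶ 𝒮.toQCAlg) (hφ : RelProj.IsGradedHom φ)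
    (h1 : ∀ (U : S.Opens) (hU : IsAffineOpen U), ∀ y ∈ 𝒮.deg U hU 1,
      ∃ x ∈ 𝒯.deg U hU 1, (φ.hom.app (op U)).hom x = y)
    (U : S.Opens) (hU : IsAffineOpen U) :
    (𝒮.deg U hU)₊ ≤ ((𝒯.deg U hU)₊).map (RelProj.gradedHomAt φ hφ U hU) := by
  show (HomogeneousIdeal.irrelevant (𝒮.deg U hU)).toIdeal ≤
    (((𝒯.deg U hU)₊).map (RelProj.gradedHomAt φ hφ U hU)).toIdeal
  refine (RPGen.irrelevant_le_span (𝒮.deg U hU) (hgen U hU) (T := (𝒮.deg U hU 1 : Set (𝒮.presheaf.obj (op U))))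
    fun x hx => Ideal.subset_span hx).trans (Ideal.span_le.2 ?_)
  intro y hy
  obtain ⟨x, hx, rfl⟩ := h1 U hU y hy
  exact Ideal.mem_map_of_mem _ (HomogeneousIdeal.mem_irrelevant_of_mem _ one_pos hx)

variable {P Q : Scheme.{u}} {p : P ⟶ S} {q : Q ⟶ S}
  {chP : ∀ (U : S.Opens) (hU : IsAffineOpen U), (((p ⁻¹ᵁ U : P.Opens) : Scheme.{u}) ≅ Proj (𝒯.deg U hU))}
  {chQ : ∀ (U : S.Opens) (hU : IsAffineOpen U), (((q ⁻¹ᵁ U : Q.Opens) : Scheme.{u}) ≅ Proj (𝒮.deg U hU))}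

/-- A relative `Proj` of an algebra generated in degree one is a closed subscheme of `P(E)` with the same `O(1)`
whenever `E` maps onto the degree-one part. -/
theorem exists_closedImmersion (hE : Coh.IsQCoh E) (hj : RelProj.IsGrSymAlg E 𝒯 j) (k : E ⟶ 𝒮.toModule)
    (hk : ∀ (U : S.Opens) (hU : IsAffineOpen U) (x : Γ(E, U)), k.app U x ∈ 𝒮.deg U hU 1)
    (hsurj : ∀ (U : S.Opens) (hU : IsAffineOpen U), ∀ y ∈ 𝒮.deg U hU 1,
      ∃ x : Γ(E, U), (show 𝒮.presheaf.obj (op U) from k.app U x) = y)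
    (hgenT : 𝒯.IsGenDegOne) (hgen : 𝒮.IsGenDegOne) (hP : RelProj.IsRelProj 𝒯 p chP)
    (hQ : RelProj.IsRelProj 𝒮 q chQ) :
    ∃ h : Q ⟶ P, IsClosedImmersion h ∧ h ≫ p = q ∧
      ∀ (n : ℤ) (LP : P.Modules) (lamP : ∀ (U : S.Opens) (hU : IsAffineOpen U),
        LP ⟶ (Scheme.Modules.pushforward (RelProj.emb p chP U hU)).obj (GrTwist.twist (𝒯.deg U hU) n))
        (LQ : Q.Modules) (lamQ : ∀ (U : S.Opens) (hU : IsAffineOpen U),
        LQ ⟶ (Scheme.Modules.pushforward (RelProj.emb q chQ U hU)).obj (GrTwist.twist (𝒮.deg U hU) n)),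
        RelProj.IsRelTwist 𝒯 p chP n LP lamP → RelProj.IsRelTwist 𝒮 q chQ n LQ lamQ →
          Nonempty ((Scheme.Modules.pullback h).obj LP ≅ LQ) := by
  obtain ⟨φ, hφ, hval⟩ := exists_gradedHom hE hj k hk
  have h1 : ∀ (U : S.Opens) (hU : IsAffineOpen U), ∀ y ∈ 𝒮.deg U hU 1,
      ∃ x ∈ 𝒯.deg U hU 1, (φ.hom.app (op U)).hom x = y := fun U hU y hy => by
    obtain ⟨m, hm⟩ := hsurj U hU y hy
    exact ⟨_, hj.2 U hU m, (hval U m).trans hm⟩
  have hirr := irr_of_surj_one hgen φ hφ h1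
  obtain ⟨⟨h, hh, -⟩, hover⟩ := RP.existsUnique_map φ hφ hirr hP hQ
  exact ⟨h, RP.map_isClosedImmersion_of_genDegOne φ hφ hirr hP hQ hgen h1 hh, hover h hh,
    fun n LP lamP LQ lamQ hLP hLQ => RelTilde.nonempty_iso_pullback hgenT hP hQ hh hLP hLQ⟩

/-- `O(n)` exists on every relative `Proj`. -/
theorem exists_twist (hP : RelProj.IsRelProj 𝒯 p chP) (n : ℤ) : ∃ (L : P.Modules)
    (lam : ∀ (U : S.Opens) (hU : IsAffineOpen U),
      L ⟶ (Scheme.Modules.pushforward (RelProj.emb p chP U hU)).obj (GrTwist.twist (𝒯.deg U hU) n)),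
    RelProj.IsRelTwist 𝒯 p chP n L lam :=
  ⟨_, _, RelTilde.isRelTwist_of_isRel ((RelTilde.selfData 𝒯).isRel_glued p chP n hP)⟩

end Groth.L18.PBundle
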