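import Groth.Agent.L18.PBundle.RefineLocal
import Groth.Agent.L18.VeryAmpleSum

/-!
# `O(1)` on projective space is very ample
-/

set_option autoImplicit false
set_option linter.style.haveILetI false
set_option backward.isDefEq.respectTransparency false

noncomputable section

universe u

open CategoryTheory CategoryTheory.Limits AlgebraicGeometry TopologicalSpace Opposite HomogeneousLocalization
open Groth.L18
open Groth.L18.Frame (rs ro rs_rs rs_self rs_smul IsFrame)

namespace Groth.L18.PBundle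

/-- A morphism inducing a surjection on the rings of an affine open and of its affine preimage. -/
theorem isClosedImmersion_restrict_of_appLE {X P : Scheme.{u}} (r : X ⟶ P) {G : P.Opens} (hG : IsAffineOpen G)
    {W : X.Opens} (hW : IsAffineOpen W) (e : r ⁻¹ᵁ G = W)
    (hsurj : Function.Surjective (r.appLE G W e.ge).hom) : IsClosedImmersion (r ∣_ G) := by
  subst e
  rw [← Scheme.Hom.app_eq_appLE] at hsurj
  haveI : IsAffine G.toScheme := hG
  haveI : IsAffine (r ⁻¹ᵁ G).toScheme := hW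
  refine IsClosedImmersion.of_surjective_of_isAffine _ ?_
  rw [Scheme.Hom.appTop, morphismRestrict_app]
  intro y
  haveI : IsIso (X.presheaf.map (eqToHom (image_morphismRestrict_preimage r G ⊤)).op) := inferInstance
  obtain ⟨z, rfl⟩ := (ConcreteCategory.bijective_of_isIso
    (X.presheaf.map (eqToHom (image_morphismRestrict_preimage r G ⊤)).op)).2 y
  have hs2 : Function.Surjective (r.app (G.ι ''ᵁ ⊤)).hom := by
    rw [G.ι_image_top]; exact hsurj
  obtain ⟨a, ha⟩ := hs2 z
  exact ⟨a, congrArg _ ha⟩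

variable {n : ℕ} {R : Type u} [CommRing R]

/-- The coordinate sections frame `O(1)` on exactly their charts. -/
theorem le_D_of_isFrame {W : (PUP.P n R).Opens} {i : Fin (n + 1)}
    (h : IsFrame (PUP.O1 n R) W (rs (PUP.O1 n R) le_top (PUP.T i))) : W ≤ PUP.D i := by
  intro z hz
  obtain ⟨j, hj⟩ := Opens.mem_iSup.mp ((PS.iSup_chart (n := n) (R := R)).ge (trivial : z ∈ ⊤))
  have h1 := h.mono (inf_le_left : W ⊓ PUP.D j ≤ W)
  rw [rs_rs] at h1
  have h2 : IsFrame (PUP.O1 n R) (W ⊓ PUP.D j) (rs (PUP.O1 n R) le_top (PUP.T j)) := by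
    have := (PUP.T_frame (R := R) j).mono (inf_le_right : W ⊓ PUP.D j ≤ PUP.D j)
    rwa [rs_rs] at this
  have h3 := congrArg (rs (PUP.O1 n R) (inf_le_right : W ⊓ PUP.D j ≤ PUP.D j)) (PUP.cc_smul (R := R) j i)
  rw [rs_smul, rs_rs, rs_rs] at h3
  rw [← h3] at h1
  have hu := Groth.L18.Frame.isUnit_of_isFrame h2 h1
  have h4 := (PUP.P n R).basicOpen_of_isUnit hu
  rw [Scheme.basicOpen_res] at h4
  exact PUP.basicOpen_cc j i (h4.ge (x := z) ⟨hz, hj⟩).2

theorem isInvertible_O1 (n : ℕ) (R : Type u) [CommRing R] : PicF.IsInvertible (PUP.O1 n R) :=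
  GenLoc.isInvertible_of_frames fun x => by
    obtain ⟨i, hi⟩ := Opens.mem_iSup.mp ((PS.iSup_chart (n := n) (R := R)).ge (trivial : x ∈ ⊤))
    exact ⟨_, _, hi, PUP.T_frame i⟩

/-- The chart ring is generated by the scalars and the coordinates. -/
theorem eq_top_of_coord (i : Fin (n + 1)) (A : Subring Γ(PUP.P n R, PUP.D i))
    (hA0 : ∀ c, (PUP.pr n R).appLE ⊤ (PUP.D i) le_top c ∈ A) (hA1 : ∀ k, PUP.cc i k ∈ A) : A = ⊤ := by
  rw [eq_top_iff]
  rintro y -
  haveI : IsIso (Proj.awayToSection (CohB1.polyGrading n R) (MvPolynomial.X i)) :=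
    (Proj.basicOpenIsoAway (CohB1.polyGrading n R) (MvPolynomial.X i) (PS.X_mem n i) one_pos).isIso_hom
  obtain ⟨z, rfl⟩ := (ConcreteCategory.bijective_of_isIso
    (Proj.awayToSection (CohB1.polyGrading n R) (MvPolynomial.X i))).2 y
  show z ∈ A.comap (Proj.awayToSection (CohB1.polyGrading n R) (MvPolynomial.X i)).hom
  obtain ⟨p, rfl⟩ := PS.exists_eq_eval_coord i z
  induction p using MvPolynomial.induction_on with
  | C a =>
    rw [MvPolynomial.eval₂Hom_C]
    show Proj.awayToSection _ _ (PS.chartScalar n R i a) ∈ A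
    rw [show Proj.awayToSection (CohB1.polyGrading n R) (MvPolynomial.X i) (PS.chartScalar n R i a) = _ from
      congr($(Groth.L18.VASum.awayToSection_scalar (R := R) i) a)]
    convert hA0 ((Scheme.ΓSpecIso (CommRingCat.of R)).inv a) using 1
    simp [Scheme.Hom.appLE, ProjUP.toGlobal, Scheme.Hom.appTop]
  | add p q hp hq => rw [map_add]; exact add_mem hp hq
  | mul_X p k hp => rw [map_mul, MvPolynomial.eval₂Hom_X']; exact mul_mem hp (hA1 k)

/-- `O(1)` on `ℙⁿ_R` is very ample over `R`. -/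
theorem isRelVeryAmple_projSpace (n : ℕ) (R : Type u) [CommRing R] :
    RelProj.IsRelVeryAmple (PUP.pr n R) (PUP.O1 n R) := by
  let q := PUP.pr n R
  let L := PUP.O1 n R
  have hL : PicF.IsInvertible L := isInvertible_O1 n R
  haveI : QuasiCompact q := (inferInstance : QuasiCompact (CohB1.ProjSpace.toSpec n R))
  haveI : QuasiSeparated q := (inferInstance : QuasiSeparated (CohB1.ProjSpace.toSpec n R))
  haveI := Groth.L21.Extend.isQCoh_of_isInvertible hL
  haveI hQ : Coh.IsQCoh ((Scheme.Modules.pushforward q).obj L) := Groth.L16.QcqsPush.isQCoh_push L q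
  have hcov : ∀ x : PUP.P n R, ∃ i, x ∈ PUP.D i := fun x =>
    Opens.mem_iSup.mp ((PS.iSup_chart (n := n) (R := R)).ge (trivial : x ∈ ⊤))
  have hepi : Epi ((Scheme.Modules.pullbackPushforwardAdjunction q).counit.app L) :=
    counit_epi_of_gen q L fun x => by
      obtain ⟨i, hi⟩ := hcov x
      exact ⟨⊤, PUP.T i, PUP.D i, le_top, hi, PUP.T_frame i⟩
  obtain ⟨P, p, chart, hP⟩ := RP.exists_isRelProj (SymSheaf.symGr ((Scheme.Modules.pushforward q).obj L))
  have hj := SymSheaf.isGrSymAlg ((Scheme.Modules.pushforward q).obj L)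
  obtain ⟨O1, lam, hO1⟩ := exists_twist hP 1
  obtain ⟨φ, hφ⟩ := exists_taut hj hP hQ hO1
  obtain ⟨r, hr, hs⟩ := exists_morphism hj hQ hP hO1 hφ hL
    ((Scheme.Modules.pullbackPushforwardAdjunction q).counit.app L) hepi
  have h1 : adjSec ((Scheme.Modules.pullbackPushforwardAdjunction q).counit.app L) =
      𝟙 ((Scheme.Modules.pushforward q).obj L) := by
    rw [adjSec, Adjunction.homEquiv_unit]
    exact (Scheme.Modules.pullbackPushforwardAdjunction q).right_triangle_components _
  obtain ⟨τ, hτ⟩ := hs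
  have hs : Sol φ r hr (L := L) (𝟙 ((Scheme.Modules.pushforward q).obj L)) :=
    ⟨τ, fun U e => (hτ U e).trans (congrArg (rs L _) (congr(($h1).app U e)))⟩
  haveI : IsImmersion r := isImmersion_of_forall_exists r fun x => by
    obtain ⟨i, hi⟩ := hcov x
    have hT := isAffineOpen_top (Spec (CommRingCat.of R))
    let e₀ : Γ((Scheme.Modules.pushforward q).obj L, ⊤) := PUP.T i
    let G := dom chart (SymSheaf.j ((Scheme.Modules.pushforward q).obj L)) ⊤ hT e₀
    have hle : PUP.D i ≤ r ⁻¹ᵁ G := fun z hz =>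
      hs.mem hQ hj hO1 hφ hT e₀ (V := PUP.D i) le_top (PUP.T_frame i) hz
    have hge : r ⁻¹ᵁ G ≤ PUP.D i := le_D_of_isFrame (hs.isFrame hj hO1 hφ hT e₀)
    refine ⟨G, hle hi, ?_⟩
    have hsurj : Function.Surjective (r.appLE G (PUP.D i) hle).hom := by
      rw [← RingHom.range_eq_top]
      refine eq_top_of_coord i _ (fun c => ⟨p.appLE ⊤ G le_top c, ?_⟩)
        (fun k => ⟨fn chart hT e₀ (frac hj hT e₀ (show Γ((Scheme.Modules.pushforward q).obj L, ⊤) from PUP.T k)), ?_⟩)
      · refine (ConcreteCategory.congr_hom (Scheme.Hom.appLE_comp_appLE r p ⊤ G (PUP.D i) le_top hle) c).trans ?_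
        simp only [hr]
        rfl
      · refine (PUP.T_frame i).inj le_rfl ?_
        rw [rs_self]
        exact (hs.coeff hj hO1 hφ hT e₀ _ (V := PUP.D i) hle le_top _
          (fn_frac_smul hj hO1 hφ hT e₀ _)).trans (PUP.cc_smul i k).symm
    haveI := isClosedImmersion_restrict_of_appLE r (isAffineOpen_dom chart hj hT e₀)
      (Proj.isAffineOpen_basicOpen _ _ (PS.X_mem n i) one_pos) (le_antisymm hge hle) hsurj
    infer_instance
  exact isRelVeryAmple_of_sol hQ hj hP hO1 hs

/-- `O(1)` on `ℙⁿ_Y` is very ample over `Y`. -/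
theorem isRelVeryAmple_twistOver (n : ℕ) (Y : Scheme.{u}) :
    RelProj.IsRelVeryAmple (pullback.snd (CohB1.ProjSpace.toSpec n (ULift.{u} ℤ)) (specULiftZIsTerminal.from Y))
      (Twist.twistOver n Y 1) :=
  isRelVeryAmple_baseChange (IsPullback.of_hasPullback _ _) (isRelVeryAmple_projSpace n (ULift.{u} ℤ))

end Groth.L18.PBundle
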