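import Groth.Agent.L18.PBundle.BaseTwist
import Groth.Agent.L18.PBundle.Embed
import Groth.Agent.L18.ProjAlg.BaseChange

/-!
# Operations on relatively very ample modules
-/

set_option autoImplicit false

noncomputable section

universe u

open CategoryTheory CategoryTheory.Limits AlgebraicGeometry TopologicalSpace Opposite

namespace Groth.L18.PBundle

variable {X Y : Scheme.{u}} {f : X ⟶ Y} {L : X.Modules}

/-- Very ampleness only depends on the isomorphism class. -/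
theorem isRelVeryAmple_of_iso {M : X.Modules} (e : M ≅ L) (h : RelProj.IsRelVeryAmple f L) :
    RelProj.IsRelVeryAmple f M := by
  obtain ⟨E, hE, 𝒯, j, hj, P, p, chart, hP, O1, lam, hO1, i, hi, hif, ⟨e'⟩⟩ := h
  exact ⟨E, hE, 𝒯, j, hj, P, p, chart, hP, O1, lam, hO1, i, hi, hif, ⟨e ≪≫ e'⟩⟩

/-- Restriction along an immersion. -/
theorem isRelVeryAmple_comp_immersion {W : Scheme.{u}} (k : W ⟶ X) [IsImmersion k]
    (h : RelProj.IsRelVeryAmple f L) : RelProj.IsRelVeryAmple (k ≫ f) ((Scheme.Modules.pullback k).obj L) := by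
  obtain ⟨E, hE, 𝒯, j, hj, P, p, chart, hP, O1, lam, hO1, i, hi, rfl, ⟨e⟩⟩ := h
  haveI := hi
  exact ⟨E, hE, 𝒯, j, hj, P, p, chart, hP, O1, lam, hO1, k ≫ i, inferInstance, Category.assoc _ _ _,
    ⟨(Scheme.Modules.pullback k).mapIso e ≪≫ (Scheme.Modules.pullbackComp k i).app O1⟩⟩

/-- A relative `Proj` generated in degree one has a model over any base, with the same `O(1)`. -/
theorem exists_baseChange {P : Scheme.{u}} {𝒮 : RelProj.QCGrAlg Y} (hgen : 𝒮.IsGenDegOne) {p : P ⟶ Y}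
    {chart : ∀ (U : Y.Opens) (hU : IsAffineOpen U), (((p ⁻¹ᵁ U : P.Opens) : Scheme.{u}) ≅ Proj (𝒮.deg U hU))}
    (hP : RelProj.IsRelProj 𝒮 p chart) {O1 : P.Modules}
    {lam : ∀ (U : Y.Opens) (hU : IsAffineOpen U),
      O1 ⟶ (Scheme.Modules.pushforward (RelProj.emb p chart U hU)).obj (GrTwist.twist (𝒮.deg U hU) 1)}
    (hO1 : RelProj.IsRelTwist 𝒮 p chart 1 O1 lam) {Y' : Scheme.{u}} (g : Y' ⟶ Y) :
    ∃ (𝒮' : RelProj.QCGrAlg Y') (P' : Scheme.{u}) (p' : P' ⟶ Y')
      (chart' : ∀ (U : Y'.Opens) (hU : IsAffineOpen U), (((p' ⁻¹ᵁ U : P'.Opens) : Scheme.{u}) ≅ Proj (𝒮'.deg U hU)))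
      (O1' : P'.Modules)
      (lam' : ∀ (U : Y'.Opens) (hU : IsAffineOpen U),
        O1' ⟶ (Scheme.Modules.pushforward (RelProj.emb p' chart' U hU)).obj (GrTwist.twist (𝒮'.deg U hU) 1))
      (h : P' ⟶ P),
      𝒮'.IsGenDegOne ∧ RelProj.IsRelProj 𝒮' p' chart' ∧ RelProj.IsRelTwist 𝒮' p' chart' 1 O1' lam' ∧
        IsPullback h p' p g ∧ Nonempty ((Scheme.Modules.pullback h).obj O1 ≅ O1') := by
  have hu := PullGrade.isQBaseChange_pbHom g 𝒮.toQCAlg
  obtain ⟨P', p', chart', hP'⟩ := RP.exists_isRelProj (PullGrade.grAlg (PullGrade.pbHom g 𝒮.toQCAlg) hu)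
  obtain ⟨O1', lam', hO1'⟩ := exists_twist hP' 1
  obtain ⟨⟨h, hh⟩, hall⟩ := QMap.isPullback_of_isQBaseChange (PullGrade.grHom (PullGrade.pbHom g 𝒮.toQCAlg) hu) hP hP' hu
  exact ⟨_, P', p', chart', O1', lam', h, PullGrade.isGenDegOne _ hu hgen, hP', hO1', hall h hh,
    nonempty_iso_basePull (isInduced_of_isQBaseChange hP hu hh) hP hP' hO1 hO1' hgen⟩

/-- Very ampleness is stable under base change. -/
theorem isRelVeryAmple_baseChange {X' Y' : Scheme.{u}} {g : Y' ⟶ Y} {g' : X' ⟶ X} {f' : X' ⟶ Y'}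
    (hsq : IsPullback g' f' f g) (hva : RelProj.IsRelVeryAmple f L) :
    RelProj.IsRelVeryAmple f' ((Scheme.Modules.pullback g').obj L) := by
  obtain ⟨E, hE, 𝒯, j, hj, P, p, chart, hP, O1, lam, hO1, i, hi, rfl, ⟨e⟩⟩ := hva
  obtain ⟨𝒮', P', p', chart', O1', lam', h, hgen, hP', hO1', hpb, ⟨e₁⟩⟩ :=
    exists_baseChange (isGenDegOne_of_isGrSymAlg hE hj) hP hO1 g
  let i' : X' ⟶ P' := hpb.lift (g' ≫ i) f' (by rw [Category.assoc]; exact hsq.w)
  have h1 : i' ≫ h = g' ≫ i := hpb.lift_fst _ _ _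
  have h2 : i' ≫ p' = f' := hpb.lift_snd _ _ _
  have hsq' : IsPullback g' i' i h := by
    refine IsPullback.of_bot ?_ h1.symm hpb
    rw [h2]
    exact hsq
  haveI := hi
  haveI : IsImmersion i' := MorphismProperty.of_isPullback hsq' hi
  refine isRelVeryAmple_of_immersion hgen hP' hO1' i' h2 ?_
  exact (Scheme.Modules.pullback g').mapIso e ≪≫ (Scheme.Modules.pullbackComp g' i).app O1 ≪≫
    (Scheme.Modules.pullbackCongr h1.symm).app O1 ≪≫ ((Scheme.Modules.pullbackComp i' h).app O1).symm ≪≫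
    (Scheme.Modules.pullback i').mapIso e₁

/-- Very ampleness for a composite implies very ampleness for the first factor. -/
theorem isRelVeryAmple_of_comp {Z : Scheme.{u}} {g : Y ⟶ Z} (hva : RelProj.IsRelVeryAmple (f ≫ g) L) :
    RelProj.IsRelVeryAmple f L := by
  let γ : X ⟶ pullback (f ≫ g) g := pullback.lift (𝟙 X) f (by simp)
  haveI : IsImmersion (γ ≫ pullback.fst (f ≫ g) g) := by rw [pullback.lift_fst]; infer_instance
  haveI : IsImmersion γ := IsImmersion.of_comp γ (pullback.fst (f ≫ g) g)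
  have h := isRelVeryAmple_comp_immersion γ
    (isRelVeryAmple_baseChange (IsPullback.of_hasPullback (f ≫ g) g) hva)
  rw [pullback.lift_snd] at h
  exact isRelVeryAmple_of_iso (((Scheme.Modules.pullbackId X).app L).symm ≪≫
    (Scheme.Modules.pullbackCongr (pullback.lift_fst _ _ _).symm).app L ≪≫
    ((Scheme.Modules.pullbackComp γ (pullback.fst (f ≫ g) g)).app L).symm) h

end Groth.L18.PBundle
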