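import Groth.Agent.L18.PBundle.VeryAmpleSec
import Groth.Agent.L18.PBundle.VeryAmpleOps
import Groth.Agent.L18.AmpleLocal
import Groth.Agent.L16.QcqsPush
import Groth.Agent.L21.Extend.Semilocal

/-!
# Very ampleness is local on the base
-/

set_option autoImplicit false
set_option linter.style.haveILetI false
set_option backward.isDefEq.respectTransparency false

noncomputable section

universe u

open CategoryTheory CategoryTheory.Limits AlgebraicGeometry TopologicalSpace Opposite HomogeneousLocalization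
open Groth.L18
open Groth.L18.Frame (rs ro rs_rs rs_self rs_smul IsFrame pull restrict_smul')
open Groth.L18.Ample (hom_app_rs isFrame_restrict_iff)

namespace Groth.L18.PBundle

/-- Coordinates on an open of the target lift a solution. -/
theorem restrict_comp_hom {X Y₀ P P₀ : Scheme.{u}} {E₀ : Y₀.Modules} {𝒮₀ : RelProj.QCGrAlg Y₀}
    {j₀ : E₀ ⟶ 𝒮₀.toModule} {p₀ : P₀ ⟶ Y₀}
    {chart₀ : ∀ (U : Y₀.Opens) (hU : IsAffineOpen U), (((p₀ ⁻¹ᵁ U : P₀.Opens) : Scheme.{u}) ≅ Proj (𝒮₀.deg U hU))}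
    {O1₀ : P₀.Modules} {lam₀ : ∀ (U : Y₀.Opens) (hU : IsAffineOpen U),
      O1₀ ⟶ (Scheme.Modules.pushforward (RelProj.emb p₀ chart₀ U hU)).obj (GrTwist.twist (𝒮₀.deg U hU) 1)}
    {φ₀ : E₀ ⟶ (Scheme.Modules.pushforward p₀).obj O1₀}
    (hE₀ : Coh.IsQCoh E₀) (hj₀ : RelProj.IsGrSymAlg E₀ 𝒮₀ j₀) (hP₀ : RelProj.IsRelProj 𝒮₀ p₀ chart₀)
    (hO1₀ : RelProj.IsRelTwist 𝒮₀ p₀ chart₀ 1 O1₀ lam₀) (hφ₀ : IsTaut φ₀ lam₀ j₀)
    {g₀ : X ⟶ Y₀} {L₀ : X.Modules} {i : X ⟶ P₀} {hi : i ≫ p₀ = g₀}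
    {w₀ : E₀ ⟶ (Scheme.Modules.pushforward g₀).obj L₀} (hs₀ : Sol φ₀ i hi w₀)
    (r : X ⟶ P) (G : P.Opens) {U : Y₀.Opens} (hU : IsAffineOpen U) (e₀ : Γ(E₀, U))
    (ψ : Away (𝒮₀.deg U hU) (el j₀ e₀) →+* Γ(P, G)) (hT : r ⁻¹ᵁ G ≤ g₀ ⁻¹ᵁ U)
    (hfr : IsFrame L₀ (r ⁻¹ᵁ G) (rs L₀ hT (w₀.app U e₀)))
    (hψT : ∀ e, (r.app G (ψ (frac hj₀ hU e₀ e))) • rs L₀ hT (w₀.app U e₀) = rs L₀ hT (w₀.app U e))
    (hTg : ∀ c, r.app G (ψ (strAway hU (j := j₀) e₀ c)) = g₀.appLE U (r ⁻¹ᵁ G) hT c) :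
    (r ∣_ G) ≫ hom chart₀ hj₀ hU e₀ ψ G.ι (fun z _ => z.2) = (r ⁻¹ᵁ G).ι ≫ i := by
  let T := r ⁻¹ᵁ G
  have hιG : ⊤ ≤ G.ι ⁻¹ᵁ G := fun z _ => z.2
  have hιT : ⊤ ≤ T.ι ⁻¹ᵁ T := fun z _ => z.2
  let ψT : Away (𝒮₀.deg U hU) (el j₀ e₀) →+* Γ(X, T) := (r.app G).hom.comp ψ
  have hcomp : (r ∣_ G) ≫ hom chart₀ hj₀ hU e₀ ψ G.ι hιG = hom chart₀ hj₀ hU e₀ ψT T.ι hιT := by
    refine (hom_comp ψ (r ∣_ G) G.ι hιG (fun z _ => ((r ∣_ G).base z).2)).trans ?_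
    simp only [morphismRestrict_ι]
    unfold hom
    congr 3
  have h1 : Sol φ₀ (hom chart₀ hj₀ hU e₀ ψT T.ι hιT) (hom_p hP₀ ψT hT hTg T.ι hιT) (pullSecMap w₀ T.ι) :=
    sol_of_crit hE₀ hj₀ hO1₀ hφ₀ _ fun z => hom_crit w₀ hT hfr ψT hψT T.ι hιT z
  have h2 := hs₀.comp T.ι (show (T.ι ≫ i) ≫ p₀ = T.ι ≫ g₀ by rw [Category.assoc, hi])
  exact hcomp.trans (sol_unique hE₀ hj₀ hP₀ hO1₀ hφ₀ h1 h2)

/-- A morphism factoring an immersion through coordinates on an open of the target. -/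
theorem isImmersion_restrict_of_coord {X Y₀ P P₀ : Scheme.{u}} {E₀ : Y₀.Modules} {𝒮₀ : RelProj.QCGrAlg Y₀}
    {j₀ : E₀ ⟶ 𝒮₀.toModule} {p₀ : P₀ ⟶ Y₀}
    {chart₀ : ∀ (U : Y₀.Opens) (hU : IsAffineOpen U), (((p₀ ⁻¹ᵁ U : P₀.Opens) : Scheme.{u}) ≅ Proj (𝒮₀.deg U hU))}
    {O1₀ : P₀.Modules} {lam₀ : ∀ (U : Y₀.Opens) (hU : IsAffineOpen U),
      O1₀ ⟶ (Scheme.Modules.pushforward (RelProj.emb p₀ chart₀ U hU)).obj (GrTwist.twist (𝒮₀.deg U hU) 1)}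
    {φ₀ : E₀ ⟶ (Scheme.Modules.pushforward p₀).obj O1₀}
    (hE₀ : Coh.IsQCoh E₀) (hj₀ : RelProj.IsGrSymAlg E₀ 𝒮₀ j₀) (hP₀ : RelProj.IsRelProj 𝒮₀ p₀ chart₀)
    (hO1₀ : RelProj.IsRelTwist 𝒮₀ p₀ chart₀ 1 O1₀ lam₀) (hφ₀ : IsTaut φ₀ lam₀ j₀)
    {g₀ : X ⟶ Y₀} {L₀ : X.Modules} {i : X ⟶ P₀} [IsImmersion i] {hi : i ≫ p₀ = g₀}
    {w₀ : E₀ ⟶ (Scheme.Modules.pushforward g₀).obj L₀} (hs₀ : Sol φ₀ i hi w₀)
    (r : X ⟶ P) (G : P.Opens) {U : Y₀.Opens} (hU : IsAffineOpen U) (e₀ : Γ(E₀, U))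
    (ψ : Away (𝒮₀.deg U hU) (el j₀ e₀) →+* Γ(P, G)) (hT : r ⁻¹ᵁ G ≤ g₀ ⁻¹ᵁ U)
    (hfr : IsFrame L₀ (r ⁻¹ᵁ G) (rs L₀ hT (w₀.app U e₀)))
    (hψT : ∀ e, (r.app G (ψ (frac hj₀ hU e₀ e))) • rs L₀ hT (w₀.app U e₀) = rs L₀ hT (w₀.app U e))
    (hTg : ∀ c, r.app G (ψ (strAway hU (j := j₀) e₀ c)) = g₀.appLE U (r ⁻¹ᵁ G) hT c) :
    IsImmersion (r ∣_ G) := by
  haveI : IsImmersion ((r ∣_ G) ≫ hom chart₀ hj₀ hU e₀ ψ G.ι (fun z _ => z.2)) := by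
    rw [restrict_comp_hom hE₀ hj₀ hP₀ hO1₀ hφ₀ hs₀ r G hU e₀ ψ hT hfr hψT hTg]; infer_instance
  exact IsImmersion.of_comp _ (hom chart₀ hj₀ hU e₀ ψ G.ι (fun z _ => z.2))

variable {X Y : Scheme.{u}} {q : X ⟶ Y} {L : X.Modules}

/-- Sections of a restriction over a preimage, as sections of the direct image. -/
def globSec (U : Y.Opens) (U' : U.toScheme.Opens)
    (m : Γ(L.restrict (q ⁻¹ᵁ U).ι, (q ∣_ U) ⁻¹ᵁ U')) : Γ((Scheme.Modules.pushforward q).obj L, U.ι ''ᵁ U') :=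
  rs L (image_morphismRestrict_preimage q U U').ge
    (show Γ(L, (q ⁻¹ᵁ U).ι ''ᵁ ((q ∣_ U) ⁻¹ᵁ U')) from m)

theorem globSec_add (U : Y.Opens) (U' : U.toScheme.Opens) (m m' : Γ(L.restrict (q ⁻¹ᵁ U).ι, (q ∣_ U) ⁻¹ᵁ U')) :
    globSec U U' (m + m') = globSec U U' m + globSec U U' m' :=
  map_add (L.presheaf.map (homOfLE (image_morphismRestrict_preimage q U U').ge).op).hom _ _

theorem globSec_smul (U : Y.Opens) (U' : U.toScheme.Opens) (c : Γ(U.toScheme, U'))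
    (m : Γ(L.restrict (q ⁻¹ᵁ U).ι, (q ∣_ U) ⁻¹ᵁ U')) :
    globSec U U' ((q ∣_ U).app U' c • m) = (show Γ(Y, U.ι ''ᵁ U') from c) • globSec U U' m := by
  refine (congrArg (rs L _) (restrict_smul' L (q ⁻¹ᵁ U) _ ((q ∣_ U).app U' c) m)).trans ?_
  rw [rs_smul]
  show _ = (q.app (U.ι ''ᵁ U') (show Γ(Y, U.ι ''ᵁ U') from c)) •
    rs L (image_morphismRestrict_preimage q U U').ge (show Γ(L, (q ⁻¹ᵁ U).ι ''ᵁ ((q ∣_ U) ⁻¹ᵁ U')) from m)
  refine congrArg (· • _) ?_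
  rw [morphismRestrict_app]
  show ro _ (ro _ (q.app (U.ι ''ᵁ U') (show Γ(Y, U.ι ''ᵁ U') from c))) = _
  rw [Groth.L18.Frame.ro_ro, Groth.L18.Frame.ro_self]

/-- A section of the auxiliary module as a section of the direct image. -/
def coordF {U : Y.Opens} {E₀ : U.toScheme.Modules}
    (w : E₀ ⟶ (Scheme.Modules.pushforward (q ∣_ U)).obj (L.restrict (q ⁻¹ᵁ U).ι)) (U' : U.toScheme.Opens)
    (e : Γ(E₀, U')) : Γ((Scheme.Modules.pushforward q).obj L, U.ι ''ᵁ U') :=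
  globSec U U' (w.app U' e)

theorem coordF_add {U : Y.Opens} {E₀ : U.toScheme.Modules}
    (w : E₀ ⟶ (Scheme.Modules.pushforward (q ∣_ U)).obj (L.restrict (q ⁻¹ᵁ U).ι)) (U' : U.toScheme.Opens)
    (e e' : Γ(E₀, U')) : coordF w U' (e + e') = coordF w U' e + coordF w U' e' := by
  unfold coordF
  rw [map_add (w.app U').hom e e']
  exact globSec_add U U' _ _

theorem coordF_smul {U : Y.Opens} {E₀ : U.toScheme.Modules}
    (w : E₀ ⟶ (Scheme.Modules.pushforward (q ∣_ U)).obj (L.restrict (q ⁻¹ᵁ U).ι)) (U' : U.toScheme.Opens)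
    (c : Γ(U.toScheme, U')) (e : Γ(E₀, U')) :
    coordF w U' (c • e) = (show Γ(Y, U.ι ''ᵁ U') from c) • coordF w U' e := by
  unfold coordF
  rw [Scheme.Modules.Hom.app_smul w c e]
  exact globSec_smul U U' c _

theorem ι_comp_appLE {Z : Scheme.{u}} (V : X.Opens) (f : X ⟶ Z) (A : Z.Opens) (W : V.toScheme.Opens)
    (e : W ≤ (V.ι ≫ f) ⁻¹ᵁ A) (e' : V.ι ''ᵁ W ≤ f ⁻¹ᵁ A) :
    (V.ι ≫ f).appLE A W e = f.appLE A (V.ι ''ᵁ W) e' := by
  simp [Scheme.Hom.appLE, Scheme.Opens.ι_app]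
  rw [← Functor.map_comp]
  rfl

theorem exists_frame_of_restrict (hL : PicF.IsInvertible L) {U₁ : Y.Opens}
    (hva : RelProj.IsRelVeryAmple (q ∣_ U₁) (L.restrict (q ⁻¹ᵁ U₁).ι)) (x : X) (hx₁ : x ∈ q ⁻¹ᵁ U₁) :
    ∃ (V : Y.Opens) (m : Γ(L, q ⁻¹ᵁ V)) (W : X.Opens) (hW : W ≤ q ⁻¹ᵁ V), x ∈ W ∧ IsFrame L W (rs L hW m) := by
  obtain ⟨E₀, 𝒮₀, j₀, P₀, p₀, chart₀, O1₀, lam₀, φ₀, i, hi, s, hE₀, -, -, -, -, -, hs, -⟩ :=
    exists_data hva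
  obtain ⟨U', hU', e₀, V, hV, hxV, hf⟩ := exists_datum hE₀
    (Groth.L18.Ample.isInvertible_restrict hL (q ⁻¹ᵁ U₁)) s hs ⟨x, hx₁⟩
  let ι := (q ⁻¹ᵁ U₁).ι
  have hle : ι ''ᵁ V ≤ q ⁻¹ᵁ (U₁.ι ''ᵁ U') :=
    (ι.image_mono hV).trans (image_morphismRestrict_preimage q _ U').le
  refine ⟨_, globSec U₁ U' ((adjSec s).app U' e₀), ι ''ᵁ V, hle, ⟨⟨x, hx₁⟩, hxV, rfl⟩, ?_⟩
  have h := (isFrame_restrict_iff L _ V _).1 hf
  rw [globSec, rs_rs]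
  exact h

/-- The canonical morphism restricts to an immersion over an open where `L` is very ample. -/
theorem exists_isImmersion_restrict {U₁ : Y.Opens}
    (hva : RelProj.IsRelVeryAmple (q ∣_ U₁) (L.restrict (q ⁻¹ᵁ U₁).ι))
    (hQ : Coh.IsQCoh ((Scheme.Modules.pushforward q).obj L)) {𝒮 : RelProj.QCGrAlg Y}
    {j : (Scheme.Modules.pushforward q).obj L ⟶ 𝒮.toModule} {P : Scheme.{u}} {p : P ⟶ Y}
    {chart : ∀ (U : Y.Opens) (hU : IsAffineOpen U), (((p ⁻¹ᵁ U : P.Opens) : Scheme.{u}) ≅ Proj (𝒮.deg U hU))}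
    {O1 : P.Modules} {lam : ∀ (U : Y.Opens) (hU : IsAffineOpen U),
      O1 ⟶ (Scheme.Modules.pushforward (RelProj.emb p chart U hU)).obj (GrTwist.twist (𝒮.deg U hU) 1)}
    {φ : (Scheme.Modules.pushforward q).obj L ⟶ (Scheme.Modules.pushforward p).obj O1}
    (hj : RelProj.IsGrSymAlg ((Scheme.Modules.pushforward q).obj L) 𝒮 j)
    (hO1 : RelProj.IsRelTwist 𝒮 p chart 1 O1 lam) (hφ : IsTaut φ lam j) {r : X ⟶ P} {hr : r ≫ p = q}
    (hs : Sol φ r hr (L := L) (𝟙 ((Scheme.Modules.pushforward q).obj L))) (x : X) (hx₁ : x ∈ q ⁻¹ᵁ U₁) :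
    ∃ G : P.Opens, r.base x ∈ G ∧ IsImmersion (r ∣_ G) := by
  let ι := (q ⁻¹ᵁ U₁).ι
  obtain ⟨E₀, 𝒮₀, j₀, P₀, p₀, chart₀, O1₀, lam₀, φ₀, i, hi, s, hE₀, hj₀, hP₀, hO1₀, hφ₀, hii, -, hs₀⟩ :=
    exists_data hva
  haveI := hii
  let x' : ↥((q ⁻¹ᵁ U₁ : X.Opens) : Scheme.{u}) := ⟨x, hx₁⟩
  obtain ⟨_, ⟨U', hU', rfl⟩, hxU', -⟩ :=
    U₁.toScheme.isBasis_affineOpens.exists_subset_of_mem_open (Set.mem_univ ((q ∣_ U₁) x')) isOpen_univ
  obtain ⟨e₀, he₀⟩ := exists_mem_dom (chart := chart₀) hj₀ hU' hE₀ (z := i x') (le_base hi U' hxU')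
  let U'' : Y.Opens := U₁.ι ''ᵁ U'
  have hU'' : IsAffineOpen U'' := hU'.image_of_isOpenImmersion U₁.ι
  let F : Γ(E₀, U') → Γ((Scheme.Modules.pushforward q).obj L, U'') := coordF (adjSec s) U'
  let G := dom chart j U'' hU'' (F e₀)
  let T := r ⁻¹ᵁ G
  have hTU : T ≤ q ⁻¹ᵁ U'' := (r.preimage_mono (dom_le chart j U'' hU'' (F e₀))).trans (base_le hr U'')
  -- the point lands in the standard open
  have hxT : x ∈ T := by
    have hf := hs₀.isFrame hj₀ hO1₀ hφ₀ hU' e₀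
    have hle : ι ''ᵁ (i ⁻¹ᵁ dom chart₀ j₀ U' hU' e₀) ≤ q ⁻¹ᵁ U'' :=
      (ι.image_mono ((i.preimage_mono (dom_le chart₀ j₀ U' hU' e₀)).trans (base_le hi U'))).trans
        (image_morphismRestrict_preimage q U₁ U').le
    refine hs.mem hQ hj hO1 hφ hU'' (F e₀) hle ?_ ⟨x', he₀, rfl⟩
    have h := (isFrame_restrict_iff L _ _ _).1 hf
    show IsFrame L _ (rs L hle (globSec U₁ U' ((adjSec s).app U' e₀)))
    rw [globSec, rs_rs]
    exact h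
  refine ⟨G, hxT, ?_⟩
  -- it suffices to treat the restriction to the preimage of `U₁`
  suffices himm : IsImmersion ((ι ≫ r) ∣_ G) by
    haveI : IsIso (ι ∣_ T) := by
      have hz : ∀ z : ↥(T : Scheme.{u}), z.1 ∈ q ⁻¹ᵁ U₁ := fun z =>
        (U₁.ι.image_le_opensRange U').trans U₁.opensRange_ι.le (hTU z.2)
      have hsurj : Function.Surjective (ι ∣_ T) := fun z => ⟨⟨⟨z.1, hz z⟩, z.2⟩, Subtype.ext (by
        show (((ι ∣_ T) ≫ T.ι).base _) = _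
        rw [morphismRestrict_ι]
        rfl)⟩
      haveI : Surjective (ι ∣_ T) := ⟨hsurj⟩
      exact (isIso_iff_isOpenImmersion_and_surjective _).2 ⟨inferInstance, inferInstance⟩
    rw [morphismRestrict_comp] at himm
    exact (MorphismProperty.cancel_left_of_respectsIso (@IsImmersion) (ι ∣_ T) (r ∣_ G)).1 himm
  -- coordinates
  have huniq : ∀ (a b : Γ(P, G)), a • rs O1 (dom_le chart _ U'' hU'' (F e₀)) (sec φ (F e₀)) =
      b • rs O1 (dom_le chart _ U'' hU'' (F e₀)) (sec φ (F e₀)) → a = b := fun a b hab =>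
    (isFrame_dom hj hO1 hφ hU'' (F e₀)).inj le_rfl (a := a) (b := b) (by rw [rs_self]; exact hab)
  let a : Γ(E₀, U') → Γ(P, G) := fun e => fn chart hU'' (F e₀) (frac hj hU'' (F e₀) (F e))
  have ha : ∀ e, a e • rs O1 (dom_le chart _ U'' hU'' (F e₀)) (sec φ (F e₀)) =
      rs O1 (dom_le chart _ U'' hU'' (F e₀)) (sec φ (F e)) := fun e =>
    fn_frac_smul hj hO1 hφ hU'' (F e₀) (F e)
  obtain ⟨ψ, hψ0, hψ1⟩ := exists_awayHom hj₀ hU' e₀ hE₀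
    ((p.appLE U'' G (dom_le chart _ U'' hU'' (F e₀))).hom : Γ(Y, U'') →+* Γ(P, G)) a
    (fun e e' => huniq _ _ (by
      rw [ha, add_smul, ha, ha, show F (e + e') = F e + F e' from coordF_add _ _ e e']
      exact (congrArg (rs O1 _) (map_add (φ.app U'').hom _ _)).trans (map_add _ _ _)))
    (fun c e => huniq _ _ (by
      rw [ha, mul_smul, ha, show F (c • e) = (show Γ(Y, U'') from c) • F e from coordF_smul _ _ c e]
      refine (congrArg (rs O1 _) (Scheme.Modules.Hom.app_smul φ (show Γ(Y, U'') from c) (F e))).trans ?_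
      exact rs_smul O1 _ (p.app U'' (show Γ(Y, U'') from c)) (sec φ (F e))))
    (huniq _ _ (by rw [ha, one_smul]))
  have hT' : (ι ≫ r) ⁻¹ᵁ G ≤ (q ∣_ U₁) ⁻¹ᵁ U' := by
    intro z hz
    obtain ⟨z', hz', e⟩ := (image_morphismRestrict_preimage q U₁ U').ge (hTU (show ι.base z ∈ T from hz))
    rwa [ι.isOpenEmbedding.injective e] at hz'
  have hle : ι ''ᵁ ((ι ≫ r) ⁻¹ᵁ G) ≤ T := ι.image_preimage_le T
  have hf : IsFrame (L.restrict ι) ((ι ≫ r) ⁻¹ᵁ G) (rs (L.restrict ι) hT' ((adjSec s).app U' e₀)) := by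
    refine (isFrame_restrict_iff L _ _ _).2 ?_
    have h := ((hs.isFrame hj hO1 hφ hU'' (F e₀))).mono hle
    rw [rs_rs] at h
    have h' : IsFrame L _ (rs L (hle.trans hTU) (globSec U₁ U' ((adjSec s).app U' e₀))) := h
    rw [globSec, rs_rs] at h'
    exact h'
  refine isImmersion_restrict_of_coord hE₀ hj₀ hP₀ hO1₀ hφ₀ hs₀ (ι ≫ r) G hU' e₀ ψ hT' hf (fun e => ?_) fun c => ?_
  · have h2 := hs.coeff hj hO1 hφ hU'' (F e₀) (F e) (V := T) le_rfl hTU (a e) (ha e)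
    replace h2 : r.appLE G T le_rfl (a e) • rs L hTU (show Γ(L, q ⁻¹ᵁ U'') from F e₀) =
        rs L hTU (show Γ(L, q ⁻¹ᵁ U'') from F e) := h2
    have h3 := congrArg (rs L hle) h2
    rw [rs_smul] at h3
    simp only [F, coordF, globSec, rs_rs] at h3
    rw [hψ1]
    refine (restrict_smul' L _ _ _ _).trans (Eq.trans ?_ h3)
    refine congrArg (· • _) ?_
    rw [Scheme.Hom.comp_app, CommRingCat.comp_apply, Scheme.Opens.ι_app, Scheme.Hom.app_eq_appLE]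
    rfl
  · rw [hψ0, Scheme.Hom.app_eq_appLE]
    show (ι ≫ r).appLE G _ _ (p.appLE U'' G _ (show Γ(Y, U'') from c)) = _
    rw [← CommRingCat.comp_apply, Scheme.Hom.appLE_comp_appLE, morphismRestrict_appLE]
    simp only [Category.assoc, hr]
    exact congr($(ι_comp_appLE (q ⁻¹ᵁ U₁) q U'' _ _ _) c)

/-- Very ampleness is local on the base. -/
theorem isRelVeryAmple_of_openCover [QuasiCompact q] (hL : PicF.IsInvertible L)
    (h : ∀ y : Y, ∃ U : Y.Opens, y ∈ U ∧ RelProj.IsRelVeryAmple (q ∣_ U) (L.restrict (q ⁻¹ᵁ U).ι)) :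
    RelProj.IsRelVeryAmple q L := by
  choose U hyU hva using h
  haveI : QuasiSeparated q := by
    refine IsZariskiLocalAtTarget.of_iSup_eq_top (P := @QuasiSeparated) U
      (top_le_iff.mp fun y _ => Opens.mem_iSup.mpr ⟨y, hyU y⟩) fun y => ?_
    obtain ⟨E, hE, 𝒮, j, hj, P, p, chart, hP, O1, lam, hO1, i, hi, hip, -⟩ := hva y
    haveI : IsSeparated p := RP.isSeparated hP
    rw [← hip]
    infer_instance
  haveI := Groth.L21.Extend.isQCoh_of_isInvertible hL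
  haveI hQ : Coh.IsQCoh ((Scheme.Modules.pushforward q).obj L) := Groth.L16.QcqsPush.isQCoh_push L q
  have hepi : Epi ((Scheme.Modules.pullbackPushforwardAdjunction q).counit.app L) :=
    counit_epi_of_gen q L fun x => exists_frame_of_restrict hL (hva (q.base x)) x (hyU _)
  obtain ⟨P, p, chart, hP⟩ := RP.exists_isRelProj (SymSheaf.symGr ((Scheme.Modules.pushforward q).obj L))
  have hj := SymSheaf.isGrSymAlg ((Scheme.Modules.pushforward q).obj L)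
  obtain ⟨O1, lam, hO1⟩ := exists_twist hP 1
  obtain ⟨φ, hφ⟩ := exists_taut hj hP hQ hO1
  obtain ⟨r, hr, hs⟩ := exists_morphism hj hQ hP hO1 hφ hL
    ((Scheme.Modules.pullbackPushforwardAdjunction q).counit.app L) hepi
  have h1 : adjSec ((Scheme.Modules.pullbackPushforwardAdjunction q).counit.app L) =
      𝟙 ((Scheme.Modules.pushforward q).obj L) := by
    rw [adjSec, Adjunction.homEquiv_unit]
    exact (Scheme.Modules.pullbackPushforwardAdjunction q).right_triangle_components _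
  obtain ⟨τ, hτ⟩ := hs
  have hs : Sol φ r hr (L := L) (𝟙 ((Scheme.Modules.pushforward q).obj L)) :=
    ⟨τ, fun U e => (hτ U e).trans (congrArg (rs L _) (congr(($h1).app U e)))⟩
  haveI : IsImmersion r := isImmersion_of_forall_exists r fun x =>
    exists_isImmersion_restrict (hva (q.base x)) hQ hj hO1 hφ hs x (hyU _)
  exact isRelVeryAmple_of_sol hQ hj hP hO1 hs

end Groth.L18.PBundle
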