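import Groth.Agent.L18.PBundle.UPBasic
import Groth.Agent.L18.PBundle.SymMap
import Groth.Agent.L16.AffineBC.Local

/-!
# The canonical map `E ⟶ p_* O(1)`
-/

set_option autoImplicit false

noncomputable section

universe u

open CategoryTheory CategoryTheory.Limits AlgebraicGeometry TopologicalSpace Opposite HomogeneousLocalization
open Groth.L18
open Groth.L18.Frame (rs ro rs_rs rs_self)
open Groth.L18.RelTilde (rdT rdT_smul rdT_rs rdT_add)

namespace Groth.L18.PBundle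

variable {Y P : Scheme.{u}} {E : Y.Modules} {𝒮 : RelProj.QCGrAlg Y} {p : P ⟶ Y}
  {chart : ∀ (U : Y.Opens) (hU : IsAffineOpen U), (((p ⁻¹ᵁ U : P.Opens) : Scheme.{u}) ≅ Proj (𝒮.deg U hU))}
  {j : E ⟶ 𝒮.toModule} {O1 : P.Modules}
  {lam : ∀ (U : Y.Opens) (hU : IsAffineOpen U),
    O1 ⟶ (Scheme.Modules.pushforward (RelProj.emb p chart U hU)).obj (GrTwist.twist (𝒮.deg U hU) 1)}
  (hj : RelProj.IsGrSymAlg E 𝒮 j) (hP : RelProj.IsRelProj 𝒮 p chart) {U : Y.Opens} (hU : IsAffineOpen U)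

include hj hP in
theorem fn_str (e₁ : Γ(E, U)) (r : Γ(Y, U)) :
    fn chart hU e₁ (strAway hU (j := j) e₁ r) =
      p.appLE U (dom chart j U hU e₁) (dom_le chart j U hU e₁) r := by
  haveI : IsIso (Proj.awayToSection (𝒮.deg U hU) (el j e₁)) :=
    (Proj.basicOpenIsoAway (𝒮.deg U hU) (el j e₁) (el_mem hj hU e₁) one_pos).isIso_hom
  obtain ⟨b, hb⟩ : ∃ b, fn chart hU e₁ b = p.appLE U (dom chart j U hU e₁) (dom_le chart j U hU e₁) r := by
    obtain ⟨b, hb⟩ := (ConcreteCategory.bijective_of_isIso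
      (Proj.awayToSection (𝒮.deg U hU) (el j e₁) ≫
        ((RelProj.emb p chart U hU).appIso (Proj.basicOpen (𝒮.deg U hU) (el j e₁))).inv)).2
      (p.appLE U (dom chart j U hU e₁) (dom_le chart j U hU e₁) r)
    exact ⟨b, hb⟩
  suffices b = strAway hU (j := j) e₁ r by rw [← this, hb]
  refine (ConcreteCategory.bijective_of_isIso
    (Scheme.ΓSpecIso (CommRingCat.of (Away (𝒮.deg U hU) (el j e₁)))).inv).1 ?_
  rw [← aE_fn chart hj hU e₁ b, hb, ← CommRingCat.comp_apply, Scheme.Hom.appLE_comp_appLE]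
  simp only [aE_p chart hj hU e₁ hP]
  have h1 : hU.fromSpec.appLE U ⊤ hU.fromSpec_preimage_self.ge = (Scheme.ΓSpecIso Γ(Y, U)).inv := by
    rw [Scheme.Hom.appLE, hU.fromSpec_app_self, Category.assoc, ← Functor.map_comp]
    exact (congrArg ((Scheme.ΓSpecIso Γ(Y, U)).inv ≫ ·) ((Spec Γ(Y, U)).presheaf.map_id _)).trans
      (Category.comp_id _)
  rw [← Scheme.Hom.appLE_comp_appLE _ hU.fromSpec U ⊤ ⊤ hU.fromSpec_preimage_self.ge le_top, h1,
    show (Spec.map (CommRingCat.ofHom (strAway hU (j := j) e₁))).appLE ⊤ ⊤ le_top = _ from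
      (Scheme.Hom.app_eq_appLE _).symm]
  exact (ConcreteCategory.congr_hom (Scheme.ΓSpecIso_inv_naturality
    (CommRingCat.ofHom (strAway hU (j := j) e₁))) r).symm

include hj hP in
/-- The value of a function of the base. -/
theorem app_base_val (hE : Coh.IsQCoh E) (r : Γ(Y, U)) (y : ↥(RelProj.emb p chart U hU ⁻¹ᵁ (p ⁻¹ᵁ U))) :
    ((show GrTwist.O (op (RelProj.emb p chart U hU ⁻¹ᵁ (p ⁻¹ᵁ U))) from
      (RelProj.emb p chart U hU).app (p ⁻¹ᵁ U) (p.app U r)).1 y).val =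
      algebraMap (𝒮.presheaf.obj (op U)) (GrTwist.Loc (𝒮.deg U hU) y.1) ((𝒮.str.app (op U)).hom r) := by
  obtain ⟨e₁, he₁⟩ := exists_mem_dom (chart := chart) hj hU hE (z := (RelProj.emb p chart U hU).base y.1) y.2
  have hy : y.1 ∈ RelProj.emb p chart U hU ⁻¹ᵁ dom chart j U hU e₁ := he₁
  have h1 := app_fn_val (chart := chart) hU e₁ (strAway hU (j := j) e₁ r) ⟨y.1, hy⟩
  rw [fn_str hj hP hU e₁ r] at h1
  have h2 : (RelProj.emb p chart U hU).app (dom chart j U hU e₁)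
      (p.appLE U (dom chart j U hU e₁) (dom_le chart j U hU e₁) r) =
      (Proj (𝒮.deg U hU)).presheaf.map
        (homOfLE ((RelProj.emb p chart U hU).preimage_mono (dom_le chart j U hU e₁))).op
        ((RelProj.emb p chart U hU).app (p ⁻¹ᵁ U) (p.app U r)) :=
    ConcreteCategory.congr_hom ((RelProj.emb p chart U hU).naturality (homOfLE (dom_le chart j U hU e₁)).op) (p.app U r)
  rw [h2] at h1
  refine h1.trans ?_
  rw [strAway, RingHom.comp_apply]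
  show IsLocalization.map _ _ _ (Localization.mk ((𝒮.str.app (op U)).hom r) 1) = _
  rw [Localization.mk_one_eq_algebraMap, IsLocalization.map_eq, RingHom.id_apply]

include hj hP in
/-- The canonical map exists. -/
theorem exists_taut (hE : Coh.IsQCoh E) (hO1 : RelProj.IsRelTwist 𝒮 p chart 1 O1 lam) :
    ∃ φ : E ⟶ (Scheme.Modules.pushforward p).obj O1, IsTaut φ lam j := by
  let φ₀ : ∀ (U : Y.Opens) (hU : IsAffineOpen U), Γ(E, U) → Γ(O1, p ⁻¹ᵁ U) := fun U hU e =>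
    ((hO1.bijective U hU (p ⁻¹ᵁ U) le_rfl).2
      (GrM.genT (⟨el j e, el_mem hj hU e⟩ : 𝒮.deg U hU 1) (TwistAmp.one0 (𝒮.deg U hU)) (n := (1 : ℤ)) (by simp)
        (RelProj.emb p chart U hU ⁻¹ᵁ (p ⁻¹ᵁ U)) (fun x => one_notMem x.1))).choose
  have hval : ∀ (U : Y.Opens) (hU : IsAffineOpen U) (e : Γ(E, U))
      (y : ↥(RelProj.emb p chart U hU ⁻¹ᵁ (p ⁻¹ᵁ U))),
      ((rdT lam ⟨U, hU⟩ (φ₀ U hU e)).1 y : GrTwist.Loc (𝒮.deg U hU) y.1) =
        algebraMap (𝒮.presheaf.obj (op U)) (GrTwist.Loc (𝒮.deg U hU) y.1) (el j e) := by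
    intro U hU e y
    have h := ((hO1.bijective U hU (p ⁻¹ᵁ U) le_rfl).2
      (GrM.genT (⟨el j e, el_mem hj hU e⟩ : 𝒮.deg U hU 1) (TwistAmp.one0 (𝒮.deg U hU)) (n := (1 : ℤ)) (by simp)
        (RelProj.emb p chart U hU ⁻¹ᵁ (p ⁻¹ᵁ U)) (fun x => one_notMem x.1))).choose_spec
    refine (congrArg (fun t : GrTwist.sectN (𝒜 := 𝒮.deg U hU) 1 (op (RelProj.emb p chart U hU ⁻¹ᵁ (p ⁻¹ᵁ U))) =>
      ((t.1 y : GrTwist.twistAt (𝒮.deg U hU) 1 y.1) : GrTwist.Loc (𝒮.deg U hU) y.1)) h).trans ?_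
    rw [GrM.genT_val, ← Localization.mk_one_eq_algebraMap]
    rfl
  have hext : ∀ (U : Y.Opens) (hU : IsAffineOpen U) (a b : Γ(O1, p ⁻¹ᵁ U)),
      (∀ y, ((rdT lam ⟨U, hU⟩ a).1 y : GrTwist.Loc (𝒮.deg U hU) y.1) = (rdT lam ⟨U, hU⟩ b).1 y) → a = b :=
    fun U hU a b h => (hO1.bijective U hU (p ⁻¹ᵁ U) le_rfl).1 (GrM.sectN_ext h)
  have hres : ∀ (U V : Y.Opens) (hU : IsAffineOpen U) (hV : IsAffineOpen V) (h : RelTilde.Bas U V) (e : Γ(E, U)),
      rs O1 (p.preimage_mono h.le) (φ₀ U hU e) = φ₀ V hV (rs E h.le e) := by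
    intro U V hU hV h e
    refine hext V hV _ _ fun y => Eq.trans ?_ (hval V hV (rs E h.le e) y).symm
    refine (congrArg (fun t : GrTwist.sectN (𝒜 := 𝒮.deg V hV) 1 (op (RelProj.emb p chart V hV ⁻¹ᵁ (p ⁻¹ᵁ V))) =>
      ((t.1 y : GrTwist.twistAt (𝒮.deg V hV) 1 y.1) : GrTwist.Loc (𝒮.deg V hV) y.1))
      (rdT_rs (lam := lam) ⟨V, hV⟩ (p.preimage_mono h.le) (φ₀ U hU e))).trans ?_
    have hy : (RelProj.emb p chart V hV).base y.1 ∈ p ⁻¹ᵁ U := h.le y.2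
    have hy' : (RelProj.emb p chart U hU).base (RelTilde.Data.down hU hV h y.1) ∈ p ⁻¹ᵁ U := by
      rw [RelTilde.Data.emb_down hP]; exact hy
    refine (RelTilde.twist_compat_bas hO1 hU hV h (φ₀ U hU e) y.1 hy hy').trans ?_
    refine (congrArg (GrTwist.locMap (𝒮.res hU hV h.le) (RP.irr 𝒮 hU hV h h.le) y.1)
      (hval U hU e ⟨_, hy'⟩)).trans ?_
    rw [← Localization.mk_one_eq_algebraMap, ← Localization.mk_one_eq_algebraMap, GrTwist.locMap_mk]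
    refine congrArg₂ Localization.mk ?_ (Subtype.ext (map_one _))
    exact (congr($(j.mapPresheaf.naturality (homOfLE h.le).op) e)).symm
  obtain ⟨φ, hφ⟩ := Groth.L16.AffineBC.exists_hom_affine (M := E) (N := (Scheme.Modules.pushforward p).obj O1)
    (fun U hU => AddMonoidHom.mk' (φ₀ U hU) fun a b => hext U hU _ _ fun y => by
      refine (hval U hU _ y).trans ?_
      refine Eq.trans ?_ (congrArg (fun t : GrTwist.sectN (𝒜 := 𝒮.deg U hU) 1
          (op (RelProj.emb p chart U hU ⁻¹ᵁ (p ⁻¹ᵁ U))) =>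
        ((t.1 y : GrTwist.twistAt (𝒮.deg U hU) 1 y.1) : GrTwist.Loc (𝒮.deg U hU) y.1))
        (rdT_add (lam := lam) ⟨U, hU⟩ (φ₀ U hU a) (φ₀ U hU b))).symm
      refine Eq.trans ?_ (congrArg₂ (· + ·) (hval U hU a y) (hval U hU b y)).symm
      rw [← map_add, el, map_add]
      rfl)
    (fun U V hU hV h e => by
      refine TopCat.Sheaf.eq_of_locally_eq' (⟨O1.presheaf, O1.isSheaf⟩ : TopCat.Sheaf Ab P.toTopCat)
        (fun k : {k : Y.affineOpens // RelTilde.Bas U k.1 ∧ RelTilde.Bas V k.1} => p ⁻¹ᵁ k.1.1) (p ⁻¹ᵁ V)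
        (fun k => homOfLE (p.preimage_mono k.2.2.le)) (fun z hz => ?_) _ _ fun k => ?_
      · obtain ⟨f, g, hfg, hz'⟩ := exists_basicOpen_le_affine_inter hU hV (p z) ⟨h hz, hz⟩
        exact Opens.mem_iSup.mpr ⟨⟨⟨Y.basicOpen f, hU.basicOpen f⟩, ⟨f, rfl⟩, ⟨g, hfg.symm⟩⟩, hz'⟩
      show rs O1 (p.preimage_mono k.2.2.le) (φ₀ V hV (rs E h e)) =
        rs O1 (p.preimage_mono k.2.2.le) (rs O1 (p.preimage_mono h) (φ₀ U hU e))
      rw [hres V k.1.1 hV k.1.2 k.2.2, rs_rs, rs_rs, hres U k.1.1 hU k.1.2 k.2.1])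
    (fun U hU r e => hext U hU _ _ fun y => by
      refine (hval U hU _ y).trans ?_
      refine Eq.trans ?_ (congrArg (fun t : GrTwist.sectN (𝒜 := 𝒮.deg U hU) 1
          (op (RelProj.emb p chart U hU ⁻¹ᵁ (p ⁻¹ᵁ U))) =>
        ((t.1 y : GrTwist.twistAt (𝒮.deg U hU) 1 y.1) : GrTwist.Loc (𝒮.deg U hU) y.1))
        (rdT_smul (lam := lam) ⟨U, hU⟩ (p.app U r) (φ₀ U hU e))).symm
      refine Eq.trans ?_ (GrTwist.coe_smul_val (1 : ℤ) y.1 _ _).symm
      refine Eq.trans ?_ (congrArg₂ (· * ·) (app_base_val hj hP hU hE r y) (hval U hU e y)).symm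
      rw [← map_mul, el, Scheme.Modules.Hom.app_smul, SymSheaf.smul_toModule])
  refine ⟨φ, fun U hU e y => ?_⟩
  rw [hφ U hU e]
  exact hval U hU e y

end Groth.L18.PBundle
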