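import Groth.Agent.L18.PBundle.UPCanon
import Groth.Agent.L18.PBundle.Taut

/-!
# An isomorphism criterion for morphisms of projective bundles
-/

set_option autoImplicit false
set_option linter.style.haveILetI false
set_option backward.isDefEq.respectTransparency false

noncomputable section

universe u

open CategoryTheory CategoryTheory.Limits AlgebraicGeometry TopologicalSpace Opposite HomogeneousLocalization
open Groth.L18
open Groth.L18.Frame (rs ro rs_rs rs_self rs_smul IsFrame pull)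
open Groth.L18.Ample (hom_app_rs)

namespace Groth.L18.PBundle

variable {Y P Q : Scheme.{u}} {E F : Y.Modules} {𝒮 𝒯 : RelProj.QCGrAlg Y} {p : P ⟶ Y} {q : Q ⟶ Y}
  {chart : ∀ (U : Y.Opens) (hU : IsAffineOpen U), (((p ⁻¹ᵁ U : P.Opens) : Scheme.{u}) ≅ Proj (𝒮.deg U hU))}
  {chartQ : ∀ (U : Y.Opens) (hU : IsAffineOpen U), (((q ⁻¹ᵁ U : Q.Opens) : Scheme.{u}) ≅ Proj (𝒯.deg U hU))}
  {j : E ⟶ 𝒮.toModule} {k : F ⟶ 𝒯.toModule} {OP : P.Modules} {OQ : Q.Modules}
  {lamP : ∀ (U : Y.Opens) (hU : IsAffineOpen U),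
    OP ⟶ (Scheme.Modules.pushforward (RelProj.emb p chart U hU)).obj (GrTwist.twist (𝒮.deg U hU) 1)}
  {lamQ : ∀ (U : Y.Opens) (hU : IsAffineOpen U),
    OQ ⟶ (Scheme.Modules.pushforward (RelProj.emb q chartQ U hU)).obj (GrTwist.twist (𝒯.deg U hU) 1)}
  {φ : E ⟶ (Scheme.Modules.pushforward p).obj OP} {φQ : F ⟶ (Scheme.Modules.pushforward q).obj OQ}
  (hj : RelProj.IsGrSymAlg E 𝒮 j) (hP1 : RelProj.IsRelTwist 𝒮 p chart 1 OP lamP) (hφ : IsTaut φ lamP j)

include hj hP1 hφ in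
/-- An open on which `φ e₀` is a frame lies in the standard open. -/
theorem le_dom_of_isFrame (hE : Coh.IsQCoh E) {U : Y.Opens} (hU : IsAffineOpen U) (e₀ : Γ(E, U)) {V : P.Opens}
    (hV : V ≤ p ⁻¹ᵁ U) (h : IsFrame OP V (rs OP hV (sec φ e₀))) : V ≤ dom chart j U hU e₀ := by
  intro x hx
  obtain ⟨e₁, he₁⟩ := exists_mem_dom (chart := chart) hj hU hE (z := x) (hV hx)
  obtain ⟨c, hc⟩ := (isFrame_dom hj hP1 hφ hU e₁).exists_coeff le_rfl (rs OP (dom_le chart j U hU e₁) (sec φ e₀))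
  rw [rs_self] at hc
  let W := V ⊓ dom chart j U hU e₁
  have h0 := h.mono (inf_le_left : W ≤ V)
  have h1 := congrArg (rs OP (inf_le_right : W ≤ dom chart j U hU e₁)) hc
  rw [rs_smul, rs_rs, rs_rs] at h1
  rw [rs_rs, ← h1] at h0
  have h2 := (isFrame_dom hj hP1 hφ hU e₁).mono (inf_le_right : W ≤ dom chart j U hU e₁)
  rw [rs_rs] at h2
  have hu := Frame.isUnit_of_isFrame h2 h0
  have hb := P.basicOpen_of_isUnit hu
  rw [Scheme.basicOpen_res] at hb
  exact basicOpen_le_dom hj hP1 hφ hU e₀ e₁ c hc (hb.ge (⟨hx, he₁⟩ : x ∈ W)).2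

include hj hP1 hφ in
/-- A morphism of bundles which is bijective on sections, frame by frame, is an isomorphism. -/
theorem isIso_of_bijective_sections (hE : Coh.IsQCoh E) (hP : RelProj.IsRelProj 𝒮 p chart) (hF : Coh.IsQCoh F)
    (hk : RelProj.IsGrSymAlg F 𝒯 k) (hQ : RelProj.IsRelProj 𝒯 q chartQ)
    (hQ1 : RelProj.IsRelTwist 𝒯 q chartQ 1 OQ lamQ) (hφQ : IsTaut φQ lamQ k) {M : P.Modules} {r : P ⟶ Q}
    {hr : r ≫ q = p} {w : F ⟶ (Scheme.Modules.pushforward p).obj M} (hs : Sol φQ r hr w)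
    (h : ∀ z : Q, ∃ (U : Y.Opens) (hU : IsAffineOpen U) (e₀ : Γ(E, U)) (f : Γ(E, U) →ₗ[Γ(Y, U)] Γ(F, U)),
      Function.Surjective f ∧ z ∈ dom chartQ k U hU (f e₀) ∧
        r ⁻¹ᵁ dom chartQ k U hU (f e₀) = dom chart j U hU e₀ ∧
        ∀ (e : Γ(E, U)) (c : Γ(P, dom chart j U hU e₀)),
          c • rs OP (dom_le chart j U hU e₀) (sec φ e₀) = rs OP (dom_le chart j U hU e₀) (sec φ e) →
            c • rs M (dom_le chart j U hU e₀) (w.app U (f e₀)) = rs M (dom_le chart j U hU e₀) (w.app U (f e))) :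
    IsIso r := by
  choose U hU e₀ f hf hz hpre hprop using h
  refine IsZariskiLocalAtTarget.of_iSup_eq_top (P := MorphismProperty.isomorphisms Scheme.{u})
    (fun z => dom chartQ k (U z) (hU z) (f z (e₀ z)))
    (top_le_iff.mp fun z _ => Opens.mem_iSup.mpr ⟨z, hz z⟩) fun z => ?_
  let G := dom chartQ k (U z) (hU z) (f z (e₀ z))
  let T := dom chart j (U z) (hU z) (e₀ z)
  have hT : T ≤ r ⁻¹ᵁ G := (hpre z).ge
  let fP : Away (𝒮.deg (U z) (hU z)) (el j (e₀ z)) →+* Γ(P, T) :=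
    (Proj.awayToSection (𝒮.deg (U z) (hU z)) (el j (e₀ z)) ≫
      ((RelProj.emb p chart (U z) (hU z)).appIso (Proj.basicOpen (𝒮.deg (U z) (hU z)) (el j (e₀ z)))).inv).hom
  have hfP : Function.Bijective fP := by
    haveI : IsIso (Proj.awayToSection (𝒮.deg (U z) (hU z)) (el j (e₀ z))) :=
      (Proj.basicOpenIsoAway (𝒮.deg (U z) (hU z)) (el j (e₀ z)) (el_mem hj (hU z) (e₀ z)) one_pos).isIso_hom
    exact ConcreteCategory.bijective_of_isIso (Proj.awayToSection (𝒮.deg (U z) (hU z)) (el j (e₀ z)) ≫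
      ((RelProj.emb p chart (U z) (hU z)).appIso (Proj.basicOpen (𝒮.deg (U z) (hU z)) (el j (e₀ z)))).inv)
  let fQ : Away (𝒯.deg (U z) (hU z)) (el k (f z (e₀ z))) →+* Γ(Q, G) :=
    (Proj.awayToSection (𝒯.deg (U z) (hU z)) (el k (f z (e₀ z))) ≫
      ((RelProj.emb q chartQ (U z) (hU z)).appIso
        (Proj.basicOpen (𝒯.deg (U z) (hU z)) (el k (f z (e₀ z))))).inv).hom
  have hfQ : Function.Surjective fQ := by
    haveI : IsIso (Proj.awayToSection (𝒯.deg (U z) (hU z)) (el k (f z (e₀ z)))) :=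
      (Proj.basicOpenIsoAway (𝒯.deg (U z) (hU z)) (el k (f z (e₀ z))) (el_mem hk (hU z) (f z (e₀ z))) one_pos).isIso_hom
    exact (ConcreteCategory.bijective_of_isIso (Proj.awayToSection (𝒯.deg (U z) (hU z)) (el k (f z (e₀ z))) ≫
      ((RelProj.emb q chartQ (U z) (hU z)).appIso
        (Proj.basicOpen (𝒯.deg (U z) (hU z)) (el k (f z (e₀ z))))).inv)).2
  have huniq : ∀ a b : Γ(Q, G), a • rs OQ (dom_le chartQ k _ (hU z) (f z (e₀ z))) (sec φQ (f z (e₀ z))) =
      b • rs OQ (dom_le chartQ k _ (hU z) (f z (e₀ z))) (sec φQ (f z (e₀ z))) → a = b := fun a b hab =>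
    (isFrame_dom hk hQ1 hφQ (hU z) (f z (e₀ z))).inj le_rfl (a := a) (b := b) (by rw [rs_self]; exact hab)
  let a : Γ(E, U z) → Γ(Q, G) := fun e => fn chartQ (hU z) (f z (e₀ z)) (frac hk (hU z) (f z (e₀ z)) (f z e))
  have ha : ∀ e, a e • rs OQ (dom_le chartQ k _ (hU z) (f z (e₀ z))) (sec φQ (f z (e₀ z))) =
      rs OQ (dom_le chartQ k _ (hU z) (f z (e₀ z))) (sec φQ (f z e)) := fun e =>
    fn_frac_smul hk hQ1 hφQ (hU z) (f z (e₀ z)) (f z e)
  obtain ⟨β, hβ0, hβ1⟩ := exists_awayHom hj (hU z) (e₀ z) hE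
    (q.appLE (U z) G (dom_le chartQ k _ (hU z) (f z (e₀ z)))).hom a
    (fun e e' => huniq _ _ (by
      rw [ha, add_smul, ha, ha, map_add]
      exact (congrArg (rs OQ _) (map_add (φQ.app (U z)).hom _ _)).trans (map_add _ _ _)))
    (fun c e => huniq _ _ (by
      rw [ha, mul_smul, ha, map_smul]
      refine (congrArg (rs OQ _) (Scheme.Modules.Hom.app_smul φQ c (f z e))).trans ?_
      exact rs_smul OQ _ (q.app (U z) c) (sec φQ (f z e))))
    (huniq _ _ (by rw [ha, one_smul]))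
  have hβsurj : Function.Surjective β := by
    intro x
    obtain ⟨b, rfl⟩ := hfQ x
    suffices hle : Subring.closure (Set.range (strAway (hU z) (j := k) (f z (e₀ z))) ∪
        Set.range (frac hk (hU z) (f z (e₀ z)))) ≤ Subring.comap fQ β.range from
      hle ((closure_eq_top hk (hU z) (f z (e₀ z)) hF).ge trivial)
    refine Subring.closure_le.2 ?_
    rintro _ (⟨c, rfl⟩ | ⟨m, rfl⟩)
    · exact ⟨strAway (hU z) (j := j) (e₀ z) c, (hβ0 c).trans (fn_str hk hQ (hU z) (f z (e₀ z)) c).symm⟩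
    · obtain ⟨e, rfl⟩ := hf z m
      exact ⟨frac hj (hU z) (e₀ z) e, hβ1 e⟩
  let ρ : Γ(Q, G) →+* Γ(P, T) := (r.appLE G T hT).hom
  have hTU : T ≤ p ⁻¹ᵁ U z := dom_le chart j _ (hU z) (e₀ z)
  have hρ : ρ.comp β = fP := by
    refine RingHom.eq_of_eqOn_set_dense (closure_eq_top hj (hU z) (e₀ z) hE) ?_
    rintro _ (⟨c, rfl⟩ | ⟨e, rfl⟩)
    · refine (congrArg ρ (hβ0 c)).trans (Eq.trans ?_ (fn_str hj hP (hU z) (e₀ z) c).symm)
      show r.appLE G T hT (q.appLE (U z) G _ c) = _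
      rw [← CommRingCat.comp_apply, Scheme.Hom.appLE_comp_appLE]
      simp only [hr]
      rfl
    · refine (congrArg ρ (hβ1 e)).trans ?_
      have h1 := hs.coeff hk hQ1 hφQ (hU z) (f z (e₀ z)) (f z e) (V := T) hT hTU (a e) (ha e)
      have h2 := hprop z e (fn chart (hU z) (e₀ z) (frac hj (hU z) (e₀ z) e))
        (fn_frac_smul hj hP1 hφ (hU z) (e₀ z) e)
      have hfr := (hs.isFrame hk hQ1 hφQ (hU z) (f z (e₀ z))).mono hT
      rw [rs_rs] at hfr
      exact hfr.inj le_rfl (a := r.appLE G T hT (a e)) (b := fn chart (hU z) (e₀ z) (frac hj (hU z) (e₀ z) e))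
        (by rw [rs_self]; exact h1.trans h2.symm)
  have hρb : Function.Bijective ρ := by
    refine ⟨fun x x' hxx => ?_, fun y => ?_⟩
    · obtain ⟨b, rfl⟩ := hβsurj x
      obtain ⟨b', rfl⟩ := hβsurj x'
      exact congrArg β (hfP.1 (((RingHom.congr_fun hρ b).symm.trans hxx).trans (RingHom.congr_fun hρ b')))
    · obtain ⟨b, hb⟩ := hfP.2 y
      exact ⟨β b, (RingHom.congr_fun hρ b).trans hb⟩
  haveI : IsAffine (G : Scheme.{u}) := isAffineOpen_dom chartQ hk (hU z) (f z (e₀ z))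
  haveI : IsAffine ((r ⁻¹ᵁ G : P.Opens) : Scheme.{u}) :=
    (congrArg IsAffineOpen (hpre z)).mpr (isAffineOpen_dom chart hj (hU z) (e₀ z))
  haveI : IsIso (r.app G) := (ConcreteCategory.isIso_iff_bijective _).2 (by
    have e1 : (r.appLE G T hT) = r.app G ≫ P.presheaf.map (homOfLE hT).op := rfl
    haveI : IsIso (P.presheaf.map (homOfLE hT).op) := by
      rw [show homOfLE hT = eqToHom (hpre z).symm from rfl]; infer_instance
    have hb := ConcreteCategory.bijective_of_isIso (P.presheaf.map (homOfLE hT).op)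
    exact (Function.Bijective.of_comp_iff' hb _).1 hρb)
  haveI : IsIso (r.app (G.ι ''ᵁ ⊤)) := by rw [Scheme.Opens.ι_image_top]; infer_instance
  haveI : IsIso ((r ∣_ G).appTop) := by rw [morphismRestrict_appTop]; infer_instance
  exact ((MorphismProperty.isomorphisms Scheme.{u}).arrow_mk_iso_iff (arrowIsoSpecΓOfIsAffine (r ∣_ G))).2
    (show IsIso (Spec.map (r ∣_ G).appTop) from inferInstance)

end Groth.L18.PBundle
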