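import Groth.Agent.L18.PBundle.VeryAmpleLocal
import Groth.Agent.L17.Approx.Extend

/-!
# Immersions into bundles of finite type
-/

set_option autoImplicit false
set_option linter.style.haveILetI false
set_option backward.isDefEq.respectTransparency false

noncomputable section

universe u

open CategoryTheory CategoryTheory.Limits AlgebraicGeometry TopologicalSpace Opposite HomogeneousLocalization
open Groth.L18
open Groth.L18.Frame (rs ro rs_rs rs_self rs_smul IsFrame)

namespace Groth.L18.PBundle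

variable {X Y : Scheme.{u}} (q : X ⟶ Y) (L : X.Modules)

/-- The sections coming from `F` embed `X` locally. -/
def HasLocalGen {F : Y.Modules} (w : F ⟶ (Scheme.Modules.pushforward q).obj L) : Prop :=
  ∀ x : X, ∃ (V : Y.Opens) (_ : IsAffineOpen V) (T : X.Opens) (hT : T ≤ q ⁻¹ᵁ V) (γ : Type u) (e₀ : Γ(F, V))
    (e : γ → Γ(F, V)) (c : Γ(X, T)),
    IsFrame L T (rs L hT (w.app V e₀)) ∧
      (∀ (W : X.Opens) (hW : W ≤ q ⁻¹ᵁ V), IsFrame L W (rs L hW (w.app V e₀)) → W ≤ T) ∧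
      x ∈ X.basicOpen c ∧ IsAffineOpen (X.basicOpen c) ∧
      ∀ A : Subring Γ(X, T), (∀ a, q.appLE V T hT a ∈ A) →
        (∀ k a, a • rs L hT (w.app V e₀) = rs L hT (w.app V (e k)) → a ∈ A) → c ∈ A ∧
          ∀ A' : Subring Γ(X, X.basicOpen c), (∀ a ∈ A, ro (X.basicOpen_le c) a ∈ A') →
            (∀ z, z * ro (X.basicOpen_le c) c = 1 → z ∈ A') → A' = ⊤

variable {q L}

theorem epi_of_localGen {F : Y.Modules} (w : F ⟶ (Scheme.Modules.pushforward q).obj L) (h : HasLocalGen q L w) :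
    Epi (((Scheme.Modules.pullbackPushforwardAdjunction q).homEquiv F L).symm w) :=
  epi_adjHom_of_gen w fun x => by
    obtain ⟨V, -, T, hT, γ, e₀, e, c, hfr, -, hxc, -⟩ := h x
    exact ⟨V, e₀, T, hT, X.basicOpen_le c hxc, hfr⟩

/-- Locally embedding sections give an immersion into the bundle. -/
theorem isImmersion_of_localGen {F : Y.Modules} (hF : Coh.IsQCoh F)
    {w : F ⟶ (Scheme.Modules.pushforward q).obj L} (hgen : HasLocalGen q L w) {𝒮 : RelProj.QCGrAlg Y}
    {j : F ⟶ 𝒮.toModule} {P : Scheme.{u}} {p : P ⟶ Y}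
    {chart : ∀ (U : Y.Opens) (hU : IsAffineOpen U), (((p ⁻¹ᵁ U : P.Opens) : Scheme.{u}) ≅ Proj (𝒮.deg U hU))}
    {O1 : P.Modules} {lam : ∀ (U : Y.Opens) (hU : IsAffineOpen U),
      O1 ⟶ (Scheme.Modules.pushforward (RelProj.emb p chart U hU)).obj (GrTwist.twist (𝒮.deg U hU) 1)}
    {φ : F ⟶ (Scheme.Modules.pushforward p).obj O1}
    (hj : RelProj.IsGrSymAlg F 𝒮 j) (hO1 : RelProj.IsRelTwist 𝒮 p chart 1 O1 lam) (hφ : IsTaut φ lam j)
    {r : X ⟶ P} {hr : r ≫ p = q} (hs : Sol φ r hr w) : IsImmersion r := by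
  refine isImmersion_of_forall_exists _ fun x => ?_
  obtain ⟨V, hV, T, hT, γ, e₀, e, c, hfr, hmax, hxc, haffc, hA⟩ := hgen x
  let D := dom chart j V hV e₀
  have hTD : T ≤ r ⁻¹ᵁ D := fun z hz => hs.mem hF hj hO1 hφ hV e₀ (V := T) hT hfr hz
  have hpre : r ⁻¹ᵁ D = T := le_antisymm (hmax _ _ (hs.isFrame hj hO1 hφ hV e₀)) hTD
  let π := r.appLE D T hpre.ge
  have h0 : ∀ a, q.appLE V T hT a ∈ π.hom.range := fun a => ⟨p.appLE V D (dom_le chart j V hV e₀) a, by
    refine (ConcreteCategory.congr_hom (Scheme.Hom.appLE_comp_appLE r p V D T (dom_le chart j V hV e₀) hpre.ge) a).trans ?_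
    simp only [hr]⟩
  have h1 : ∀ k a, a • rs L hT (w.app V e₀) = rs L hT (w.app V (e k)) → a ∈ π.hom.range := fun k a ha =>
    ⟨fn chart hV e₀ (frac hj hV e₀ (e k)), by
      refine hfr.inj le_rfl ?_
      rw [rs_self, ha]
      exact hs.coeff hj hO1 hφ hV e₀ _ (V := T) hpre.ge hT _ (fn_frac_smul hj hO1 hφ hV e₀ _)⟩
  obtain ⟨hc, hA'⟩ := hA π.hom.range h0 h1
  obtain ⟨c', hc'⟩ := hc
  have hpre' : r ⁻¹ᵁ P.basicOpen c' = X.basicOpen c := by
    rw [← hc']
    show _ = X.basicOpen (r.appLE D T hpre.ge c')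
    rw [Scheme.basicOpen_appLE, inf_eq_right.2]
    exact (r.preimage_mono (P.basicOpen_le c')).trans hpre.le
  refine ⟨P.basicOpen c', hpre'.ge hxc, ?_⟩
  haveI := isClosedImmersion_restrict_of_appLE r ((isAffineOpen_dom chart hj hV e₀).basicOpen c') haffc hpre' (by
    rw [← RingHom.range_eq_top]
    have hres : ∀ z, r.appLE (P.basicOpen c') (X.basicOpen c) hpre'.ge
        (ro (P.basicOpen_le c') z) = ro (X.basicOpen_le c) (π z) := fun z => by
      simp only [ro, π, ← CommRingCat.comp_apply, Scheme.Hom.map_appLE, Scheme.Hom.appLE_map]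
    refine hA' _ (fun a ha => ?_) fun z hz => ?_
    · obtain ⟨v, rfl⟩ := ha
      exact ⟨_, hres v⟩
    · have hu : IsUnit (ro (P.basicOpen_le c') c') := RingedSpace.isUnit_res_basicOpen P.toRingedSpace c'
      obtain ⟨v, hv⟩ := hu.exists_left_inv
      refine ⟨v, ?_⟩
      have h2 := congrArg (r.appLE (P.basicOpen c') (X.basicOpen c) hpre'.ge) hv
      rw [map_mul, map_one, hres, show π c' = c from hc'] at h2
      exact left_inv_eq_right_inv h2 (by rw [mul_comm]; exact hz))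
  infer_instance

variable (q)

/-- A very ample module has a submodule of finite type of its direct image which still embeds. -/
theorem exists_ft_sub [CompactSpace Y] [QuasiSeparatedSpace Y] [QuasiCompact q] [LocallyOfFiniteType q]
    (hL : PicF.IsInvertible L) (hva : RelProj.IsRelVeryAmple q L) :
    ∃ (F : Y.Modules) (ι : F ⟶ (Scheme.Modules.pushforward q).obj L),
      Mono ι ∧ Coh.IsCoh F ∧ HasLocalGen q L ι := by
  classical
  haveI : CompactSpace X := QuasiCompact.compactSpace_of_compactSpace q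
  haveI : IsSeparated q := by
    obtain ⟨E, hE, 𝒮, j, hj, P, p, chart, hP, O1, lam, hO1, i, hi, hip, -⟩ := hva
    haveI : IsSeparated p := RP.isSeparated hP
    rw [← hip]
    infer_instance
  haveI := Groth.L21.Extend.isQCoh_of_isInvertible hL
  haveI : Coh.IsQCoh ((Scheme.Modules.pushforward q).obj L) := Groth.L16.QcqsPush.isQCoh_push L q
  choose V hV hxV _ using fun x : X => exists_isAffineOpen_mem_and_subset (x := q x) (U := ⊤) trivial
  choose e₀ T hT γ hγ e c hfr hmax hxc haffc hgen using fun x : X => exists_local_data q hva (hV x) (x := x) (hxV x)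
  obtain ⟨S, hS⟩ := isCompact_univ.elim_finite_subcover (fun x : X => (X.basicOpen (c x) : Set X))
    (fun x => (X.basicOpen (c x)).2) (fun x _ => Set.mem_iUnion.2 ⟨x, hxc x⟩)
  let t : ∀ x : X, Option (γ x) → Γ((Scheme.Modules.pushforward q).obj L, V x) := fun x o => o.elim (e₀ x) (e x)
  obtain ⟨F, ι, hι, hF, hmem⟩ := Groth.L17.Approx.exists_submodule_finset ((Scheme.Modules.pushforward q).obj L)
    V (fun x => (hV x).isCompact) (fun x => Option (γ x)) t S
  refine ⟨F, ι, hι, hF, fun x => ?_⟩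
  obtain ⟨y, hy, hxy⟩ := Set.mem_iUnion₂.1 (hS (Set.mem_univ x))
  choose g hg using hmem y hy
  refine ⟨V y, hV y, T y, hT y, γ y, g none, fun k => g (some k), c y, ?_, ?_, hxy, haffc y, ?_⟩
  · simp only [hg]
    exact hfr y
  · simp only [hg]
    exact hmax y
  · simp only [hg]
    exact hgen y

/-- A very ample module comes from an immersion into a bundle of finite type. -/
theorem exists_ft_immersion [CompactSpace Y] [QuasiSeparatedSpace Y] [QuasiCompact q] [LocallyOfFiniteType q]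
    (hL : PicF.IsInvertible L) (hva : RelProj.IsRelVeryAmple q L) :
    ∃ (E : Y.Modules) (𝒯 : RelProj.QCGrAlg Y) (j : E ⟶ 𝒯.toModule) (P : Scheme.{u}) (p : P ⟶ Y)
      (chart : ∀ (U : Y.Opens) (hU : IsAffineOpen U), ((p ⁻¹ᵁ U : P.Opens) : Scheme.{u}) ≅ Proj (𝒯.deg U hU))
      (O1 : P.Modules)
      (lam : ∀ (U : Y.Opens) (hU : IsAffineOpen U),
        O1 ⟶ (Scheme.Modules.pushforward (RelProj.emb p chart U hU)).obj (GrTwist.twist (𝒯.deg U hU) 1))
      (i : X ⟶ P),
      Coh.IsQCoh E ∧ CohB1.IsFT E ∧ RelProj.IsGrSymAlg E 𝒯 j ∧ RelProj.IsRelProj 𝒯 p chart ∧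
        RelProj.IsRelTwist 𝒯 p chart 1 O1 lam ∧ IsImmersion i ∧ i ≫ p = q ∧
        Nonempty (L ≅ (Scheme.Modules.pullback i).obj O1) := by
  obtain ⟨F, ι, -, hF, hgen⟩ := exists_ft_sub q hL hva
  haveI := hF.1
  obtain ⟨P, p, chart, hP⟩ := RP.exists_isRelProj (SymSheaf.symGr F)
  have hj := SymSheaf.isGrSymAlg F
  obtain ⟨O1, lam, hO1⟩ := exists_twist hP 1
  obtain ⟨φ, hφ⟩ := exists_taut hj hP hF.1 hO1
  obtain ⟨r, hr, hs⟩ := exists_morphism hj hF.1 hP hO1 hφ hL _ (epi_of_localGen ι hgen)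
  rw [adjSec, Equiv.apply_symm_apply] at hs
  have himm := isImmersion_of_localGen hF.1 hgen hj hO1 hφ hs
  obtain ⟨τ, -⟩ := hs
  exact ⟨F, _, _, P, p, chart, O1, lam, r, hF.1, hF.2, hj, hP, hO1, himm, hr, ⟨τ.symm⟩⟩

end Groth.L18.PBundle
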