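import Groth.Agent.L18.PBundle.UPBasic
import Groth.Agent.L17.BC.PullSec
import Groth.Agent.L19.ProjBdl.PullComp
import Groth.Agent.L16.AffineBC.Pullback
import Groth.Agent.L21.Mod.Stalks

/-!
# The universal property of a projective bundle
-/

set_option autoImplicit false
set_option linter.style.haveILetI false

noncomputable section

universe u

open CategoryTheory CategoryTheory.Limits AlgebraicGeometry TopologicalSpace Opposite HomogeneousLocalization
open Groth.L18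
open Groth.L18.Frame (rs ro rs_rs rs_self rs_smul ro_ro IsFrame pull pull_rs pull_smul)
open Groth.L18.Ample (eq_zero_of_local hom_app_rs)
open Groth.L17.BC.PullSec (map_pull comp_pull congr_pull)

namespace Groth.L18.PBundle

section general

variable {X Y P : Scheme.{u}} {E : Y.Modules} {p : P ⟶ Y} {O1 : P.Modules}
  (φ : E ⟶ (Scheme.Modules.pushforward p).obj O1)

/-- The adjoint of `φ`. -/
abbrev adjHom : (Scheme.Modules.pullback p).obj E ⟶ O1 :=
  ((Scheme.Modules.pullbackPushforwardAdjunction p).homEquiv E O1).symm φ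

/-- The section map of a morphism out of a pullback. -/
abbrev adjSec {g : X ⟶ Y} {L : X.Modules} (s : (Scheme.Modules.pullback g).obj E ⟶ L) :
    E ⟶ (Scheme.Modules.pushforward g).obj L :=
  (Scheme.Modules.pullbackPushforwardAdjunction g).homEquiv E L s

theorem adjSec_app {g : X ⟶ Y} {L : X.Modules} (s : (Scheme.Modules.pullback g).obj E ⟶ L) (U : Y.Opens)
    (e : Γ(E, U)) : (adjSec s).app U e = s.app (g ⁻¹ᵁ U) (pull g E U e) := by
  rw [adjSec, Adjunction.homEquiv_unit]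
  rfl

theorem adjHom_pull (U : Y.Opens) (e : Γ(E, U)) : (adjHom φ).app (p ⁻¹ᵁ U) (pull p E U e) = φ.app U e := by
  rw [← adjSec_app, adjSec, Equiv.apply_symm_apply]

theorem hom_ext_pull {g : X ⟶ Y} {L : X.Modules} {a b : (Scheme.Modules.pullback g).obj E ⟶ L}
    (h : ∀ (U : Y.Opens) (e : Γ(E, U)), a.app (g ⁻¹ᵁ U) (pull g E U e) = b.app (g ⁻¹ᵁ U) (pull g E U e)) :
    a = b := by
  refine ((Scheme.Modules.pullbackPushforwardAdjunction g).homEquiv E L).injective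
    (Scheme.Modules.hom_ext _ _ fun U => ?_)
  ext e
  exact (adjSec_app a U e).trans ((h U e).trans (adjSec_app b U e).symm)

/-- Sections framing the target near every point make the adjoint an epimorphism. -/
theorem epi_adjHom_of_gen
    (h : ∀ z : P, ∃ (U : Y.Opens) (e : Γ(E, U)) (W : P.Opens) (hW : W ≤ p ⁻¹ᵁ U),
      z ∈ W ∧ IsFrame O1 W (rs O1 hW (φ.app U e))) : Epi (adjHom φ) := by
  refine Preadditive.epi_of_cancel_zero _ fun {G : P.Modules} (g : O1 ⟶ G) hg => ?_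
  refine eq_zero_of_local g fun W' s z hz => ?_
  obtain ⟨U, e, W, hW, hzW, he⟩ := h z
  refine ⟨W' ⊓ W, inf_le_left, ⟨hz, hzW⟩, ?_⟩
  obtain ⟨a, ha⟩ := (he.mono (inf_le_right : W' ⊓ W ≤ W)).exists_coeff le_rfl (rs O1 inf_le_left s)
  rw [rs_self] at ha
  have h0 : g.app (p ⁻¹ᵁ U) (φ.app U e) = 0 := by
    rw [← adjHom_pull φ U e]
    exact congr(($hg).app (p ⁻¹ᵁ U) (pull p E U e))
  rw [← ha, Scheme.Modules.Hom.app_smul, rs_rs, hom_app_rs, h0]
  simp [rs]

end general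

variable {X Y P : Scheme.{u}} {E : Y.Modules} {𝒮 : RelProj.QCGrAlg Y} {p : P ⟶ Y}
  {chart : ∀ (U : Y.Opens) (hU : IsAffineOpen U), (((p ⁻¹ᵁ U : P.Opens) : Scheme.{u}) ≅ Proj (𝒮.deg U hU))}
  {j : E ⟶ 𝒮.toModule} {O1 : P.Modules}
  {lam : ∀ (U : Y.Opens) (hU : IsAffineOpen U),
    O1 ⟶ (Scheme.Modules.pushforward (RelProj.emb p chart U hU)).obj (GrTwist.twist (𝒮.deg U hU) 1)}
  {φ : E ⟶ (Scheme.Modules.pushforward p).obj O1}
  {g : X ⟶ Y} {L : X.Modules}

theorem le_base {r : X ⟶ P} (hr : r ≫ p = g) (U : Y.Opens) : g ⁻¹ᵁ U ≤ r ⁻¹ᵁ (p ⁻¹ᵁ U) := by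
  subst hr; exact le_rfl

theorem base_le {r : X ⟶ P} (hr : r ≫ p = g) (U : Y.Opens) : r ⁻¹ᵁ (p ⁻¹ᵁ U) ≤ g ⁻¹ᵁ U := by
  subst hr; exact le_rfl

/-- `r` pulls the universal quotient back to the quotient given by `w`. -/
def Sol (φ : E ⟶ (Scheme.Modules.pushforward p).obj O1) (r : X ⟶ P) (hr : r ≫ p = g)
    (w : E ⟶ (Scheme.Modules.pushforward g).obj L) : Prop :=
  ∃ τ : (Scheme.Modules.pullback r).obj O1 ≅ L, ∀ (U : Y.Opens) (e : Γ(E, U)),
    τ.hom.app (r ⁻¹ᵁ (p ⁻¹ᵁ U)) (pull r O1 (p ⁻¹ᵁ U) (φ.app U e)) = rs L (base_le hr U) (w.app U e)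

/-- The local criterion at a point. -/
def Crit (chart : ∀ (U : Y.Opens) (hU : IsAffineOpen U),
      (((p ⁻¹ᵁ U : P.Opens) : Scheme.{u}) ≅ Proj (𝒮.deg U hU)))
    (hj : RelProj.IsGrSymAlg E 𝒮 j) (r : X ⟶ P) (w : E ⟶ (Scheme.Modules.pushforward g).obj L) (x : X) : Prop :=
  ∃ (U : Y.Opens) (hU : IsAffineOpen U) (e₀ : Γ(E, U)) (V : X.Opens) (hV : V ≤ r ⁻¹ᵁ dom chart j U hU e₀)
    (hV' : V ≤ g ⁻¹ᵁ U), x ∈ V ∧ IsFrame L V (rs L hV' (w.app U e₀)) ∧
      ∀ e, r.appLE (dom chart j U hU e₀) V hV (fn chart hU e₀ (frac hj hU e₀ e)) • rs L hV' (w.app U e₀) =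
        rs L hV' (w.app U e)

variable (hE : Coh.IsQCoh E) (hj : RelProj.IsGrSymAlg E 𝒮 j) (hP : RelProj.IsRelProj 𝒮 p chart)
  (hO1 : RelProj.IsRelTwist 𝒮 p chart 1 O1 lam) (hφ : IsTaut φ lam j)

include hE hj hO1 hφ in
theorem epi_adjHom : Epi (adjHom φ) := by
  refine epi_adjHom_of_gen φ fun z => ?_
  obtain ⟨_, ⟨U, hU, rfl⟩, hz, -⟩ :=
    Y.isBasis_affineOpens.exists_subset_of_mem_open (Set.mem_univ (p z)) isOpen_univ
  obtain ⟨e, he⟩ := exists_mem_dom (chart := chart) hj hU hE (z := z) hz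
  exact ⟨U, e, _, dom_le chart j U hU e, he, isFrame_dom hj hO1 hφ hU e⟩

include hj hO1 hφ in
/-- In a solution the distinguished sections are frames on the standard opens. -/
theorem Sol.isFrame {r : X ⟶ P} {hr : r ≫ p = g} {w : E ⟶ (Scheme.Modules.pushforward g).obj L}
    (hs : Sol φ r hr w) {U : Y.Opens} (hU : IsAffineOpen U) (e₀ : Γ(E, U)) :
    IsFrame L (r ⁻¹ᵁ dom chart j U hU e₀)
      (rs L ((r.preimage_mono (dom_le chart j U hU e₀)).trans (base_le hr U)) (w.app U e₀)) := by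
  obtain ⟨τ, hτ⟩ := hs
  have h := Groth.L19.ProjBdl.isFrame_of_iso τ ((isFrame_dom hj hO1 hφ hU e₀).pullback r O1)
  rw [← pull_rs, hom_app_rs, hτ, rs_rs] at h
  exact h

include hj hO1 hφ in
/-- In a solution the fractions are the coordinates. -/
theorem Sol.coeff {r : X ⟶ P} {hr : r ≫ p = g} {w : E ⟶ (Scheme.Modules.pushforward g).obj L}
    (hs : Sol φ r hr w) {U : Y.Opens} (hU : IsAffineOpen U) (e₀ e : Γ(E, U)) {V : X.Opens}
    (hV : V ≤ r ⁻¹ᵁ dom chart j U hU e₀) (hV' : V ≤ g ⁻¹ᵁ U)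
    (c : Γ(P, dom chart j U hU e₀))
    (hc : c • rs O1 (dom_le chart j U hU e₀) (sec φ e₀) = rs O1 (dom_le chart j U hU e₀) (sec φ e)) :
    r.appLE (dom chart j U hU e₀) V hV c • rs L hV' (w.app U e₀) = rs L hV' (w.app U e) := by
  obtain ⟨τ, hτ⟩ := hs
  have h := congrArg (fun t => τ.hom.app V (rs _ hV (pull r O1 (dom chart j U hU e₀) t))) hc
  simp only [pull_smul, rs_smul, Scheme.Modules.Hom.app_smul, ← pull_rs, rs_rs, hom_app_rs, hτ] at h
  exact h

include hj hO1 hφ hE in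
/-- A point lands in a standard open as soon as the section is a frame there. -/
theorem Sol.mem {r : X ⟶ P} {hr : r ≫ p = g} {w : E ⟶ (Scheme.Modules.pushforward g).obj L}
    (hs : Sol φ r hr w) {U : Y.Opens} (hU : IsAffineOpen U) (e₀ : Γ(E, U)) {V : X.Opens} (hV : V ≤ g ⁻¹ᵁ U)
    (he : IsFrame L V (rs L hV (w.app U e₀))) {x : X} (hx : x ∈ V) : x ∈ r ⁻¹ᵁ dom chart j U hU e₀ := by
  obtain ⟨e₁, he₁⟩ := exists_mem_dom (chart := chart) hj hU hE (z := r x) (le_base hr U (hV hx))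
  obtain ⟨c, hc⟩ := (isFrame_dom hj hO1 hφ hU e₁).exists_coeff le_rfl (rs O1 (dom_le chart j U hU e₁) (sec φ e₀))
  rw [rs_self] at hc
  let W := V ⊓ r ⁻¹ᵁ dom chart j U hU e₁
  have h1 := hs.coeff hj hO1 hφ hU e₁ e₀ (V := W) inf_le_right (inf_le_left.trans hV) c hc
  have hf1 := (hs.isFrame hj hO1 hφ hU e₁).mono (inf_le_right : W ≤ _)
  rw [rs_rs] at hf1
  have hf0 := he.mono (inf_le_left : W ≤ V)
  rw [rs_rs, ← h1] at hf0
  have hu := Frame.isUnit_of_isFrame hf1 hf0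
  have hb := X.basicOpen_of_isUnit hu
  rw [Scheme.basicOpen_appLE] at hb
  exact basicOpen_le_dom hj hO1 hφ hU e₀ e₁ c hc (hb.ge (⟨hx, he₁⟩ : x ∈ W)).2

include hj hO1 hφ hE in
/-- The criterion everywhere gives a solution. -/
theorem sol_of_crit {r : X ⟶ P} (hr : r ≫ p = g) {w : E ⟶ (Scheme.Modules.pushforward g).obj L}
    (hc : ∀ x, Crit chart hj r w x) : Sol φ r hr w := by
  haveI := hE
  let adj := Scheme.Modules.pullbackPushforwardAdjunction g
  subst hr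
  let w₀ : E ⟶ (Scheme.Modules.pushforward (r ≫ p)).obj ((Scheme.Modules.pullback r).obj O1) :=
    φ ≫ (Scheme.Modules.pushforward p).map ((Scheme.Modules.pullbackPushforwardAdjunction r).unit.app O1) ≫
      (Scheme.Modules.pushforwardComp r p).hom.app _
  have hw₀ : ∀ (U : Y.Opens) (e : Γ(E, U)), w₀.app U e = pull r O1 (p ⁻¹ᵁ U) (φ.app U e) := fun _ _ => rfl
  let a : (Scheme.Modules.pullback (r ≫ p)).obj E ⟶ (Scheme.Modules.pullback r).obj O1 :=
    ((Scheme.Modules.pullbackPushforwardAdjunction (r ≫ p)).homEquiv _ _).symm w₀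
  let b : (Scheme.Modules.pullback (r ≫ p)).obj E ⟶ L :=
    ((Scheme.Modules.pullbackPushforwardAdjunction (r ≫ p)).homEquiv _ _).symm w
  have ha : ∀ (U : Y.Opens) (e : Γ(E, U)),
      a.app ((r ≫ p) ⁻¹ᵁ U) (pull (r ≫ p) E U e) = pull r O1 (p ⁻¹ᵁ U) (φ.app U e) := fun U e =>
    (adjHom_pull w₀ U e).trans (hw₀ U e)
  have hb : ∀ (U : Y.Opens) (e : Γ(E, U)), b.app ((r ≫ p) ⁻¹ᵁ U) (pull (r ≫ p) E U e) = w.app U e :=
    fun U e => adjHom_pull w U e
  -- local description of both maps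
  have key : ∀ x : X, ∃ (V : X.Opens) (ea : Γ((Scheme.Modules.pullback r).obj O1, V)) (eb : Γ(L, V)),
      x ∈ V ∧ IsFrame _ V ea ∧ IsFrame L V eb ∧
      (∃ m, a.app V m = ea ∧ b.app V m = eb) ∧
      ∀ (W : X.Opens) (hW : W ≤ V), IsAffineOpen W → ∀ m, ∃ α : Γ(X, W),
        a.app W m = α • rs _ hW ea ∧ b.app W m = α • rs L hW eb := by
    intro x
    obtain ⟨U, hU, e₀, V, hV, hV', hx, hf, hcoe⟩ := hc x
    have hfa : IsFrame ((Scheme.Modules.pullback r).obj O1) V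
        (rs _ hV' (pull r O1 (p ⁻¹ᵁ U) (φ.app U e₀))) := by
      have h := ((isFrame_dom hj hO1 hφ hU e₀).pullback r O1).mono hV
      rw [← pull_rs, rs_rs] at h
      exact h
    refine ⟨V, _, _, hx, hfa, hf, ⟨rs _ hV' (pull (r ≫ p) E U e₀), ?_, ?_⟩, fun W hW hWaff m => ?_⟩
    · rw [hom_app_rs, ha]
    · rw [hom_app_rs, hb]
    letI : Algebra Γ(Y, U) Γ(X, W) := ((r ≫ p).appLE U W (hW.trans hV')).hom.toAlgebra
    letI := Module.compHom Γ((Scheme.Modules.pullback (r ≫ p)).obj E, W) ((r ≫ p).appLE U W (hW.trans hV')).hom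
    haveI : IsScalarTower Γ(Y, U) Γ(X, W) Γ((Scheme.Modules.pullback (r ≫ p)).obj E, W) :=
      IsScalarTower.of_algebraMap_smul fun _ _ => rfl
    refine (Groth.L16.AffineBC.isBaseChange_pull (f := r ≫ p) (G := E) hU hWaff (hW.trans hV')).inductionOn m
      (fun m => ∃ α : Γ(X, W), a.app W m = α • rs _ hW (rs _ hV' (pull r O1 (p ⁻¹ᵁ U) (φ.app U e₀))) ∧
        b.app W m = α • rs L hW (rs L hV' (w.app U e₀))) ?_ ?_ ?_ ?_
    · exact ⟨0, by simp, by simp⟩
    · intro e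
      refine ⟨ro hW (r.appLE _ V hV (fn chart hU e₀ (frac hj hU e₀ e))), ?_, ?_⟩
      · show a.app W (rs _ (hW.trans hV') (pull (r ≫ p) E U e)) = _
        rw [hom_app_rs, ha, ← rs_smul]
        have h := congrArg (fun t => rs _ hV (pull r O1 (dom chart j U hU e₀) t))
          (fn_frac_smul hj hO1 hφ hU e₀ e)
        simp only [pull_smul, rs_smul, ← pull_rs, rs_rs] at h
        exact ((congrArg (rs _ hW) h).trans (rs_rs _ _ _ _)).symm
      · show b.app W (rs _ (hW.trans hV') (pull (r ≫ p) E U e)) = _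
        rw [hom_app_rs, hb, ← rs_smul, hcoe e, rs_rs]
    · rintro s n ⟨α, h1, h2⟩
      exact ⟨s * α, by rw [Scheme.Modules.Hom.app_smul, h1, mul_smul],
        by rw [Scheme.Modules.Hom.app_smul, h2, mul_smul]⟩
    · rintro m n ⟨α, h1, h2⟩ ⟨β, h3, h4⟩
      exact ⟨α + β, by rw [map_add, h1, h3, add_smul], by rw [map_add, h2, h4, add_smul]⟩
  -- the two kernels agree, and both maps are epimorphisms
  have hkill : ∀ {K : X.Modules} (k : K ⟶ (Scheme.Modules.pullback (r ≫ p)).obj E),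
      (k ≫ a = 0 ↔ k ≫ b = 0) := by
    intro K k
    constructor <;> intro hk <;> refine eq_zero_of_local _ fun W' s x hx => ?_
    all_goals
      obtain ⟨V, ea, eb, hxV, hea, heb, -, hloc⟩ := key x
      obtain ⟨_, ⟨W, hW, rfl⟩, hxW, hWle⟩ :=
        X.isBasis_affineOpens.exists_subset_of_mem_open (a := x) (show x ∈ W' ⊓ V from ⟨hx, hxV⟩) (W' ⊓ V).2
      have hW1 : W ≤ W' := hWle.trans inf_le_left
      have hW2 : W ≤ V := hWle.trans inf_le_right
      obtain ⟨α, h1, h2⟩ := hloc W hW2 hW (k.app W (rs K hW1 s))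
      refine ⟨W, hW1, hxW, ?_⟩
    · have h0 : a.app W (k.app W (rs K hW1 s)) = 0 := congr(($hk).app W (rs K hW1 s))
      have : α = 0 := hea.inj hW2 (by rw [← h1, h0, zero_smul])
      exact h2.trans (by rw [this, zero_smul])
    · have h0 : b.app W (k.app W (rs K hW1 s)) = 0 := congr(($hk).app W (rs K hW1 s))
      have : α = 0 := heb.inj hW2 (by rw [← h2, h0, zero_smul])
      exact h1.trans (by rw [this, zero_smul])
  have hepi : Epi a ∧ Epi b := by
    constructor <;> refine Preadditive.epi_of_cancel_zero _ fun {G : X.Modules} k hk => ?_ <;>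
      refine eq_zero_of_local k fun W' s x hx => ?_
    all_goals
      obtain ⟨V, ea, eb, hxV, hea, heb, ⟨m, hma, hmb⟩, -⟩ := key x
      refine ⟨W' ⊓ V, inf_le_left, ⟨hx, hxV⟩, ?_⟩
      have h0 := congr(($hk).app V m)
    · obtain ⟨c, hc⟩ := hea.exists_coeff (inf_le_right : W' ⊓ V ≤ V) (rs _ inf_le_left s)
      have h1 : k.app V ea = 0 := by rw [← hma]; exact h0
      rw [← hc, Scheme.Modules.Hom.app_smul, hom_app_rs, h1]
      simp [rs]
    · obtain ⟨c, hc⟩ := heb.exists_coeff (inf_le_right : W' ⊓ V ≤ V) (rs _ inf_le_left s)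
      have h1 : k.app V eb = 0 := by rw [← hmb]; exact h0
      rw [← hc, Scheme.Modules.Hom.app_smul, hom_app_rs, h1]
      simp [rs]
  haveI := hepi.1
  haveI := hepi.2
  let t₁ := Abelian.epiDesc a b ((hkill (kernel.ι a)).1 (kernel.condition a))
  let t₂ := Abelian.epiDesc b a ((hkill (kernel.ι b)).2 (kernel.condition b))
  have e₁ : a ≫ t₁ = b := Abelian.comp_epiDesc _ _ _
  have e₂ : b ≫ t₂ = a := Abelian.comp_epiDesc _ _ _
  refine ⟨⟨t₁, t₂, ?_, ?_⟩, fun U e => ?_⟩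
  · rw [← cancel_epi a, reassoc_of% e₁, e₂, Category.comp_id]
  · rw [← cancel_epi b, reassoc_of% e₂, e₁, Category.comp_id]
  · refine Eq.trans ?_ (rs_self L _ _).symm
    refine (congrArg (t₁.app ((r ≫ p) ⁻¹ᵁ U)) (ha U e).symm).trans ?_
    exact (congr(($e₁).app ((r ≫ p) ⁻¹ᵁ U) (pull (r ≫ p) E U e))).trans (hb U e)

include hE hj hP hO1 hφ in
/-- Solutions are unique. -/
theorem sol_unique {r r' : X ⟶ P} {hr : r ≫ p = g} {hr' : r' ≫ p = g}
    {w : E ⟶ (Scheme.Modules.pushforward g).obj L} (hs : Sol φ r hr w) (hs' : Sol φ r' hr' w) : r = r' := by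
  have loc : ∀ x : X, ∃ V : X.Opens, x ∈ V ∧ V.ι ≫ r = V.ι ≫ r' := by
    intro x
    obtain ⟨_, ⟨U, hU, rfl⟩, hxU, -⟩ :=
      Y.isBasis_affineOpens.exists_subset_of_mem_open (Set.mem_univ (g x)) isOpen_univ
    obtain ⟨e₀, he₀⟩ := exists_mem_dom (chart := chart) hj hU hE (z := r x) (le_base hr U hxU)
    let V := r ⁻¹ᵁ dom chart j U hU e₀
    have hVU : V ≤ g ⁻¹ᵁ U := (r.preimage_mono (dom_le chart j U hU e₀)).trans (base_le hr U)
    have hf := hs.isFrame hj hO1 hφ hU e₀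
    have hV' : V ≤ r' ⁻¹ᵁ dom chart j U hU e₀ := fun y hy => hs'.mem hE hj hO1 hφ hU e₀ hVU hf hy
    refine ⟨V, he₀, ?_⟩
    let q : ∀ (s : X ⟶ P), V ≤ s ⁻¹ᵁ dom chart j U hU e₀ →
        ((V : Scheme.{u}) ⟶ Spec (CommRingCat.of (Away (𝒮.deg U hU) (el j e₀)))) := fun s hs =>
      IsOpenImmersion.lift (aE chart hj hU e₀) (V.ι ≫ s) (by
        rintro _ ⟨y, rfl⟩
        exact (opensRange_aE chart hj hU e₀).ge (hs y.2))
    have fac : ∀ s hs, q s hs ≫ aE chart hj hU e₀ = V.ι ≫ s := fun s hs => IsOpenImmersion.lift_fac _ _ _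
    suffices q r le_rfl = q r' hV' by rw [← fac r le_rfl, ← fac r' hV', this]
    have val : ∀ s hs b, (q s hs).appTop ((Scheme.ΓSpecIso _).inv b) =
        (V.ι ≫ s).appLE (dom chart j U hU e₀) ⊤ (fun y _ => hs y.2) (fn chart hU e₀ b) := by
      intro s hs b
      simp only [← fac s hs]
      rw [← Scheme.Hom.appLE_comp_appLE (q s hs) (aE chart hj hU e₀) _ ⊤ ⊤ (top_le_aE chart hj hU e₀) le_top,
        CommRingCat.comp_apply, aE_fn]
      simp [Scheme.Hom.appTop, Scheme.Hom.app_eq_appLE]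
    refine ext_of_isAffine ((cancel_epi (Scheme.ΓSpecIso _).inv).1 (CommRingCat.hom_ext
      (RingHom.eq_of_eqOn_set_dense (closure_eq_top hj hU e₀ hE) ?_)))
    rintro b (⟨t, rfl⟩ | ⟨e, rfl⟩)
    · have hb : q r le_rfl ≫ Spec.map (CommRingCat.ofHom (strAway hU (j := j) e₀)) =
          q r' hV' ≫ Spec.map (CommRingCat.ofHom (strAway hU (j := j) e₀)) := by
        rw [← cancel_mono hU.fromSpec, Category.assoc, Category.assoc, ← aE_p chart hj hU e₀ hP,
          ← Category.assoc, ← Category.assoc, fac r le_rfl, fac r' hV', Category.assoc, Category.assoc, hr, hr']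
      have h := congr(($hb).appTop ((Scheme.ΓSpecIso Γ(Y, U)).inv t))
      rw [Scheme.Hom.comp_appTop, Scheme.Hom.comp_appTop, CommRingCat.comp_apply, CommRingCat.comp_apply] at h
      have hn := ConcreteCategory.congr_hom
        (Scheme.ΓSpecIso_inv_naturality (CommRingCat.ofHom (strAway hU (j := j) e₀))) t
      exact (congrArg _ hn).trans (h.trans (congrArg _ hn).symm)
    · show (q r le_rfl).appTop ((Scheme.ΓSpecIso _).inv (frac hj hU e₀ e)) =
        (q r' hV').appTop ((Scheme.ΓSpecIso _).inv (frac hj hU e₀ e))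
      rw [val r le_rfl, val r' hV']
      have hc := fn_frac_smul hj hO1 hφ hU e₀ e
      have h1 := hs.coeff hj hO1 hφ hU e₀ e (V := V) le_rfl hVU _ hc
      have h2 := hs'.coeff hj hO1 hφ hU e₀ e (V := V) hV' hVU _ hc
      have heq := hf.inj le_rfl (a := r.appLE _ V le_rfl (fn chart hU e₀ (frac hj hU e₀ e)))
        (b := r'.appLE _ V hV' (fn chart hU e₀ (frac hj hU e₀ e))) (by rw [rs_self]; exact h1.trans h2.symm)
      have top : ∀ s (hs : V ≤ s ⁻¹ᵁ dom chart j U hU e₀),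
          (V.ι ≫ s).appLE (dom chart j U hU e₀) ⊤ (fun y _ => hs y.2) =
            s.appLE _ V hs ≫ V.ι.appLE V ⊤ (fun y _ => y.2) := fun s hs =>
        (Scheme.Hom.appLE_comp_appLE _ _ _ _ _ _ _).symm
      rw [top, top, CommRingCat.comp_apply, CommRingCat.comp_apply, heq]
  choose V hV hV' using loc
  let 𝒰 := X.openCoverOfIsOpenCover V (TopologicalSpace.IsOpenCover.mk (eq_top_iff.mpr fun x _ =>
    Opens.mem_iSup.mpr ⟨x, hV x⟩))
  exact 𝒰.hom_ext _ _ hV'

end Groth.L18.PBundle
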