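import Groth.Agent.L18.PBundle.Segre
import Groth.Agent.L18.PBundle.BundleIso
import Groth.Agent.L18.PBundle.TwistPow
import Groth.Agent.L18.SymInvertible
import Groth.Agent.L18.AmplePull
import Groth.Agent.L29.LocFree

/-!
# `P(E ⊗ L) ≅ P(E)`
-/

set_option autoImplicit false
set_option linter.style.haveILetI false
set_option backward.isDefEq.respectTransparency false

noncomputable section

universe u

open CategoryTheory CategoryTheory.Limits AlgebraicGeometry TopologicalSpace Opposite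
open Groth.L18
open Groth.L18.Frame (rs ro rs_rs rs_self rs_smul IsFrame pull pull_rs)
open Groth.L18.Ample (hom_app_rs)
open Groth.L18.GenLoc (tens tens_rs tens_smul_left isFrame_tens)
open Groth.L00.Tensor (tensorMap)

namespace Groth.L18.PBundle

variable {Y P Q : Scheme.{u}} {E L : Y.Modules} {𝒮 𝒯 : RelProj.QCGrAlg Y} {j : E ⟶ 𝒮.toModule}
  {k : CohB1.tensorMod E L ⟶ 𝒯.toModule} {p : P ⟶ Y} {q : Q ⟶ Y}
  {chart : ∀ (U : Y.Opens) (hU : IsAffineOpen U), (((p ⁻¹ᵁ U : P.Opens) : Scheme.{u}) ≅ Proj (𝒮.deg U hU))}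
  {chartQ : ∀ (U : Y.Opens) (hU : IsAffineOpen U), (((q ⁻¹ᵁ U : Q.Opens) : Scheme.{u}) ≅ Proj (𝒯.deg U hU))}

theorem exists_iso_tensor (hE : Coh.IsQCoh E) (hL : PicF.IsInvertible L) (hj : RelProj.IsGrSymAlg E 𝒮 j)
    (hk : RelProj.IsGrSymAlg (CohB1.tensorMod E L) 𝒯 k) (hP : RelProj.IsRelProj 𝒮 p chart)
    (hQ : RelProj.IsRelProj 𝒯 q chartQ) :
    ∃ i : P ≅ Q, i.hom ≫ q = p ∧
      ∀ (n : ℕ) (OP : P.Modules)
        (lamP : ∀ (U : Y.Opens) (hU : IsAffineOpen U),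
          OP ⟶ (Scheme.Modules.pushforward (RelProj.emb p chart U hU)).obj (GrTwist.twist (𝒮.deg U hU) (n : ℤ)))
        (OQ : Q.Modules)
        (lamQ : ∀ (U : Y.Opens) (hU : IsAffineOpen U),
          OQ ⟶ (Scheme.Modules.pushforward (RelProj.emb q chartQ U hU)).obj (GrTwist.twist (𝒯.deg U hU) (n : ℤ))),
        RelProj.IsRelTwist 𝒮 p chart (n : ℤ) OP lamP → RelProj.IsRelTwist 𝒯 q chartQ (n : ℤ) OQ lamQ →
          Nonempty ((Scheme.Modules.pullback i.hom).obj OQ ≅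
            CohB1.tensorMod OP ((Scheme.Modules.pullback p).obj (CohB1.tensorPow L n))) := by
  haveI := hE
  haveI := Groth.L21.Extend.isQCoh_of_isInvertible hL
  have hF : Coh.IsQCoh (CohB1.tensorMod E L) := Groth.L00.Tensor.isQCoh_tensorMod E L
  obtain ⟨O1, lam1, hO1⟩ := exists_twist hP 1
  obtain ⟨O1Q, lam1Q, hO1Q⟩ := exists_twist hQ 1
  obtain ⟨φ, hφ⟩ := exists_taut hj hP hE hO1
  obtain ⟨φQ, hφQ⟩ := exists_taut hk hQ hF hO1Q
  have hpL := Groth.L18.Ample.isInvertible_pullback p hL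
  have hO1inv := RelTilde.isInvertible_of_genDegOne (isGenDegOne_of_isGrSymAlg hE hj) hO1
  let s₁ : (Scheme.Modules.pullback p).obj (CohB1.tensorMod E L) ⟶
      CohB1.tensorMod O1 ((Scheme.Modules.pullback p).obj L) :=
    (Groth.L29.DC.PullTensor.pullTensor p E L).inv ≫ tensorMap (adjHom φ) (𝟙 _)
  have hval : ∀ (U : Y.Opens) (a : Γ(E, U)) (b : Γ(L, U)),
      (adjSec s₁).app U (tens E L U a b) =
        tens O1 _ (p ⁻¹ᵁ U) (sec φ a) (pull p L U b) := by
    intro U a b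
    rw [adjSec_app]
    refine (congrArg (s₁.app (p ⁻¹ᵁ U)) (Groth.L16.HomSh.pullTensor_tens p E L U a b).symm).trans ?_
    refine (congrArg ((tensorMap (adjHom φ) (𝟙 _)).app (p ⁻¹ᵁ U))
      (congr($(congrArg (fun k => Scheme.Modules.Hom.app k (p ⁻¹ᵁ U))
        (Groth.L29.DC.PullTensor.pullTensor p E L).hom_inv_id) _))).trans ?_
    refine (Groth.L16.HomSh.tensorMap_tens (adjHom φ) (𝟙 _) (p ⁻¹ᵁ U) _ _).trans ?_
    exact congrArg₂ (tens O1 _ (p ⁻¹ᵁ U)) (adjHom_pull φ U a) rfl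
  have hfr : ∀ (U : Y.Opens) (hU : IsAffineOpen U) (l : Γ(L, U)), IsFrame L U l → ∀ e₀ : Γ(E, U),
      IsFrame _ (dom chart j U hU e₀) (rs (CohB1.tensorMod O1 ((Scheme.Modules.pullback p).obj L))
        (dom_le chart j U hU e₀) ((adjSec s₁).app U (tens E L U e₀ l))) := by
    intro U hU l hl e₀
    rw [hval, tens_rs]
    exact isFrame_tens (isFrame_dom hj hO1 hφ hU e₀) ((hl.pullback p L).mono (dom_le chart j U hU e₀))
  have haff : ∀ y : Y, ∃ (U : Y.Opens) (_ : IsAffineOpen U) (l : Γ(L, U)), y ∈ U ∧ IsFrame L U l := fun y => by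
    obtain ⟨U, hU, l, hy, -, hl⟩ := SymInv.exists_affine_frame (L := L) hL y ⊤ trivial
    exact ⟨U, hU, l, hy, hl⟩
  have hepi : Epi s₁ := by
    have h := epi_adjHom_of_gen (adjSec s₁) fun z => by
      obtain ⟨U, hU, l, hy, hl⟩ := haff (p z)
      obtain ⟨e₀, he₀⟩ := exists_mem_dom (chart := chart) hj hU hE (z := z) hy
      exact ⟨U, _, _, dom_le chart j U hU e₀, he₀, hfr U hU l hl e₀⟩
    rwa [adjHom, adjSec, Equiv.symm_apply_apply] at h
  obtain ⟨r, hr, hsol⟩ := exists_morphism hk hF hQ hO1Q hφQ (GenLoc.isInvertible_tensor hO1inv hpL) s₁ hepi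
  haveI : IsIso r := by
    refine isIso_of_bijective_sections hj hO1 hφ hE hP hF hk hQ hO1Q hφQ hsol fun z => ?_
    obtain ⟨U, hU, l, hy, hl⟩ := haff (q z)
    have hb : Function.Bijective fun e : Γ(E, U) => tens E L U e l := by
      have h := Groth.L19.ProjBdl.bijective_tens_frame (M := E) hl (le_refl U)
      simpa only [rs_self] using h
    obtain ⟨e', he'⟩ := exists_mem_dom (chart := chartQ) hk hU hF (z := z) hy
    obtain ⟨e₀, rfl⟩ := hb.2 e'
    let f : Γ(E, U) →ₗ[Γ(Y, U)] Γ(CohB1.tensorMod E L, U) :=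
      { toFun := fun e => tens E L U e l
        map_add' := fun a b => tens_add_left' a b l
        map_smul' := fun c e => tens_smul_left c e l }
    refine ⟨U, hU, e₀, f, hb.2, he', le_antisymm ?_ ?_, fun e c hc => ?_⟩
    · have hle : r ⁻¹ᵁ dom chartQ k U hU (f e₀) ≤ p ⁻¹ᵁ U :=
        (r.preimage_mono (dom_le chartQ k U hU (f e₀))).trans (base_le hr U)
      have h := hsol.isFrame hk hO1Q hφQ hU (f e₀)
      rw [show (adjSec s₁).app U (f e₀) = _ from hval U e₀ l, tens_rs] at h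
      exact le_dom_of_isFrame hj hO1 hφ hE hU e₀ hle (isFrame_left_of_tens hO1inv hpL h)
    · exact fun x hx => hsol.mem hF hk hO1Q hφQ hU (f e₀) (dom_le chart j U hU e₀) (hfr U hU l hl e₀) hx
    · show c • rs (CohB1.tensorMod O1 ((Scheme.Modules.pullback p).obj L)) (dom_le chart j U hU e₀)
          ((adjSec s₁).app U (tens E L U e₀ l)) =
        rs (CohB1.tensorMod O1 ((Scheme.Modules.pullback p).obj L)) (dom_le chart j U hU e₀)
          ((adjSec s₁).app U (tens E L U e l))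
      rw [hval, hval, tens_rs, tens_rs, ← tens_smul_left, hc]
  obtain ⟨τ, -⟩ := hsol
  refine ⟨asIso r, hr, fun n OP lamP OQ lamQ hOP hOQ => ?_⟩
  obtain ⟨iP⟩ := nonempty_iso_twist_pow hP (isGenDegOne_of_isGrSymAlg hE hj) hO1 n OP lamP hOP
  obtain ⟨iQ⟩ := nonempty_iso_twist_pow hQ (isGenDegOne_of_isGrSymAlg hF hk) hO1Q n OQ lamQ hOQ
  exact ⟨(Scheme.Modules.pullback r).mapIso iQ ≪≫ Groth.L18.Ample.pullPow r O1Q n ≪≫
    Groth.L00.Tensor.tensorPowIso τ n ≪≫ Groth.L00.Tensor.tensorPowTensor _ _ n ≪≫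
    Groth.L00.Tensor.tensorIso iP.symm (Groth.L18.Ample.pullPow p L n).symm⟩

end Groth.L18.PBundle
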