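import Groth.Agent.L18.PBundle.UPCanon
import Groth.Agent.L18.PBundle.Taut

/-!
# An immersion criterion for morphisms to projective bundles
-/

set_option autoImplicit false
set_option linter.style.haveILetI false
set_option backward.isDefEq.respectTransparency false

noncomputable section

universe u

open CategoryTheory CategoryTheory.Limits AlgebraicGeometry TopologicalSpace Opposite HomogeneousLocalization
open Groth.L18
open Groth.L18.Frame (rs ro rs_rs rs_self rs_smul IsFrame pull pull_rs)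
open Groth.L18.Ample (hom_app_rs)
open Groth.L17.BC.PullSec (map_pull)
open Groth.L19.ProjBdl (pull_comp)

namespace Groth.L18.PBundle

/-- Immersions are local on the part of the target met by the image. -/
theorem isImmersion_of_forall_exists {X P : Scheme.{u}} (r : X ⟶ P)
    (h : ∀ x : X, ∃ G : P.Opens, r.base x ∈ G ∧ IsImmersion (r ∣_ G)) : IsImmersion r := by
  choose G hxG hG using h
  let Gall : P.Opens := ⨆ x, G x
  have hr : Set.range r ⊆ Set.range Gall.ι := by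
    rw [Scheme.Opens.range_ι]
    rintro _ ⟨x, rfl⟩
    exact Opens.mem_iSup.mpr ⟨x, hxG x⟩
  let f := IsOpenImmersion.lift Gall.ι r hr
  have hf : f ≫ Gall.ι = r := IsOpenImmersion.lift_fac _ _ _
  haveI : IsImmersion f := by
    refine IsZariskiLocalAtTarget.of_iSup_eq_top (P := @IsImmersion) (fun x => Gall.ι ⁻¹ᵁ G x)
      (top_le_iff.mp fun z _ => ?_) fun x => ?_
    · obtain ⟨x, hx⟩ := Opens.mem_iSup.mp z.2
      exact Opens.mem_iSup.mpr ⟨x, hx⟩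
    have e : f ⁻¹ᵁ (Gall.ι ⁻¹ᵁ G x) = r ⁻¹ᵁ G x := by rw [← hf]; rfl
    haveI : IsImmersion (((f ∣_ (Gall.ι ⁻¹ᵁ G x)) ≫ (Gall.ι ⁻¹ᵁ G x).ι) ≫ Gall.ι) := by
      rw [morphismRestrict_ι, Category.assoc, hf, ← X.isoOfEq_hom_ι e, Category.assoc, ← morphismRestrict_ι]
      haveI := hG x
      infer_instance
    haveI := IsImmersion.of_comp ((f ∣_ (Gall.ι ⁻¹ᵁ G x)) ≫ (Gall.ι ⁻¹ᵁ G x).ι) Gall.ι
    exact IsImmersion.of_comp _ (Gall.ι ⁻¹ᵁ G x).ι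
  rw [← hf]
  infer_instance

variable {X Y P : Scheme.{u}} {E : Y.Modules} {p : P ⟶ Y} {O1 : P.Modules}
  {φ : E ⟶ (Scheme.Modules.pushforward p).obj O1} {g : X ⟶ Y} {L : X.Modules}

/-- Composites of solutions. -/
theorem Sol.comp {r : X ⟶ P} {hr : r ≫ p = g} {w : E ⟶ (Scheme.Modules.pushforward g).obj L}
    (hs : Sol φ r hr w) {T : Scheme.{u}} (h : T ⟶ X) (he : (h ≫ r) ≫ p = h ≫ g) :
    Sol φ (h ≫ r) he (pullSecMap w h) := by
  obtain ⟨τ, hτ⟩ := hs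
  refine ⟨(Scheme.Modules.pullbackComp h r).symm.app O1 ≪≫ (Scheme.Modules.pullback h).mapIso τ, fun U e => ?_⟩
  refine (congrArg (((Scheme.Modules.pullback h).map τ.hom).app ((h ≫ r) ⁻¹ᵁ (p ⁻¹ᵁ U)))
    (pull_comp h r O1 (p ⁻¹ᵁ U) (φ.app U e))).trans ?_
  refine ((map_pull h τ.hom (r ⁻¹ᵁ (p ⁻¹ᵁ U)) _).trans (congrArg (pull h L _) (hτ U e))).trans ?_
  exact (pull_rs h L (base_le hr U) (w.app U e)).symm

variable {P₀ : Scheme.{u}} {E₀ : Y.Modules} {p₀ : P₀ ⟶ Y} {O1₀ : P₀.Modules}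
  {φ₀ : E₀ ⟶ (Scheme.Modules.pushforward p₀).obj O1₀} {L₀ : X.Modules}

/-- The data at a point: a standard open through its image mapping back to the auxiliary bundle. -/
def RefinesAt {𝒮 : RelProj.QCGrAlg Y}
    (chart : ∀ (U : Y.Opens) (hU : IsAffineOpen U), (((p ⁻¹ᵁ U : P.Opens) : Scheme.{u}) ≅ Proj (𝒮.deg U hU)))
    (j : E ⟶ 𝒮.toModule) (r : X ⟶ P) (hr : r ≫ p = g) (w : E ⟶ (Scheme.Modules.pushforward g).obj L)
    (w₀ : E₀ ⟶ (Scheme.Modules.pushforward g).obj L₀) (x : X) : Prop :=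
  ∃ (U : Y.Opens) (hU : IsAffineOpen U) (e₀ : Γ(E₀, U)) (f : Γ(E₀, U) →ₗ[Γ(Y, U)] Γ(E, U))
    (hT : r ⁻¹ᵁ dom chart j U hU (f e₀) ≤ g ⁻¹ᵁ U), x ∈ r ⁻¹ᵁ dom chart j U hU (f e₀) ∧
      IsFrame L₀ (r ⁻¹ᵁ dom chart j U hU (f e₀)) (rs L₀ hT (w₀.app U e₀)) ∧
      ∀ (e : Γ(E₀, U)) (c : Γ(X, r ⁻¹ᵁ dom chart j U hU (f e₀))),
        c • rs L₀ hT (w₀.app U e₀) = rs L₀ hT (w₀.app U e) → c • rs L hT (w.app U (f e₀)) = rs L hT (w.app U (f e))

variable {𝒮 𝒮₀ : RelProj.QCGrAlg Y}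
  {chart : ∀ (U : Y.Opens) (hU : IsAffineOpen U), (((p ⁻¹ᵁ U : P.Opens) : Scheme.{u}) ≅ Proj (𝒮.deg U hU))}
  {chart₀ : ∀ (U : Y.Opens) (hU : IsAffineOpen U), (((p₀ ⁻¹ᵁ U : P₀.Opens) : Scheme.{u}) ≅ Proj (𝒮₀.deg U hU))}
  {j : E ⟶ 𝒮.toModule} {j₀ : E₀ ⟶ 𝒮₀.toModule}
  {lam : ∀ (U : Y.Opens) (hU : IsAffineOpen U),
    O1 ⟶ (Scheme.Modules.pushforward (RelProj.emb p chart U hU)).obj (GrTwist.twist (𝒮.deg U hU) 1)}
  {lam₀ : ∀ (U : Y.Opens) (hU : IsAffineOpen U),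
    O1₀ ⟶ (Scheme.Modules.pushforward (RelProj.emb p₀ chart₀ U hU)).obj (GrTwist.twist (𝒮₀.deg U hU) 1)}

/-- A morphism which locally refines an immersion is an immersion. -/
theorem isImmersion_of_refines (hj : RelProj.IsGrSymAlg E 𝒮 j) (hO1 : RelProj.IsRelTwist 𝒮 p chart 1 O1 lam)
    (hφ : IsTaut φ lam j) (hE₀ : Coh.IsQCoh E₀) (hj₀ : RelProj.IsGrSymAlg E₀ 𝒮₀ j₀)
    (hP₀ : RelProj.IsRelProj 𝒮₀ p₀ chart₀) (hO1₀ : RelProj.IsRelTwist 𝒮₀ p₀ chart₀ 1 O1₀ lam₀)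
    (hφ₀ : IsTaut φ₀ lam₀ j₀) {r : X ⟶ P} {hr : r ≫ p = g} {w : E ⟶ (Scheme.Modules.pushforward g).obj L}
    (hs : Sol φ r hr w) {i : X ⟶ P₀} [IsImmersion i] {hi : i ≫ p₀ = g}
    {w₀ : E₀ ⟶ (Scheme.Modules.pushforward g).obj L₀} (hs₀ : Sol φ₀ i hi w₀)
    (h : ∀ x, RefinesAt chart j r hr w w₀ x) : IsImmersion r := by
  refine isImmersion_of_forall_exists r fun x => ?_
  obtain ⟨U, hU, e₀, f, hT, hx, hfr, hprop⟩ := h x
  let G := dom chart j U hU (f e₀)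
  let T := r ⁻¹ᵁ G
  refine ⟨G, hx, ?_⟩
  have huniq : ∀ (a b : Γ(P, G)), a • rs O1 (dom_le chart j U hU (f e₀)) (sec φ (f e₀)) =
      b • rs O1 (dom_le chart j U hU (f e₀)) (sec φ (f e₀)) → a = b := fun a b hab =>
    (isFrame_dom hj hO1 hφ hU (f e₀)).inj le_rfl (a := a) (b := b) (by rw [rs_self]; exact hab)
  let a : Γ(E₀, U) → Γ(P, G) := fun e => fn chart hU (f e₀) (frac hj hU (f e₀) (f e))
  have ha : ∀ e, a e • rs O1 (dom_le chart j U hU (f e₀)) (sec φ (f e₀)) =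
      rs O1 (dom_le chart j U hU (f e₀)) (sec φ (f e)) := fun e => fn_frac_smul hj hO1 hφ hU (f e₀) (f e)
  obtain ⟨ψ, hψ0, hψ1⟩ := exists_awayHom hj₀ hU e₀ hE₀
    (p.appLE U G (dom_le chart j U hU (f e₀))).hom a
    (fun e e' => huniq _ _ (by
      rw [ha, add_smul, ha, ha, map_add]
      exact (congrArg (rs O1 _) (map_add (φ.app U).hom _ _)).trans (map_add _ _ _)))
    (fun c e => huniq _ _ (by
      rw [ha, mul_smul, ha, map_smul]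
      refine (congrArg (rs O1 _) (Scheme.Modules.Hom.app_smul φ c (f e))).trans ?_
      exact rs_smul O1 _ (p.app U c) (sec φ (f e))))
    (huniq _ _ (by rw [ha, one_smul]))
  have hιG : ⊤ ≤ G.ι ⁻¹ᵁ G := fun z _ => z.2
  let m : (G : Scheme.{u}) ⟶ P₀ := hom chart₀ hj₀ hU e₀ ψ G.ι hιG
  have hιT : ⊤ ≤ T.ι ⁻¹ᵁ T := fun z _ => z.2
  let ψT : Away (𝒮₀.deg U hU) (el j₀ e₀) →+* Γ(X, T) := (r.app G).hom.comp ψ
  have hcomp : (r ∣_ G) ≫ m = hom chart₀ hj₀ hU e₀ ψT T.ι hιT := by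
    refine (hom_comp ψ (r ∣_ G) G.ι hιG (fun z _ => ((r ∣_ G).base z).2)).trans ?_
    simp only [morphismRestrict_ι]
    unfold hom
    congr 3
  have hψT : ∀ e, ψT (frac hj₀ hU e₀ e) • rs L₀ hT (w₀.app U e₀) = rs L₀ hT (w₀.app U e) := by
    intro e
    obtain ⟨b, hb⟩ := hfr.exists_coeff le_rfl (rs L₀ hT (w₀.app U e))
    rw [rs_self] at hb
    have h1 := hprop e b hb
    have h2 := hs.coeff hj hO1 hφ hU (f e₀) (f e) (V := T) le_rfl hT (a e) (ha e)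
    have h3 := (hs.isFrame hj hO1 hφ hU (f e₀)).inj le_rfl (a := b) (b := r.appLE G T le_rfl (a e))
      (by rw [rs_self]; exact h1.trans h2.symm)
    rw [← hb, h3, show ψT (frac hj₀ hU e₀ e) = r.app G (a e) from congrArg (r.app G) (hψ1 e),
      Scheme.Hom.app_eq_appLE]
  have hTg : ∀ c, ψT (strAway hU (j := j₀) e₀ c) = g.appLE U T hT c := fun c => by
    rw [show ψT (strAway hU (j := j₀) e₀ c) = r.app G (p.appLE U G (dom_le chart j U hU (f e₀)) c) from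
      congrArg (r.app G) (hψ0 c), Scheme.Hom.app_eq_appLE, ← CommRingCat.comp_apply, Scheme.Hom.appLE_comp_appLE]
    simp only [hr]
    rfl
  have h1 : Sol φ₀ (hom chart₀ hj₀ hU e₀ ψT T.ι hιT) (hom_p hP₀ ψT hT hTg T.ι hιT) (pullSecMap w₀ T.ι) :=
    sol_of_crit hE₀ hj₀ hO1₀ hφ₀ _ fun z => hom_crit w₀ hT hfr ψT hψT T.ι hιT z
  have h2 := hs₀.comp T.ι (show (T.ι ≫ i) ≫ p₀ = T.ι ≫ g by rw [Category.assoc, hi])
  have key : (r ∣_ G) ≫ m = T.ι ≫ i := hcomp.trans (sol_unique hE₀ hj₀ hP₀ hO1₀ hφ₀ h1 h2)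
  haveI : IsImmersion ((r ∣_ G) ≫ m) := by rw [key]; infer_instance
  exact IsImmersion.of_comp _ m

end Groth.L18.PBundle
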