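import Groth.Agent.L18.PBundle.Ample
import Groth.Agent.L18.RelAmpleCrit
import Groth.Agent.L18.RelTilde.Frames

/-!
# The counit `q^* q_* L ⟶ L` for a relatively very ample module
-/

set_option autoImplicit false

noncomputable section

universe u

open CategoryTheory CategoryTheory.Limits AlgebraicGeometry TopologicalSpace Opposite
open Groth.L18.Frame (rs rs_rs rs_self IsFrame pull pull_rs)
open Groth.L18.Ample (eq_zero_of_local hom_app_rs)

namespace Groth.L18.PBundle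

/-- The counit is an epimorphism when sections over preimages of opens generate. -/
theorem counit_epi_of_gen {X Y : Scheme.{u}} (f : X ⟶ Y) (M : X.Modules)
    (h : ∀ x : X, ∃ (V : Y.Opens) (m : Γ(M, f ⁻¹ᵁ V)) (W : X.Opens) (hW : W ≤ f ⁻¹ᵁ V),
      x ∈ W ∧ IsFrame M W (rs M hW m)) :
    Epi ((Scheme.Modules.pullbackPushforwardAdjunction f).counit.app M) := by
  refine Preadditive.epi_of_cancel_zero _ fun {G : X.Modules} (g : M ⟶ G) hg => ?_
  have h1 : (Scheme.Modules.pushforward f).map g = 0 := by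
    let adj := Scheme.Modules.pullbackPushforwardAdjunction f
    have h2 : adj.homEquiv _ _ (adj.counit.app M ≫ g) = (Scheme.Modules.pushforward f).map g := by
      rw [Adjunction.homEquiv_unit, Functor.map_comp, ← Category.assoc]
      erw [adj.right_triangle_components]
      exact Category.id_comp _
    rw [← h2, hg, Adjunction.homEquiv_unit, Functor.map_zero, comp_zero]
  refine eq_zero_of_local g fun W' s z hz => ?_
  obtain ⟨V, m, W, hW, hzW, he⟩ := h z
  refine ⟨W' ⊓ W, inf_le_left, ⟨hz, hzW⟩, ?_⟩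
  obtain ⟨a, ha⟩ := (he.mono (inf_le_right : W' ⊓ W ≤ W)).exists_coeff le_rfl (rs M inf_le_left s)
  rw [rs_self] at ha
  have h0 : g.app (f ⁻¹ᵁ V) m = 0 := congr(($h1).app V m)
  rw [← ha, Scheme.Modules.Hom.app_smul, rs_rs, hom_app_rs, h0]
  simp [rs]

/-- Transport of the counit along an isomorphism. -/
theorem counit_epi_of_iso {X Y : Scheme.{u}} (f : X ⟶ Y) {M L : X.Modules} (e : M ≅ L)
    (h : Epi ((Scheme.Modules.pullbackPushforwardAdjunction f).counit.app M)) :
    Epi ((Scheme.Modules.pullbackPushforwardAdjunction f).counit.app L) := by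
  haveI := h
  have hn := (Scheme.Modules.pullbackPushforwardAdjunction f).counit.naturality e.hom
  haveI : Epi ((Scheme.Modules.pushforward f ⋙ Scheme.Modules.pullback f).map e.hom ≫
      (Scheme.Modules.pullbackPushforwardAdjunction f).counit.app _) := by
    rw [hn]; exact epi_comp _ _
  exact epi_of_epi ((Scheme.Modules.pushforward f ⋙ Scheme.Modules.pullback f).map e.hom) _

variable {X S P : Scheme.{u}} {𝒮 : RelProj.QCGrAlg S} {p : P ⟶ S}
  {chart : ∀ (U : S.Opens) (hU : IsAffineOpen U), (((p ⁻¹ᵁ U : P.Opens) : Scheme.{u}) ≅ Proj (𝒮.deg U hU))}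
  {L : P.Modules} {lam : ∀ (U : S.Opens) (hU : IsAffineOpen U),
    L ⟶ (Scheme.Modules.pushforward (RelProj.emb p chart U hU)).obj (GrTwist.twist (𝒮.deg U hU) 1)}

theorem one_notMem {A σ : Type u} [CommRing A] [SetLike σ A] [AddSubgroupClass σ A] {𝒜 : ℕ → σ} [GradedRing 𝒜]
    (y : ProjectiveSpectrum 𝒜) : ((TwistAmp.one0 𝒜 : 𝒜 0) : A) ∉ y.asHomogeneousIdeal :=
  fun h => y.isPrime.ne_top ((Ideal.eq_top_iff_one _).mpr h)

/-- Near every point, `O(1)` has a frame which is a section over the preimage of an affine open. -/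
theorem exists_chart_gen (hgen : 𝒮.IsGenDegOne) (hL : RelProj.IsRelTwist 𝒮 p chart 1 L lam) (z : P) :
    ∃ (U : S.Opens) (m : Γ(L, p ⁻¹ᵁ U)) (W : P.Opens) (hW : W ≤ p ⁻¹ᵁ U), z ∈ W ∧ IsFrame L W (rs L hW m) := by
  obtain ⟨⟨U, hU⟩, y, rfl⟩ := RelTilde.Data.exists_emb (p := p) (chart := chart) z
  obtain ⟨t, ht, hty⟩ := RelTilde.irr_le_span hgen U hU y
  let W : P.Opens := RelProj.emb p chart U hU ''ᵁ Proj.basicOpen (𝒮.deg U hU) t
  have hW : W ≤ p ⁻¹ᵁ U := (Scheme.Hom.image_le_opensRange _ _).trans (RP.opensRange_emb U hU).le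
  have ha : ∀ y', (RelProj.emb p chart U hU).base y' ∈ W → t ∉ y'.asHomogeneousIdeal := by
    rintro y' ⟨y'', hy'', e⟩
    rw [(RelProj.emb p chart U hU).isOpenEmbedding.injective e] at hy''
    exact (Proj.mem_basicOpen _ _ _).1 hy''
  obtain ⟨e, he, hlam⟩ := RelTilde.exists_frame_twist hL hU (⟨t, ht⟩ : 𝒮.deg U hU 1) (TwistAmp.one0 (𝒮.deg U hU))
    (by simp) hW ha (fun y' _ => one_notMem y')
  obtain ⟨m, hm⟩ := (hL.bijective U hU (p ⁻¹ᵁ U) le_rfl).2
    (GrM.genT (⟨t, ht⟩ : 𝒮.deg U hU 1) (TwistAmp.one0 (𝒮.deg U hU)) (n := (1 : ℤ)) (by simp)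
      (RelProj.emb p chart U hU ⁻¹ᵁ (p ⁻¹ᵁ U)) (fun x => one_notMem x.1))
  refine ⟨U, m, W, hW, ⟨y, (Proj.mem_basicOpen _ _ _).2 hty, rfl⟩, ?_⟩
  have : rs L hW m = e := by
    refine (hL.bijective U hU W hW).1 ?_
    rw [hlam, hom_app_rs, hm]
    rfl
  rwa [this]

/-- The counit is an epimorphism for the pullback of `O(1)`. -/
theorem counit_epi_pullback (hgen : 𝒮.IsGenDegOne) (hL : RelProj.IsRelTwist 𝒮 p chart 1 L lam)
    (g : X ⟶ P) :
    Epi ((Scheme.Modules.pullbackPushforwardAdjunction (g ≫ p)).counit.app ((Scheme.Modules.pullback g).obj L)) := by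
  refine counit_epi_of_gen (g ≫ p) _ fun x => ?_
  obtain ⟨U, m, W, hW, hx, he⟩ := exists_chart_gen hgen hL (g x)
  refine ⟨U, pull g L (p ⁻¹ᵁ U) m, g ⁻¹ᵁ W, g.preimage_mono hW, hx, ?_⟩
  have h := he.pullback g L
  rw [← pull_rs] at h
  exact h

/-- For a very ample module the counit is an epimorphism. -/
theorem counit_epi_of_isRelVeryAmple {Y : Scheme.{u}} {q : X ⟶ Y} {M : X.Modules}
    (h : RelProj.IsRelVeryAmple q M) : Epi ((Scheme.Modules.pullbackPushforwardAdjunction q).counit.app M) := by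
  obtain ⟨E, hE, 𝒯, j, hj, Q, r, ch, -, O1, lam', hO1, i, -, rfl, ⟨e⟩⟩ := h
  exact counit_epi_of_iso _ e.symm (counit_epi_pullback (isGenDegOne_of_isGrSymAlg hE hj) hO1 i)

end Groth.L18.PBundle
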