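import Groth.Agent.L18.PBundle.Refine
import Groth.Agent.L18.PBundle.Counit

/-!
# Very ample modules in terms of sections
-/

set_option autoImplicit false
set_option linter.style.haveILetI false
set_option backward.isDefEq.respectTransparency false

noncomputable section

universe u

open CategoryTheory CategoryTheory.Limits AlgebraicGeometry TopologicalSpace Opposite
open Groth.L18
open Groth.L18.Frame (rs rs_rs rs_self IsFrame)

namespace Groth.L18.PBundle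

/-- A very ample module as an immersion into a bundle with its universal data. -/
theorem exists_data {X Y : Scheme.{u}} {q : X ⟶ Y} {L : X.Modules} (h : RelProj.IsRelVeryAmple q L) :
    ∃ (E : Y.Modules) (𝒮 : RelProj.QCGrAlg Y) (j : E ⟶ 𝒮.toModule) (P : Scheme.{u}) (p : P ⟶ Y)
      (chart : ∀ (U : Y.Opens) (hU : IsAffineOpen U), (((p ⁻¹ᵁ U : P.Opens) : Scheme.{u}) ≅ Proj (𝒮.deg U hU)))
      (O1 : P.Modules) (lam : ∀ (U : Y.Opens) (hU : IsAffineOpen U),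
        O1 ⟶ (Scheme.Modules.pushforward (RelProj.emb p chart U hU)).obj (GrTwist.twist (𝒮.deg U hU) 1))
      (φ : E ⟶ (Scheme.Modules.pushforward p).obj O1) (i : X ⟶ P) (hi : i ≫ p = q)
      (s : (Scheme.Modules.pullback q).obj E ⟶ L),
      Coh.IsQCoh E ∧ RelProj.IsGrSymAlg E 𝒮 j ∧ RelProj.IsRelProj 𝒮 p chart ∧
        RelProj.IsRelTwist 𝒮 p chart 1 O1 lam ∧ IsTaut φ lam j ∧ IsImmersion i ∧ Epi s ∧ Sol φ i hi (adjSec s) := by
  obtain ⟨E, hE, 𝒮, j, hj, P, p, chart, hP, O1, lam, hO1, i, hii, hi, ⟨e⟩⟩ := h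
  obtain ⟨φ, hφ⟩ := exists_taut hj hP hE hO1
  haveI := epi_adjHom hE hj hO1 hφ
  haveI : (Scheme.Modules.pullback i).PreservesEpimorphisms :=
    Functor.preservesEpimorphisms_of_adjunction (Scheme.Modules.pullbackPushforwardAdjunction i)
  exact ⟨E, 𝒮, j, P, p, chart, O1, lam, φ, i, hi, canon φ hi ≫ e.inv, hE, hj, hP, hO1, hφ, hii, epi_comp _ _,
    (sol_iff hi _).2 ⟨e.symm, by simp⟩⟩

/-- A solution which is an immersion makes the module very ample. -/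
theorem isRelVeryAmple_of_sol {X Y P : Scheme.{u}} {q : X ⟶ Y} {L : X.Modules} {E : Y.Modules}
    {𝒮 : RelProj.QCGrAlg Y} {j : E ⟶ 𝒮.toModule} {p : P ⟶ Y}
    {chart : ∀ (U : Y.Opens) (hU : IsAffineOpen U), (((p ⁻¹ᵁ U : P.Opens) : Scheme.{u}) ≅ Proj (𝒮.deg U hU))}
    {O1 : P.Modules} {lam : ∀ (U : Y.Opens) (hU : IsAffineOpen U),
      O1 ⟶ (Scheme.Modules.pushforward (RelProj.emb p chart U hU)).obj (GrTwist.twist (𝒮.deg U hU) 1)}
    {φ : E ⟶ (Scheme.Modules.pushforward p).obj O1}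
    (hE : Coh.IsQCoh E) (hj : RelProj.IsGrSymAlg E 𝒮 j) (hP : RelProj.IsRelProj 𝒮 p chart)
    (hO1 : RelProj.IsRelTwist 𝒮 p chart 1 O1 lam) {r : X ⟶ P} [IsImmersion r] {hr : r ≫ p = q}
    {w : E ⟶ (Scheme.Modules.pushforward q).obj L} (hs : Sol φ r hr w) : RelProj.IsRelVeryAmple q L := by
  obtain ⟨τ, -⟩ := hs
  exact ⟨E, hE, 𝒮, j, hj, P, p, chart, hP, O1, lam, hO1, r, inferInstance, hr, ⟨τ.symm⟩⟩

/-- The canonical morphism to the bundle of the direct image is an immersion. -/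
theorem isImmersion_of_pushforward {X Y P : Scheme.{u}} {q : X ⟶ Y} {L : X.Modules}
    (hva : RelProj.IsRelVeryAmple q L) {𝒮 : RelProj.QCGrAlg Y}
    {j : (Scheme.Modules.pushforward q).obj L ⟶ 𝒮.toModule} {p : P ⟶ Y}
    {chart : ∀ (U : Y.Opens) (hU : IsAffineOpen U), (((p ⁻¹ᵁ U : P.Opens) : Scheme.{u}) ≅ Proj (𝒮.deg U hU))}
    {O1 : P.Modules} {lam : ∀ (U : Y.Opens) (hU : IsAffineOpen U),
      O1 ⟶ (Scheme.Modules.pushforward (RelProj.emb p chart U hU)).obj (GrTwist.twist (𝒮.deg U hU) 1)}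
    {φ : (Scheme.Modules.pushforward q).obj L ⟶ (Scheme.Modules.pushforward p).obj O1}
    (hQ : Coh.IsQCoh ((Scheme.Modules.pushforward q).obj L))
    (hj : RelProj.IsGrSymAlg ((Scheme.Modules.pushforward q).obj L) 𝒮 j)
    (hO1 : RelProj.IsRelTwist 𝒮 p chart 1 O1 lam) (hφ : IsTaut φ lam j) {r : X ⟶ P} {hr : r ≫ p = q}
    (hs : Sol φ r hr (𝟙 _)) : IsImmersion r := by
  obtain ⟨E₀, 𝒮₀, j₀, P₀, p₀, chart₀, O1₀, lam₀, φ₀, i, hi, s, hE₀, hj₀, hP₀, hO1₀, hφ₀, hii, -, hs₀⟩ :=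
    exists_data hva
  haveI := hii
  refine isImmersion_of_refines hj hO1 hφ hE₀ hj₀ hP₀ hO1₀ hφ₀ hs hs₀ fun x => ?_
  obtain ⟨_, ⟨U, hU, rfl⟩, hxU, -⟩ :=
    Y.isBasis_affineOpens.exists_subset_of_mem_open (Set.mem_univ (q x)) isOpen_univ
  obtain ⟨e₀, he₀⟩ := exists_mem_dom (chart := chart₀) hj₀ hU hE₀ (z := i x) (le_base hi U hxU)
  let f : Γ(E₀, U) →ₗ[Γ(Y, U)] Γ((Scheme.Modules.pushforward q).obj L, U) :=
    { toFun := fun e => (adjSec s).app U e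
      map_add' := fun a b => map_add _ a b
      map_smul' := fun c e => Scheme.Modules.Hom.app_smul (adjSec s) c e }
  have hT : r ⁻¹ᵁ dom chart j U hU (f e₀) ≤ q ⁻¹ᵁ U :=
    (r.preimage_mono (dom_le chart j U hU (f e₀))).trans (base_le hr U)
  refine ⟨U, hU, e₀, f, hT,
    hs.mem hQ hj hO1 hφ hU (f e₀) ((i.preimage_mono (dom_le chart₀ j₀ U hU e₀)).trans (base_le hi U))
      (hs₀.isFrame hj₀ hO1₀ hφ₀ hU e₀) he₀,
    hs.isFrame hj hO1 hφ hU (f e₀), fun e c hc => hc⟩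

end Groth.L18.PBundle
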