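import Groth.Agent.L18.PBundle.VeryAmpleSec
import Groth.Agent.L16.HomSh.Adjunction
import Groth.Agent.L00.TensorQCoh
import Groth.Agent.L19.ProjBdl.TensFrame

/-!
# Tensor products with very ample modules
-/

set_option autoImplicit false
set_option linter.style.haveILetI false
set_option backward.isDefEq.respectTransparency false

noncomputable section

universe u

open CategoryTheory CategoryTheory.Limits AlgebraicGeometry TopologicalSpace Opposite
open Groth.L18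
open Groth.L18.Frame (rs ro rs_rs rs_self rs_smul IsFrame pull)
open Groth.L18.Ample (hom_app_rs)
open Groth.L18.GenLoc (tens tens_rs tens_smul_left tens_smul_right isFrame_tens)
open Groth.L00.Tensor (tensorMap)

namespace Groth.L18.PBundle

variable {X Y : Scheme.{u}}

theorem tens_add_left' {L M : X.Modules} {U : X.Opens} (m m' : Γ(L, U)) (n : Γ(M, U)) :
    tens L M U (m + m') n = tens L M U m n + tens L M U m' n :=
  Groth.L19.ProjBdl.tens_add_left m m' n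

/-- Both factors of a frame of a tensor product of invertible modules are frames. -/
theorem isFrame_left_of_tens {L L' : X.Modules} (hL : PicF.IsInvertible L) (hL' : PicF.IsInvertible L')
    {W : X.Opens} {m : Γ(L, W)} {n : Γ(L', W)} (h : IsFrame (CohB1.tensorMod L L') W (tens L L' W m n)) :
    IsFrame L W m := by
  have hloc : ∀ x : W, ∃ (V : X.Opens) (hV : V ≤ W), x.1 ∈ V ∧ IsFrame L V (rs L hV m) := by
    intro x
    obtain ⟨W₁, η, hx1, hη⟩ := Frame.exists_frame hL x.1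
    obtain ⟨W₂, η', hx2, hη'⟩ := Frame.exists_frame hL' x.1
    let V := W ⊓ (W₁ ⊓ W₂)
    have h1 := hη.mono (show V ≤ W₁ from inf_le_right.trans inf_le_left)
    have h2 := hη'.mono (show V ≤ W₂ from inf_le_right.trans inf_le_right)
    obtain ⟨a, ha⟩ := h1.exists_coeff le_rfl (rs L (inf_le_left : V ≤ W) m)
    obtain ⟨b, hb⟩ := h2.exists_coeff le_rfl (rs L' (inf_le_left : V ≤ W) n)
    rw [rs_self] at ha hb
    have h3 := h.mono (inf_le_left : V ≤ W)
    rw [tens_rs, ← ha, ← hb, tens_smul_left, tens_smul_right, ← mul_smul] at h3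
    have hu := Frame.isUnit_of_isFrame (isFrame_tens h1 h2) h3
    exact ⟨V, inf_le_left, ⟨x.2, hx1, hx2⟩, ha ▸ h1.smul_unit (isUnit_of_mul_isUnit_left hu)⟩
  choose V hV hxV hF using hloc
  exact IsFrame.of_cover V hV (fun x hx => Opens.mem_iSup.mpr ⟨⟨x, hx⟩, hxV ⟨x, hx⟩⟩) hF

/-- A very ample module tensored with a quotient of a module from the base is very ample. -/
theorem isRelVeryAmple_tensor_of_epi {q : X ⟶ Y} {L L' : X.Modules} (hL : PicF.IsInvertible L)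
    (hva : RelProj.IsRelVeryAmple q L) (hL' : PicF.IsInvertible L') {E' : Y.Modules} (hE' : Coh.IsQCoh E')
    (s' : (Scheme.Modules.pullback q).obj E' ⟶ L') (hs' : Epi s') :
    RelProj.IsRelVeryAmple q (CohB1.tensorMod L L') := by
  obtain ⟨E₀, 𝒮₀, j₀, P₀, p₀, chart₀, O1₀, lam₀, φ₀, i, hi, s, hE₀, hj₀, hP₀, hO1₀, hφ₀, hii, hs, hs₀⟩ :=
    exists_data hva
  haveI := hii
  haveI := hE₀
  haveI := hE'
  have hE : Coh.IsQCoh (CohB1.tensorMod E₀ E') := Groth.L00.Tensor.isQCoh_tensorMod E₀ E'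
  let s'' : (Scheme.Modules.pullback q).obj (CohB1.tensorMod E₀ E') ⟶ CohB1.tensorMod L L' :=
    (Groth.L29.DC.PullTensor.pullTensor q E₀ E').inv ≫ tensorMap s s'
  have hval : ∀ (U : Y.Opens) (a : Γ(E₀, U)) (b : Γ(E', U)),
      (adjSec s'').app U (tens E₀ E' U a b) =
        tens L L' (q ⁻¹ᵁ U) ((adjSec s).app U a) ((adjSec s').app U b) := by
    intro U a b
    rw [adjSec_app, adjSec_app, adjSec_app]
    refine (congrArg (s''.app (q ⁻¹ᵁ U)) (Groth.L16.HomSh.pullTensor_tens q E₀ E' U a b).symm).trans ?_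
    refine (congrArg ((tensorMap s s').app (q ⁻¹ᵁ U))
      (congr($(congrArg (fun k => Scheme.Modules.Hom.app k (q ⁻¹ᵁ U))
        (Groth.L29.DC.PullTensor.pullTensor q E₀ E').hom_inv_id) _))).trans ?_
    exact Groth.L16.HomSh.tensorMap_tens s s' (q ⁻¹ᵁ U) _ _
  have key : ∀ x : X, ∃ (U : Y.Opens) (hU : IsAffineOpen U) (e₀ : Γ(E₀, U)) (e' : Γ(E', U)) (V : X.Opens)
      (hV : V ≤ q ⁻¹ᵁ U), x ∈ V ∧
        IsFrame (CohB1.tensorMod L L') V (rs _ hV ((adjSec s'').app U (tens E₀ E' U e₀ e'))) := by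
    intro x
    obtain ⟨U₁, hU₁, e₁, V₁, hV₁, hx₁, hf₁⟩ := exists_datum hE₀ hL s hs x
    obtain ⟨U₂, hU₂, e₂, V₂, hV₂, hx₂, hf₂⟩ := exists_datum hE' hL' s' hs' x
    obtain ⟨_, ⟨U, hU, rfl⟩, hxU, hUle⟩ := Y.isBasis_affineOpens.exists_subset_of_mem_open (a := q x)
      (show q x ∈ U₁ ⊓ U₂ from ⟨hV₁ hx₁, hV₂ hx₂⟩) (U₁ ⊓ U₂).2
    refine ⟨U, hU, rs E₀ (hUle.trans inf_le_left) e₁, rs E' (hUle.trans inf_le_right) e₂,
      V₁ ⊓ V₂ ⊓ q ⁻¹ᵁ U, inf_le_right, ⟨⟨hx₁, hx₂⟩, hxU⟩, ?_⟩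
    have h := isFrame_tens (hf₁.mono ((inf_le_left.trans inf_le_left) : V₁ ⊓ V₂ ⊓ q ⁻¹ᵁ U ≤ V₁))
      (hf₂.mono ((inf_le_left.trans inf_le_right) : V₁ ⊓ V₂ ⊓ q ⁻¹ᵁ U ≤ V₂))
    simp only [rs_rs] at h
    rw [hval, tens_rs, hom_app_rs (adjSec s), hom_app_rs (adjSec s')]
    convert h using 2 <;> exact rs_rs _ _ _ _
  have hepi : Epi s'' := by
    have h := epi_adjHom_of_gen (adjSec s'') fun x => by
      obtain ⟨U, -, e₀, e', V, hV, hx, hf⟩ := key x
      exact ⟨U, _, V, hV, hx, hf⟩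
    rwa [adjHom, adjSec, Equiv.symm_apply_apply] at h
  obtain ⟨P, p, chart, hP⟩ := RP.exists_isRelProj (SymSheaf.symGr (CohB1.tensorMod E₀ E'))
  have hj := SymSheaf.isGrSymAlg (CohB1.tensorMod E₀ E')
  obtain ⟨O1, lam, hO1⟩ := exists_twist hP 1
  obtain ⟨φ, hφ⟩ := exists_taut hj hP hE hO1
  obtain ⟨r, hr, hsol⟩ := exists_morphism hj hE hP hO1 hφ (GenLoc.isInvertible_tensor hL hL') s'' hepi
  haveI : IsImmersion r := by
    refine isImmersion_of_refines hj hO1 hφ hE₀ hj₀ hP₀ hO1₀ hφ₀ hsol hs₀ fun x => ?_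
    obtain ⟨U, hU, e₀, e', V, hV, hx, hf⟩ := key x
    let f : Γ(E₀, U) →ₗ[Γ(Y, U)] Γ(CohB1.tensorMod E₀ E', U) :=
      { toFun := fun e => tens E₀ E' U e e'
        map_add' := fun a b => tens_add_left' a b e'
        map_smul' := fun c e => tens_smul_left c e e' }
    have hT : r ⁻¹ᵁ dom chart (SymSheaf.j _) U hU (f e₀) ≤ q ⁻¹ᵁ U :=
      (r.preimage_mono (dom_le chart (SymSheaf.j _) U hU (f e₀))).trans (base_le hr U)
    have hfr := hsol.isFrame hj hO1 hφ hU (f e₀)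
    have hw : ∀ e, rs (CohB1.tensorMod L L') hT ((adjSec s'').app U (f e)) =
        tens L L' _ (rs L hT ((adjSec s).app U e)) (rs L' hT ((adjSec s').app U e')) := fun e =>
      (congrArg (rs (CohB1.tensorMod L L') hT) (hval U e e')).trans (tens_rs _ _ _)
    refine ⟨U, hU, e₀, f, hT, hsol.mem hE hj hO1 hφ hU (f e₀) hV hf hx, ?_, fun e c hc => ?_⟩
    · rw [hw] at hfr
      exact isFrame_left_of_tens hL hL' hfr
    · rw [hw, hw, ← tens_smul_left, hc]
  exact isRelVeryAmple_of_sol hE hj hP hO1 hsol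

end Groth.L18.PBundle
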