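import Groth.Agent.L18.PBundle.UP
import Groth.Agent.L21.Extend.Semilocal

/-!
# The universal property of a projective bundle: existence
-/

set_option autoImplicit false
set_option linter.style.haveILetI false
set_option backward.isDefEq.respectTransparency false

noncomputable section

universe u

open CategoryTheory CategoryTheory.Limits AlgebraicGeometry TopologicalSpace Opposite HomogeneousLocalization
open Groth.L18
open Groth.L18.Frame (rs ro rs_rs rs_self rs_smul ro_ro IsFrame pull pull_rs pull_smul)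
open Groth.L18.Ample (hom_app_rs)

namespace Groth.L18.PBundle

private theorem toSpecΓ_fromSpec {X Y : Scheme.{u}} (f : X ⟶ Y) {V : Y.Opens} (hV : IsAffineOpen V) (e : ⊤ ≤ f ⁻¹ᵁ V) :
    X.toSpecΓ ≫ Spec.map (f.appLE V ⊤ e) ≫ hV.fromSpec = f := by
  have hr : Set.range f ⊆ Set.range hV.fromSpec := by
    rw [hV.range_fromSpec]
    rintro _ ⟨z, rfl⟩
    exact e (Set.mem_univ z)
  obtain ⟨ψ, hψ⟩ : ∃ ψ, X.toSpecΓ ≫ Spec.map ψ ≫ hV.fromSpec = f :=
    ⟨(ΓSpec.adjunction.homEquiv X (op Γ(Y, V))).symm (IsOpenImmersion.lift hV.fromSpec f hr) |>.unop, by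
      rw [← Category.assoc]
      refine (congrArg (· ≫ hV.fromSpec) ?_).trans (IsOpenImmersion.lift_fac _ f hr)
      exact ((ΓSpec.adjunction.homEquiv X (op Γ(Y, V))).apply_symm_apply (IsOpenImmersion.lift hV.fromSpec f hr))⟩
  subst hψ
  congr 3
  have h1 : hV.fromSpec.appLE V ⊤ hV.fromSpec_preimage_self.ge = (Scheme.ΓSpecIso Γ(Y, V)).inv := by
    rw [Scheme.Hom.appLE, hV.fromSpec_app_self, Category.assoc, ← Functor.map_comp]
    exact (congrArg ((Scheme.ΓSpecIso Γ(Y, V)).inv ≫ ·) ((Spec Γ(Y, V)).presheaf.map_id _)).trans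
      (Category.comp_id _)
  simp only [← Category.assoc]
  rw [← Scheme.Hom.appLE_comp_appLE (X.toSpecΓ ≫ Spec.map ψ) hV.fromSpec V ⊤ ⊤
    hV.fromSpec_preimage_self.ge le_top, h1,
    show (X.toSpecΓ ≫ Spec.map ψ).appLE ⊤ ⊤ le_top = (X.toSpecΓ ≫ Spec.map ψ).appTop from
      (Scheme.Hom.app_eq_appLE _).symm, Scheme.Hom.comp_appTop, ← Category.assoc,
    ← Scheme.ΓSpecIso_inv_naturality, Category.assoc, Scheme.toSpecΓ_appTop, Iso.inv_hom_id, Category.comp_id]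

/-- Invertible modules are quasi-coherent. -/
private theorem isQCoh_invertible {X : Scheme.{u}} {L : X.Modules} (hL : PicF.IsInvertible L) : Coh.IsQCoh L :=
  Groth.L21.Extend.isQCoh_of_isInvertible hL

section datum

variable {X Y : Scheme.{u}} {E : Y.Modules} {g : X ⟶ Y} {L : X.Modules}

/-- Near every point one of the sections coming from `E` is a frame. -/
theorem exists_datum (hE : Coh.IsQCoh E) (hL : PicF.IsInvertible L)
    (s : (Scheme.Modules.pullback g).obj E ⟶ L) (hs : Epi s) (x : X) :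
    ∃ (U : Y.Opens) (_ : IsAffineOpen U) (e₀ : Γ(E, U)) (V : X.Opens) (hV : V ≤ g ⁻¹ᵁ U),
      x ∈ V ∧ IsFrame L V (rs L hV ((adjSec s).app U e₀)) := by
  haveI := hE
  haveI := hs
  haveI := isQCoh_invertible hL
  haveI := Groth.L16.AffineBC.isQCoh_pullback g E
  obtain ⟨_, ⟨U, hU, rfl⟩, hxU, -⟩ :=
    Y.isBasis_affineOpens.exists_subset_of_mem_open (Set.mem_univ (g x)) isOpen_univ
  obtain ⟨W₀, η₀, hxW₀, hη₀⟩ := Frame.exists_frame hL x
  obtain ⟨_, ⟨W, hW, rfl⟩, hxW, hWle⟩ := X.isBasis_affineOpens.exists_subset_of_mem_open (a := x)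
    (show x ∈ W₀ ⊓ g ⁻¹ᵁ U from ⟨hxW₀, hxU⟩) (W₀ ⊓ g ⁻¹ᵁ U).2
  have hWU : W ≤ g ⁻¹ᵁ U := hWle.trans inf_le_right
  set η := rs L (hWle.trans inf_le_left) η₀
  have hη : IsFrame L W η := hη₀.mono _
  by_cases hgood : ∃ (e : Γ(E, U)) (a : Γ(X, W)),
      a • η = rs L hWU ((adjSec s).app U e) ∧ x ∈ X.basicOpen a
  · obtain ⟨e, a, ha, hxa⟩ := hgood
    refine ⟨U, hU, e, X.basicOpen a, (X.basicOpen_le a).trans hWU, hxa, ?_⟩
    have h := (hη.mono (X.basicOpen_le a)).smul_unit (RingedSpace.isUnit_res_basicOpen _ a)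
    rw [← rs_smul, ha, rs_rs] at h
    exact h
  · exfalso
    obtain ⟨m, hm⟩ := Groth.L16.AffineBC.surjective_app_of_epi s hW η
    suffices H : ∃ α : Γ(X, W), s.app W m = α • η ∧
        X.presheaf.germ W x hxW α ∈ IsLocalRing.maximalIdeal (X.presheaf.stalk x) by
      obtain ⟨α, h1, h2⟩ := H
      have : α = 1 := hη.inj le_rfl (by rw [rs_self, ← h1, hm, one_smul])
      rw [this, map_one] at h2
      exact h2 isUnit_one
    letI : Algebra Γ(Y, U) Γ(X, W) := (g.appLE U W hWU).hom.toAlgebra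
    letI := Module.compHom Γ((Scheme.Modules.pullback g).obj E, W) (g.appLE U W hWU).hom
    haveI : IsScalarTower Γ(Y, U) Γ(X, W) Γ((Scheme.Modules.pullback g).obj E, W) :=
      IsScalarTower.of_algebraMap_smul fun _ _ => rfl
    clear hm
    refine (Groth.L16.AffineBC.isBaseChange_pull (f := g) (G := E) hU hW hWU).inductionOn m
      (fun m => ∃ α : Γ(X, W), s.app W m = α • η ∧
        X.presheaf.germ W x hxW α ∈ IsLocalRing.maximalIdeal (X.presheaf.stalk x)) ?_ ?_ ?_ ?_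
    · exact ⟨0, by simp, by simp⟩
    · intro e
      obtain ⟨α, hα⟩ := hη.exists_coeff le_rfl (rs L hWU ((adjSec s).app U e))
      rw [rs_self] at hα
      refine ⟨α, ?_, fun hu => hgood ⟨e, α, hα, (X.mem_basicOpen α x hxW).2 hu⟩⟩
      show s.app W (rs _ hWU (pull g E U e)) = _
      rw [hom_app_rs, ← adjSec_app, hα]
    · rintro c n ⟨α, h1, h2⟩
      exact ⟨c * α, by rw [Scheme.Modules.Hom.app_smul, h1, mul_smul],
        by rw [map_mul]; exact Ideal.mul_mem_left _ _ h2⟩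
    · rintro m n ⟨α, h1, h2⟩ ⟨β, h3, h4⟩
      exact ⟨α + β, by rw [map_add, h1, h3, add_smul], by rw [map_add]; exact Ideal.add_mem _ h2 h4⟩

end datum

variable {X Y P : Scheme.{u}} {E : Y.Modules} {𝒮 : RelProj.QCGrAlg Y} {p : P ⟶ Y}
  {chart : ∀ (U : Y.Opens) (hU : IsAffineOpen U), (((p ⁻¹ᵁ U : P.Opens) : Scheme.{u}) ≅ Proj (𝒮.deg U hU))}
  {j : E ⟶ 𝒮.toModule} {O1 : P.Modules}
  {lam : ∀ (U : Y.Opens) (hU : IsAffineOpen U),
    O1 ⟶ (Scheme.Modules.pushforward (RelProj.emb p chart U hU)).obj (GrTwist.twist (𝒮.deg U hU) 1)}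
  {φ : E ⟶ (Scheme.Modules.pushforward p).obj O1}
  {g : X ⟶ Y} {L : X.Modules} {T : Scheme.{u}}
  {hj : RelProj.IsGrSymAlg E 𝒮 j} {U : Y.Opens} {hU : IsAffineOpen U} {e₀ : Γ(E, U)} {V : X.Opens}

/-- The morphism attached to local coordinates `ψ` on `V`, along `q : T ⟶ X`. -/
def hom (chart : ∀ (U : Y.Opens) (hU : IsAffineOpen U),
      (((p ⁻¹ᵁ U : P.Opens) : Scheme.{u}) ≅ Proj (𝒮.deg U hU)))
    (hj : RelProj.IsGrSymAlg E 𝒮 j) (hU : IsAffineOpen U) (e₀ : Γ(E, U))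
    (ψ : Away (𝒮.deg U hU) (el j e₀) →+* Γ(X, V)) (q : T ⟶ X) (hq : ⊤ ≤ q ⁻¹ᵁ V) : T ⟶ P :=
  T.toSpecΓ ≫ Spec.map (CommRingCat.ofHom ψ ≫ q.appLE V ⊤ hq) ≫ aE chart hj hU e₀

theorem hom_comp {T' : Scheme.{u}} (ψ : Away (𝒮.deg U hU) (el j e₀) →+* Γ(X, V)) (t : T' ⟶ T) (q : T ⟶ X)
    (hq : ⊤ ≤ q ⁻¹ᵁ V) (hq' : ⊤ ≤ (t ≫ q) ⁻¹ᵁ V) :
    t ≫ hom chart hj hU e₀ ψ q hq = hom chart hj hU e₀ ψ (t ≫ q) hq' := by
  rw [hom, hom, Scheme.toSpecΓ_naturality_assoc, ← Spec.map_comp_assoc, Category.assoc]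
  congr 3
  rw [Scheme.Hom.appTop, Scheme.Hom.app_eq_appLE, Scheme.Hom.appLE_comp_appLE]
  rfl

theorem hom_le (ψ : Away (𝒮.deg U hU) (el j e₀) →+* Γ(X, V)) (q : T ⟶ X) (hq : ⊤ ≤ q ⁻¹ᵁ V) :
    ⊤ ≤ hom chart hj hU e₀ ψ q hq ⁻¹ᵁ dom chart j U hU e₀ := fun z _ =>
  (opensRange_aE chart hj hU e₀).le ⟨_, rfl⟩

theorem hom_fn (ψ : Away (𝒮.deg U hU) (el j e₀) →+* Γ(X, V)) (q : T ⟶ X) (hq : ⊤ ≤ q ⁻¹ᵁ V)
    (b : Away (𝒮.deg U hU) (el j e₀)) :
    (hom chart hj hU e₀ ψ q hq).appLE (dom chart j U hU e₀) ⊤ (hom_le ψ q hq) (fn chart hU e₀ b) =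
      q.appLE V ⊤ hq (ψ b) := by
  let k := T.toSpecΓ ≫ Spec.map (CommRingCat.ofHom ψ ≫ q.appLE V ⊤ hq)
  have h1 : (hom chart hj hU e₀ ψ q hq).appLE (dom chart j U hU e₀) ⊤ (hom_le ψ q hq) (fn chart hU e₀ b) =
      k.appTop ((Scheme.ΓSpecIso _).inv b) := by
    simp only [show hom chart hj hU e₀ ψ q hq = k ≫ aE chart hj hU e₀ from (Category.assoc _ _ _).symm]
    rw [← Scheme.Hom.appLE_comp_appLE k (aE chart hj hU e₀) _ ⊤ ⊤ (top_le_aE chart hj hU e₀) le_top,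
      CommRingCat.comp_apply, aE_fn]
    simp [Scheme.Hom.appTop, Scheme.Hom.app_eq_appLE]
  refine h1.trans ?_
  have h2 : (Scheme.ΓSpecIso (CommRingCat.of (Away (𝒮.deg U hU) (el j e₀)))).inv ≫ k.appTop =
      CommRingCat.ofHom ψ ≫ q.appLE V ⊤ hq := by
    rw [Scheme.Hom.comp_appTop, ← Category.assoc, ← Scheme.ΓSpecIso_inv_naturality, Category.assoc,
      Scheme.toSpecΓ_appTop, Iso.inv_hom_id, Category.comp_id]
  exact congr(($h2) b)

theorem hom_p (hP : RelProj.IsRelProj 𝒮 p chart) (ψ : Away (𝒮.deg U hU) (el j e₀) →+* Γ(X, V))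
    (hV : V ≤ g ⁻¹ᵁ U) (hψ : ∀ r, ψ (strAway hU (j := j) e₀ r) = g.appLE U V hV r)
    (q : T ⟶ X) (hq : ⊤ ≤ q ⁻¹ᵁ V) : hom chart hj hU e₀ ψ q hq ≫ p = q ≫ g := by
  rw [hom, Category.assoc, Category.assoc, aE_p chart hj hU e₀ hP, ← Spec.map_comp_assoc]
  refine Eq.trans ?_ (toSpecΓ_fromSpec (q ≫ g) hU (hq.trans (q.preimage_mono hV)))
  congr 3
  rw [← Scheme.Hom.appLE_comp_appLE q g U V ⊤ hV hq, ← Category.assoc]
  congr 1
  ext r
  exact hψ r

/-- The pullback of a section map. -/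
abbrev pullSecMap (w : E ⟶ (Scheme.Modules.pushforward g).obj L) (q : T ⟶ X) :
    E ⟶ (Scheme.Modules.pushforward (q ≫ g)).obj ((Scheme.Modules.pullback q).obj L) :=
  w ≫ (Scheme.Modules.pushforward g).map ((Scheme.Modules.pullbackPushforwardAdjunction q).unit.app L) ≫
    (Scheme.Modules.pushforwardComp q g).hom.app _

theorem hom_crit (w : E ⟶ (Scheme.Modules.pushforward g).obj L) (hV : V ≤ g ⁻¹ᵁ U)
    (he : IsFrame L V (rs L hV (w.app U e₀))) (ψ : Away (𝒮.deg U hU) (el j e₀) →+* Γ(X, V))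
    (hψ : ∀ e, ψ (frac hj hU e₀ e) • rs L hV (w.app U e₀) = rs L hV (w.app U e))
    (q : T ⟶ X) (hq : ⊤ ≤ q ⁻¹ᵁ V) (z : T) :
    Crit chart hj (hom chart hj hU e₀ ψ q hq) (pullSecMap w q) z := by
  have hw : ∀ e, (pullSecMap w q).app U e = pull q L (g ⁻¹ᵁ U) (w.app U e) := fun _ => rfl
  refine ⟨U, hU, e₀, ⊤, hom_le ψ q hq, hq.trans (q.preimage_mono hV), trivial, ?_, fun e => ?_⟩
  · have h := (he.pullback q L).mono hq
    rw [← pull_rs, rs_rs] at h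
    exact h
  · have h := congrArg (fun t => rs _ hq (pull q L V t)) (hψ e)
    simp only [pull_smul, rs_smul, ← pull_rs, rs_rs] at h
    rw [hom_fn]
    exact h

variable (hj)

include hj in
theorem exists_morphism (hE : Coh.IsQCoh E) (hP : RelProj.IsRelProj 𝒮 p chart)
    (hO1 : RelProj.IsRelTwist 𝒮 p chart 1 O1 lam) (hφ : IsTaut φ lam j) (hL : PicF.IsInvertible L)
    (s : (Scheme.Modules.pullback g).obj E ⟶ L) (hs : Epi s) :
    ∃ (r : X ⟶ P) (hr : r ≫ p = g), Sol φ r hr (adjSec s) := by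
  choose U hU e₀ V hV hxV hfr using exists_datum hE hL s hs
  have hcoef : ∀ (x : X) (e : Γ(E, U x)), ∃ a : Γ(X, V x),
      a • rs L (hV x) ((adjSec s).app (U x) (e₀ x)) = rs L (hV x) ((adjSec s).app (U x) e) := fun x e => by
    obtain ⟨a, ha⟩ := (hfr x).exists_coeff le_rfl (rs L (hV x) ((adjSec s).app (U x) e))
    rw [rs_self] at ha
    exact ⟨a, ha⟩
  choose a ha using hcoef
  have huniq : ∀ (x : X) (b c : Γ(X, V x)),
      b • rs L (hV x) ((adjSec s).app (U x) (e₀ x)) = c • rs L (hV x) ((adjSec s).app (U x) (e₀ x)) → b = c :=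
    fun x b c h => (hfr x).inj le_rfl (a := b) (b := c) (by rw [rs_self]; exact h)
  have hex := fun x => exists_awayHom hj (hU x) (e₀ x) hE (g.appLE (U x) (V x) (hV x)).hom (a x)
    (fun e e' => huniq x _ _ (by rw [ha, add_smul, ha, ha, map_add]; exact map_add _ _ _))
    (fun c e => huniq x _ _ (by
      rw [ha, mul_smul, ha, Scheme.Modules.Hom.app_smul]
      exact rs_smul L (hV x) (g.app (U x) c) ((adjSec s).app (U x) e)))
    (huniq x _ _ (by rw [ha, one_smul]))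
  choose ψ hψ0 hψ1 using hex
  let 𝒰 := X.openCoverOfIsOpenCover V (TopologicalSpace.IsOpenCover.mk (eq_top_iff.mpr fun x _ =>
    Opens.mem_iSup.mpr ⟨x, hxV x⟩))
  have hι : ∀ x, ⊤ ≤ (V x).ι ⁻¹ᵁ V x := fun x z _ => z.2
  let h : ∀ x : X, (V x : Scheme.{u}) ⟶ P := fun x => hom chart hj (hU x) (e₀ x) (ψ x) (V x).ι (hι x)
  have hψw : ∀ (x : X) (e : Γ(E, U x)), ψ x (frac hj (hU x) (e₀ x) e) •
      rs L (hV x) ((adjSec s).app (U x) (e₀ x)) = rs L (hV x) ((adjSec s).app (U x) e) := fun x e => by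
    rw [hψ1, ha]
  have hagree : ∀ x y : X, pullback.fst (V x).ι (V y).ι ≫ h x = pullback.snd (V x).ι (V y).ι ≫ h y := by
    intro x y
    let q := pullback.fst (V x).ι (V y).ι ≫ (V x).ι
    have hq : q = pullback.snd (V x).ι (V y).ι ≫ (V y).ι := pullback.condition
    have hqx : ⊤ ≤ q ⁻¹ᵁ V x := fun z _ => ((pullback.fst (V x).ι (V y).ι).base z).2
    have hqy : ⊤ ≤ q ⁻¹ᵁ V y := by rw [hq]; exact fun z _ => ((pullback.snd (V x).ι (V y).ι).base z).2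
    have ey : pullback.snd (V x).ι (V y).ι ≫ h y = hom chart hj (hU y) (e₀ y) (ψ y) q hqy := by
      refine (hom_comp _ _ _ _ (hqy.trans_eq (by rw [hq]))).trans ?_
      congr 1
      exact hq.symm
    rw [ey, show pullback.fst (V x).ι (V y).ι ≫ h x = hom chart hj (hU x) (e₀ x) (ψ x) q hqx from
      hom_comp _ _ _ _ _]
    exact sol_unique hE hj hP hO1 hφ
      (sol_of_crit hE hj hO1 hφ (hom_p hP _ (hV x) (hψ0 x) q hqx)
        fun z => hom_crit _ (hV x) (hfr x) _ (hψw x) q hqx z)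
      (sol_of_crit hE hj hO1 hφ (hom_p hP _ (hV y) (hψ0 y) q hqy)
        fun z => hom_crit _ (hV y) (hfr y) _ (hψw y) q hqy z)
  let r : X ⟶ P := 𝒰.glueMorphisms h hagree
  have hr : ∀ x, (V x).ι ≫ r = h x := fun x => 𝒰.ι_glueMorphisms h hagree x
  have hrp : r ≫ p = g := 𝒰.hom_ext _ _ fun x => by
    show (V x).ι ≫ r ≫ p = (V x).ι ≫ g
    rw [← Category.assoc, hr]
    exact hom_p hP _ (hV x) (hψ0 x) _ _
  refine ⟨r, hrp, sol_of_crit hE hj hO1 hφ hrp fun x => ?_⟩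
  have hle : V x ≤ r ⁻¹ᵁ dom chart j (U x) (hU x) (e₀ x) := fun y hy => by
    have h1 : (h x).base ⟨y, hy⟩ ∈ dom chart j (U x) (hU x) (e₀ x) := hom_le _ _ _ trivial
    rw [← hr x] at h1
    exact h1
  refine ⟨U x, hU x, e₀ x, V x, hle, hV x, hxV x, hfr x, fun e => ?_⟩
  suffices r.appLE _ (V x) hle (fn chart (hU x) (e₀ x) (frac hj (hU x) (e₀ x) e)) =
      ψ x (frac hj (hU x) (e₀ x) e) by rw [this]; exact hψw x e
  have hfn := hom_fn (chart := chart) (hj := hj) (ψ x) (V x).ι (hι x) (frac hj (hU x) (e₀ x) e)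
  have e2 : ((V x).ι ≫ r).appLE (dom chart j (U x) (hU x) (e₀ x)) ⊤ (fun z _ => hle z.2) =
      r.appLE _ (V x) hle ≫ (V x).ι.appLE (V x) ⊤ (hι x) :=
    (Scheme.Hom.appLE_comp_appLE _ _ _ _ _ _ _).symm
  simp only [hr x] at e2
  refine (ConcreteCategory.bijective_of_isIso (V x).topIso.inv).1 ?_
  have e3 : (V x).topIso.inv = (V x).ι.appLE (V x) ⊤ (hι x) := by
    simp [Scheme.Hom.appLE, Scheme.Opens.topIso]
    rw [← Functor.map_comp]
    rfl
  rw [e3, ← CommRingCat.comp_apply, ← e2]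
  exact hfn

end Groth.L18.PBundle
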