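import Groth.Agent.L18.IdealModule
import Groth.Agent.L18.SymGraded
import Groth.Agent.L00.QCAlgModule
import Groth.Agent.L18.RelProj.GenDegOne
import Groth.Agent.L16.AffineBC.Local

/-!
# The degree-one part of a graded algebra as a quasi-coherent module
-/

set_option autoImplicit false
set_option backward.isDefEq.respectTransparency false

noncomputable section

universe u

open CategoryTheory CategoryTheory.Limits AlgebraicGeometry TopologicalSpace Opposite
open scoped HomogeneousIdeal

namespace Groth.L18.PBundle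

variable {S : Scheme.{u}} (𝒮 : RelProj.QCGrAlg S)

/-- The projection to the degree-`d` part over an affine open. -/
def projD (d : ℕ) (U : S.Opens) (hU : IsAffineOpen U) :
    𝒮.presheaf.obj (op U) →+ 𝒮.presheaf.obj (op U) :=
  GradedRing.proj (𝒮.deg U hU) d

theorem projD_res (d : ℕ) {U V : S.Opens} (hU : IsAffineOpen U) (hV : IsAffineOpen V) (h : V ≤ U)
    (x : 𝒮.presheaf.obj (op U)) :
    projD 𝒮 d V hV ((𝒮.presheaf.map (homOfLE h).op).hom x) =
      (𝒮.presheaf.map (homOfLE h).op).hom (projD 𝒮 d U hU x) := by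
  classical
  simp only [projD, GradedRing.proj_apply]
  exact ((𝒮.res hU hV h).map_directSumDecompose (i := d) (x := x)).symm

theorem projD_str (d : ℕ) (U : S.Opens) (hU : IsAffineOpen U) (r : Γ(S, U)) (x : 𝒮.presheaf.obj (op U)) :
    projD 𝒮 d U hU ((𝒮.str.app (op U)).hom r * x) = (𝒮.str.app (op U)).hom r * projD 𝒮 d U hU x := by
  classical
  simp only [projD, GradedRing.proj_apply]
  exact DirectSum.coe_decompose_mul_of_left_mem_zero (𝒮.deg U hU) (𝒮.str_mem U hU r)

theorem exists_projHom (d : ℕ) : ∃ π : 𝒮.toModule ⟶ 𝒮.toModule,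
    ∀ (U : S.Opens) (hU : IsAffineOpen U) (m : Γ(𝒮.toModule, U)),
      π.app U m = (show Γ(𝒮.toModule, U) from projD 𝒮 d U hU m) :=
  Groth.L16.AffineBC.exists_hom_affine (M := 𝒮.toModule) (N := 𝒮.toModule)
    (fun U hU => projD 𝒮 d U hU)
    (fun U V hU hV h m => projD_res 𝒮 d hU hV h m)
    (fun U hU r m => projD_str 𝒮 d U hU r m)

/-- The projection endomorphism. -/
def projHom (d : ℕ) : 𝒮.toModule ⟶ 𝒮.toModule := (exists_projHom 𝒮 d).choose

/-- The degree-`d` part. -/
def degMod (d : ℕ) : S.Modules := kernel (projHom 𝒮 d - 𝟙 _)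

/-- The inclusion of the degree-`d` part. -/
def degι (d : ℕ) : degMod 𝒮 d ⟶ 𝒮.toModule := kernel.ι _

instance isQCoh_degMod (d : ℕ) : Coh.IsQCoh (degMod 𝒮 d) := by
  haveI : Coh.IsQCoh 𝒮.toModule := Groth.L00.QCAlgModule.isQCoh_toModule 𝒮.toQCAlg
  exact IdealModule.isQCoh_kernel _

theorem degι_injective (d : ℕ) (U : S.Opens) : Function.Injective ((degι 𝒮 d).app U) := by
  let φ := projHom 𝒮 d - 𝟙 𝒮.toModule
  let E := SheafOfModules.evaluation.{u} S.ringCatSheaf (op U)
  haveI : E.Additive := Functor.additive_of_preserves_binary_products E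
  let T := (ShortComplex.mk (kernel.ι φ) φ (kernel.condition φ)).map E
  have hk : IsLimit (KernelFork.ofι T.f T.zero) :=
    isLimitForkMapOfIsLimit' E (kernel.condition φ) (kernelIsKernel φ)
  haveI : Mono T.f := mono_of_isLimit_fork hk
  exact (ModuleCat.mono_iff_injective T.f).1 inferInstance

theorem mem_range_degι (d : ℕ) (U : S.Opens) (hU : IsAffineOpen U) (x : 𝒮.presheaf.obj (op U)) :
    x ∈ 𝒮.deg U hU d ↔ ∃ m : Γ(degMod 𝒮 d, U), (show 𝒮.presheaf.obj (op U) from (degι 𝒮 d).app U m) = x := by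
  classical
  let φ := projHom 𝒮 d - 𝟙 𝒮.toModule
  have hφ : ∀ m : Γ(𝒮.toModule, U), φ.app U m = (show Γ(𝒮.toModule, U) from projD 𝒮 d U hU m) - m := fun m => by
    simp [φ, (exists_projHom 𝒮 d).choose_spec U hU m, projHom]
  have hiff : x ∈ 𝒮.deg U hU d ↔ projD 𝒮 d U hU x = x := by
    simp only [projD, GradedRing.proj_apply]
    exact ⟨fun hx => DirectSum.decompose_of_mem_same _ hx, fun hx => hx ▸ SetLike.coe_mem _⟩
  constructor
  · intro hx
    let E := SheafOfModules.evaluation.{u} S.ringCatSheaf (op U)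
    haveI : E.Additive := Functor.additive_of_preserves_binary_products E
    let T := (ShortComplex.mk (kernel.ι φ) φ (kernel.condition φ)).map E
    have hk : IsLimit (KernelFork.ofι T.f T.zero) :=
      isLimitForkMapOfIsLimit' E (kernel.condition φ) (kernelIsKernel φ)
    have h0 : φ.app U (show Γ(𝒮.toModule, U) from x) = 0 := by
      rw [hφ]
      exact sub_eq_zero.2 (hiff.1 hx)
    exact (ShortComplex.moduleCat_exact_iff T).1 (ShortComplex.exact_of_f_is_kernel T hk) x h0
  · rintro ⟨m, rfl⟩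
    have h0 : φ.app U ((degι 𝒮 d).app U m) = 0 :=
      congr(($(kernel.condition φ)).app U m)
    rw [hφ] at h0
    exact hiff.2 (sub_eq_zero.1 h0)

end Groth.L18.PBundle
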