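import Groth.Agent.L18.PBundle.UPCanon
import Groth.Agent.L18.PBundle.Taut

/-!
# Base change of projective bundles
-/

set_option autoImplicit false
set_option backward.isDefEq.respectTransparency false

noncomputable section

universe u

open CategoryTheory CategoryTheory.Limits AlgebraicGeometry TopologicalSpace Opposite
open Groth.L18
open Groth.L18.Frame (rs rs_rs rs_self pull pull_rs)
open Groth.L18.Ample (hom_app_rs)
open Groth.L17.BC.PullSec (map_pull comp_pull)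
open Groth.L19.ProjBdl (pull_comp)

namespace Groth.L18.PBundle

variable {Y Y' P P' T : Scheme.{u}} {ψ : Y' ⟶ Y} {E : Y.Modules} {p : P ⟶ Y} {p' : P' ⟶ Y'}
  {O1 : P.Modules} {O1' : P'.Modules} (φ : E ⟶ (Scheme.Modules.pushforward p).obj O1)
  (φ' : (Scheme.Modules.pullback ψ).obj E ⟶ (Scheme.Modules.pushforward p').obj O1')

/-- The quotient of `E` on the base-changed bundle. -/
abbrev quotP' : (Scheme.Modules.pullback (p' ≫ ψ)).obj E ⟶ O1' :=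
  (Scheme.Modules.pullbackComp p' ψ).inv.app E ≫ adjHom φ'

theorem quotP'_pull (U : Y.Opens) (e : Γ(E, U)) :
    (quotP' φ').app ((p' ≫ ψ) ⁻¹ᵁ U) (pull (p' ≫ ψ) E U e) = φ'.app (ψ ⁻¹ᵁ U) (pull ψ E U e) :=
  (congrArg ((adjHom φ').app ((p' ≫ ψ) ⁻¹ᵁ U)) (pull_comp p' ψ E U e)).trans
    (adjHom_pull φ' (ψ ⁻¹ᵁ U) (pull ψ E U e))

variable {a : T ⟶ P} {b : T ⟶ Y'} (hab : a ≫ p = b ≫ ψ)

/-- The quotient of `ψ^* E` on a test scheme. -/
abbrev quotT : (Scheme.Modules.pullback b).obj ((Scheme.Modules.pullback ψ).obj E) ⟶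
    (Scheme.Modules.pullback a).obj O1 :=
  (Scheme.Modules.pullbackComp b ψ).hom.app E ≫ canon φ hab

theorem quotT_pull (U : Y.Opens) (e : Γ(E, U)) :
    (quotT φ hab).app (b ⁻¹ᵁ (ψ ⁻¹ᵁ U)) (pull b _ (ψ ⁻¹ᵁ U) (pull ψ E U e)) =
      rs ((Scheme.Modules.pullback a).obj O1) (le_base hab U) (pull a O1 (p ⁻¹ᵁ U) (φ.app U e)) :=
  (congrArg ((canon φ hab).app ((b ≫ ψ) ⁻¹ᵁ U)) (comp_pull b ψ E U e)).trans (canon_pull hab U e)

variable {g : P' ⟶ P} (hgp : g ≫ p = p' ≫ ψ)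

/-- A lift of `(a, b)` composes with `g` to a solution. -/
theorem sol_comp (hg : Sol φ g hgp (adjSec (quotP' φ'))) {h : T ⟶ P'} (hb : h ≫ p' = b)
    (hh : Sol φ' h hb (adjSec (quotT φ hab))) (he : (h ≫ g) ≫ p = b ≫ ψ) :
    Sol φ (h ≫ g) he (adjSec (canon φ hab)) := by
  obtain ⟨τg, hτg⟩ := hg
  obtain ⟨τh, hτh⟩ := hh
  refine ⟨(Scheme.Modules.pullbackComp h g).symm.app O1 ≪≫ (Scheme.Modules.pullback h).mapIso τg ≪≫ τh,
    fun U e => ?_⟩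
  refine (congrArg (fun t => τh.hom.app ((h ≫ g) ⁻¹ᵁ (p ⁻¹ᵁ U))
    (((Scheme.Modules.pullback h).map τg.hom).app ((h ≫ g) ⁻¹ᵁ (p ⁻¹ᵁ U)) t))
    (pull_comp h g O1 (p ⁻¹ᵁ U) (φ.app U e))).trans ?_
  refine (congrArg (τh.hom.app ((h ≫ g) ⁻¹ᵁ (p ⁻¹ᵁ U)))
    ((map_pull h τg.hom (g ⁻¹ᵁ (p ⁻¹ᵁ U)) (pull g O1 (p ⁻¹ᵁ U) (φ.app U e))).trans
      ((congrArg (pull h O1' (g ⁻¹ᵁ (p ⁻¹ᵁ U))) ((hτg U e).trans (congrArg (rs O1' (base_le hgp U))
        ((adjSec_app (quotP' φ') U e).trans (quotP'_pull φ' U e))))).trans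
        (pull_rs h O1' (base_le hgp U) _).symm))).trans ?_
  refine (hom_app_rs τh.hom (h.preimage_mono (base_le hgp U)) _).trans ?_
  refine (congrArg (rs _ (h.preimage_mono (base_le hgp U))) ((hτh (ψ ⁻¹ᵁ U) (pull ψ E U e)).trans
    (congrArg (rs _ (base_le hb (ψ ⁻¹ᵁ U)))
      ((adjSec_app (quotT φ hab) (ψ ⁻¹ᵁ U) (pull ψ E U e)).trans (quotT_pull φ hab U e))))).trans ?_
  refine Eq.trans ?_ (congrArg (rs _ (base_le he U)) ((adjSec_app (canon φ hab) U e).trans (canon_pull hab U e))).symm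
  simp only [rs_rs]
  rfl

/-- A lift of `(a, b)` is a solution. -/
theorem sol_of_lift (hg : Sol φ g hgp (adjSec (quotP' φ'))) {h : T ⟶ P'} (hb : h ≫ p' = b) (ha : h ≫ g = a) :
    Sol φ' h hb (adjSec (quotT φ hab)) := by
  obtain ⟨τg, hτg⟩ := hg
  subst ha
  refine (sol_iff hb _).2 ⟨(Scheme.Modules.pullback h).mapIso τg.symm ≪≫ (Scheme.Modules.pullbackComp h g).app O1, ?_⟩
  refine (cancel_epi ((Scheme.Modules.pullbackComp b ψ).inv.app E)).1 (hom_ext_pull fun U e => ?_)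
  refine Eq.trans ?_ ((congrArg ((quotT φ hab).app ((b ≫ ψ) ⁻¹ᵁ U)) (pull_comp b ψ E U e)).trans
    (quotT_pull φ hab U e)).symm
  have h1 : τg.inv.app ((p' ≫ ψ) ⁻¹ᵁ U) (φ'.app (ψ ⁻¹ᵁ U) (pull ψ E U e)) =
      rs _ (le_base hgp U) (pull g O1 (p ⁻¹ᵁ U) (φ.app U e)) := by
    have h0 := (hτg U e).trans (congrArg (rs O1' (base_le hgp U))
      ((adjSec_app (quotP' φ') U e).trans (quotP'_pull φ' U e)))
    have h2 := congrArg (fun t => rs _ (le_base hgp U) (τg.inv.app (g ⁻¹ᵁ (p ⁻¹ᵁ U)) t)) h0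
    simp only [hom_app_rs, rs_rs] at h2
    refine Eq.trans ((rs_self _ _ _).symm.trans h2.symm) ?_
    refine congrArg (rs _ (le_base hgp U)) ?_
    exact congr($(congrArg (fun k => Scheme.Modules.Hom.app k (g ⁻¹ᵁ (p ⁻¹ᵁ U))) τg.hom_inv_id)
      (pull g O1 (p ⁻¹ᵁ U) (φ.app U e)))
  refine (congrArg (fun t => ((Scheme.Modules.pullback h).mapIso τg.symm ≪≫
      (Scheme.Modules.pullbackComp h g).app O1).hom.app ((b ≫ ψ) ⁻¹ᵁ U)
    ((canon φ' hb).app ((b ≫ ψ) ⁻¹ᵁ U) t)) (pull_comp b ψ E U e)).trans ?_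
  refine (congrArg (((Scheme.Modules.pullback h).mapIso τg.symm ≪≫
      (Scheme.Modules.pullbackComp h g).app O1).hom.app ((b ≫ ψ) ⁻¹ᵁ U))
    (canon_pull (φ := φ') hb (ψ ⁻¹ᵁ U) (pull ψ E U e))).trans ?_
  refine (hom_app_rs _ (le_base hb (ψ ⁻¹ᵁ U)) _).trans ?_
  refine (congrArg (fun t => rs _ (le_base hb (ψ ⁻¹ᵁ U))
    (((Scheme.Modules.pullbackComp h g).hom.app O1).app (h ⁻¹ᵁ (p' ⁻¹ᵁ (ψ ⁻¹ᵁ U))) t))
    ((map_pull h τg.inv (p' ⁻¹ᵁ (ψ ⁻¹ᵁ U)) _).trans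
      ((congrArg (pull h _ _) h1).trans (pull_rs h _ (le_base hgp U) _).symm))).trans ?_
  refine (congrArg (rs _ (le_base hb (ψ ⁻¹ᵁ U))) ((hom_app_rs _ (h.preimage_mono (le_base hgp U)) _).trans
    (congrArg (rs _ _) (comp_pull h g O1 (p ⁻¹ᵁ U) (φ.app U e))))).trans ?_
  exact rs_rs _ _ _ _

/-- Base change of the projective bundle. -/
theorem exists_isPullback {𝒮 : RelProj.QCGrAlg Y} {j : E ⟶ 𝒮.toModule} {𝒮' : RelProj.QCGrAlg Y'}
    {j' : (Scheme.Modules.pullback ψ).obj E ⟶ 𝒮'.toModule}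
    {chart : ∀ (U : Y.Opens) (hU : IsAffineOpen U), (((p ⁻¹ᵁ U : P.Opens) : Scheme.{u}) ≅ Proj (𝒮.deg U hU))}
    {chart' : ∀ (U : Y'.Opens) (hU : IsAffineOpen U), (((p' ⁻¹ᵁ U : P'.Opens) : Scheme.{u}) ≅ Proj (𝒮'.deg U hU))}
    {lam : ∀ (U : Y.Opens) (hU : IsAffineOpen U),
      O1 ⟶ (Scheme.Modules.pushforward (RelProj.emb p chart U hU)).obj (GrTwist.twist (𝒮.deg U hU) 1)}
    {lam' : ∀ (U : Y'.Opens) (hU : IsAffineOpen U),
      O1' ⟶ (Scheme.Modules.pushforward (RelProj.emb p' chart' U hU)).obj (GrTwist.twist (𝒮'.deg U hU) 1)}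
    (hE : Coh.IsQCoh E) (hj : RelProj.IsGrSymAlg E 𝒮 j) (hP : RelProj.IsRelProj 𝒮 p chart)
    (hj' : RelProj.IsGrSymAlg ((Scheme.Modules.pullback ψ).obj E) 𝒮' j') (hP' : RelProj.IsRelProj 𝒮' p' chart')
    (hO1 : RelProj.IsRelTwist 𝒮 p chart 1 O1 lam) (hO1' : RelProj.IsRelTwist 𝒮' p' chart' 1 O1' lam')
    (hφ : IsTaut φ lam j) (hφ' : IsTaut φ' lam' j') :
    ∃ g : P' ⟶ P, IsPullback g p' p ψ := by
  haveI := hE
  have hE' : Coh.IsQCoh ((Scheme.Modules.pullback ψ).obj E) := Groth.L16.AffineBC.isQCoh_pullback ψ E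
  have hLP' := RelTilde.isInvertible_of_genDegOne (isGenDegOne_of_isGrSymAlg hE' hj') hO1'
  haveI := epi_adjHom hE' hj' hO1' hφ'
  haveI := epi_adjHom hE hj hO1 hφ
  obtain ⟨g, hgp, hg⟩ := exists_morphism hj hE hP hO1 hφ hLP' (quotP' φ') (epi_comp _ _)
  have key : ∀ (T : Scheme.{u}) (a : T ⟶ P) (b : T ⟶ Y'), a ≫ p = b ≫ ψ →
      ∃ h : T ⟶ P', h ≫ g = a ∧ h ≫ p' = b ∧ ∀ h', h' ≫ g = a → h' ≫ p' = b → h' = h := by
    intro T a b hab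
    haveI : (Scheme.Modules.pullback a).PreservesEpimorphisms :=
      Functor.preservesEpimorphisms_of_adjunction (Scheme.Modules.pullbackPushforwardAdjunction a)
    haveI : Epi (quotT φ hab) := epi_comp _ _
    obtain ⟨h, hb, hh⟩ := exists_morphism hj' hE' hP' hO1' hφ'
      (Groth.L18.Ample.isInvertible_pullback a (RelTilde.isInvertible_of_genDegOne (isGenDegOne_of_isGrSymAlg hE hj) hO1))
      (quotT φ hab) ‹_›
    have he : (h ≫ g) ≫ p = b ≫ ψ := by rw [Category.assoc, hgp, ← Category.assoc, hb]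
    have ha : Sol φ a hab (adjSec (canon φ hab)) :=
      (sol_iff hab _).2 ⟨Iso.refl _, by simp⟩
    refine ⟨h, sol_unique hE hj hP hO1 hφ (sol_comp φ φ' hab hgp hg hb hh he) ha, hb, fun h' h1 h2 => ?_⟩
    exact sol_unique hE' hj' hP' hO1' hφ' (sol_of_lift φ φ' hab hgp hg h2 h1) hh
  choose lift hl1 hl2 hl3 using key
  exact ⟨g, ⟨⟨hgp⟩, ⟨PullbackCone.IsLimit.mk _ (fun s => lift _ _ _ s.condition)
    (fun s => hl1 _ _ _ s.condition) (fun s => hl2 _ _ _ s.condition)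
    fun s m h1 h2 => hl3 _ _ _ s.condition m h1 h2⟩⟩⟩

end Groth.L18.PBundle
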