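import Groth.Agent.L18.PBundle.UPBasic
import Groth.Agent.L18.RelProj.GenDegOne

/-!
# `P(E) ⨿ P(F) ⟶ P(E ⊞ F)`
-/

set_option autoImplicit false
set_option backward.isDefEq.respectTransparency false

noncomputable section

universe u

open CategoryTheory CategoryTheory.Limits AlgebraicGeometry TopologicalSpace Opposite
open scoped HomogeneousIdeal
open Groth.L18

namespace Groth.L18.PBundle

/-- A pair of closed immersions with disjoint images gives a closed immersion of the coproduct. -/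
theorem isClosedImmersion_desc {A B C : Scheme.{u}} (f : A ⟶ C) (g : B ⟶ C) [IsClosedImmersion f]
    [IsClosedImmersion g] (hd : ∀ a b, f.base a ≠ g.base b) : IsClosedImmersion (coprod.desc f g) := by
  let d := coprod.desc f g
  have hl : ∀ a, d.base ((coprod.inl : A ⟶ A ⨿ B).base a) = f.base a := fun a => by
    rw [← Scheme.Hom.comp_apply, coprod.inl_desc]
  have hr : ∀ b, d.base ((coprod.inr : B ⟶ A ⨿ B).base b) = g.base b := fun b => by
    rw [← Scheme.Hom.comp_apply, coprod.inr_desc]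
  have hcov : ∀ z : ↑(A ⨿ B), (∃ a, (coprod.inl : A ⟶ A ⨿ B).base a = z) ∨ ∃ b, (coprod.inr : B ⟶ A ⨿ B).base b = z :=
    fun z => by
      obtain ⟨s, rfl⟩ := (coprodMk A B).surjective z
      cases s with
      | inl a => exact Or.inl ⟨a, (coprodMk_inl A B a).symm⟩
      | inr b => exact Or.inr ⟨b, (coprodMk_inr A B b).symm⟩
  haveI : SurjectiveOnStalks d := ⟨fun z => by
    rcases hcov z with ⟨a, rfl⟩ | ⟨b, rfl⟩
    · have h := f.stalkMap_surjective a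
      rw [show f = (coprod.inl : A ⟶ A ⨿ B) ≫ d from (coprod.inl_desc f g).symm, Scheme.Hom.stalkMap_comp] at h
      intro t
      obtain ⟨s, hs⟩ := h ((coprod.inl : A ⟶ A ⨿ B).stalkMap a t)
      exact ⟨s, (ConcreteCategory.bijective_of_isIso ((coprod.inl : A ⟶ A ⨿ B).stalkMap a)).1 hs⟩
    · have h := g.stalkMap_surjective b
      rw [show g = (coprod.inr : B ⟶ A ⨿ B) ≫ d from (coprod.inr_desc f g).symm, Scheme.Hom.stalkMap_comp] at h
      intro t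
      obtain ⟨s, hs⟩ := h ((coprod.inr : B ⟶ A ⨿ B).stalkMap b t)
      exact ⟨s, (ConcreteCategory.bijective_of_isIso ((coprod.inr : B ⟶ A ⨿ B).stalkMap b)).1 hs⟩⟩
  refine { toSurjectiveOnStalks := ‹_›, isClosedEmbedding := ?_ }
  refine Topology.IsClosedEmbedding.of_continuous_injective_isClosedMap d.continuous ?_ ?_
  · intro z z' h
    rcases hcov z with ⟨a, rfl⟩ | ⟨b, rfl⟩ <;> rcases hcov z' with ⟨a', rfl⟩ | ⟨b', rfl⟩
    · rw [hl, hl] at h; rw [f.isClosedEmbedding.injective h]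
    · rw [hl, hr] at h; exact absurd h (hd _ _)
    · rw [hr, hl] at h; exact absurd h.symm (hd _ _)
    · rw [hr, hr] at h; rw [g.isClosedEmbedding.injective h]
  · intro K hK
    have : d.base '' K = f.base '' ((coprod.inl : A ⟶ A ⨿ B).base ⁻¹' K) ∪
        g.base '' ((coprod.inr : B ⟶ A ⨿ B).base ⁻¹' K) := by
      ext c
      constructor
      · rintro ⟨z, hz, rfl⟩
        rcases hcov z with ⟨a, rfl⟩ | ⟨b, rfl⟩
        · exact Or.inl ⟨a, hz, (hl a).symm⟩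
        · exact Or.inr ⟨b, hz, (hr b).symm⟩
      · rintro (⟨a, ha, rfl⟩ | ⟨b, hb, rfl⟩)
        · exact ⟨_, ha, hl a⟩
        · exact ⟨_, hb, hr b⟩
    show IsClosed (d.base '' K)
    rw [this]
    exact (f.isClosedEmbedding.isClosedMap _ (hK.preimage (Scheme.Hom.continuous _))).union
      (g.isClosedEmbedding.isClosedMap _ (hK.preimage (Scheme.Hom.continuous _)))

variable {Y PA PB : Scheme.{u}} {𝒜 ℬ : RelProj.QCGrAlg Y} {π : 𝒜.toQCAlg ⟶ ℬ.toQCAlg}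
  {hπ : RelProj.IsGradedHom π}
  {hirr : ∀ (U : Y.Opens) (hU : IsAffineOpen U),
    (ℬ.deg U hU)₊ ≤ ((𝒜.deg U hU)₊).map (RelProj.gradedHomAt π hπ U hU)}
  {pA : PA ⟶ Y} {pB : PB ⟶ Y}
  {chartA : ∀ (U : Y.Opens) (hU : IsAffineOpen U), (((pA ⁻¹ᵁ U : PA.Opens) : Scheme.{u}) ≅ Proj (𝒜.deg U hU))}
  {chartB : ∀ (U : Y.Opens) (hU : IsAffineOpen U), (((pB ⁻¹ᵁ U : PB.Opens) : Scheme.{u}) ≅ Proj (ℬ.deg U hU))}
  {h : PB ⟶ PA}

theorem emb_map (hh : RelProj.IsRelProjMap π hπ hirr chartA chartB h) (U : Y.Opens) (hU : IsAffineOpen U) :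
    RelProj.emb pB chartB U hU ≫ h =
      Proj.map (RelProj.gradedHomAt π hπ U hU) (hirr U hU) ≫ RelProj.emb pA chartA U hU := by
  rw [RelProj.emb, Category.assoc, hh U hU, Iso.inv_hom_id_assoc]
  rfl

/-- The image of the map misses the standard open of an element of the kernel. -/
theorem notMem_dom_of_ker {E : Y.Modules} {j : E ⟶ 𝒜.toModule}
    (hh : RelProj.IsRelProjMap π hπ hirr chartA chartB h) {U : Y.Opens} (hU : IsAffineOpen U) (e : Γ(E, U))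
    (he : (π.hom.app (op U)).hom (el j e) = 0) (x : PB) (hx : x ∈ pB ⁻¹ᵁ U) :
    h.base x ∉ dom chartA j U hU e := by
  obtain ⟨v, rfl⟩ := (RP.opensRange_emb (chart := chartB) U hU).ge hx
  rintro ⟨w, hw, hwv⟩
  rw [← Scheme.Hom.comp_apply, emb_map hh U hU, Scheme.Hom.comp_apply] at hwv
  rw [(RelProj.emb pA chartA U hU).isOpenEmbedding.injective hwv] at hw
  refine (Proj.mem_basicOpen _ _ _).1 hw ?_
  show (π.hom.app (op U)).hom (el j e) ∈ (v : ProjectiveSpectrum (ℬ.deg U hU)).asHomogeneousIdeal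
  rw [he]
  exact zero_mem _

theorem closedImmersion_biprod {Y PE PF P : Scheme.{u}} {E F : Y.Modules} (hE : Coh.IsQCoh E) (hF : Coh.IsQCoh F)
    (hEF : Coh.IsQCoh (E ⊞ F))
    {𝒮E 𝒮F 𝒮 : RelProj.QCGrAlg Y}
    {jE : E ⟶ 𝒮E.toModule} (hjE : RelProj.IsGrSymAlg E 𝒮E jE)
    {jF : F ⟶ 𝒮F.toModule} (hjF : RelProj.IsGrSymAlg F 𝒮F jF)
    {j : E ⊞ F ⟶ 𝒮.toModule} (hj : RelProj.IsGrSymAlg (E ⊞ F) 𝒮 j)
    {πE : 𝒮.toQCAlg ⟶ 𝒮E.toQCAlg} {hπE : RelProj.IsGradedHom πE}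
    (hjπE : j ≫ RelSpec.QCAlg.Hom.toModuleMap πE = biprod.fst ≫ jE)
    {πF : 𝒮.toQCAlg ⟶ 𝒮F.toQCAlg} {hπF : RelProj.IsGradedHom πF}
    (hjπF : j ≫ RelSpec.QCAlg.Hom.toModuleMap πF = biprod.snd ≫ jF)
    {hirrE : ∀ (U : Y.Opens) (hU : IsAffineOpen U),
      (𝒮E.deg U hU)₊ ≤ ((𝒮.deg U hU)₊).map (RelProj.gradedHomAt πE hπE U hU)}
    {hirrF : ∀ (U : Y.Opens) (hU : IsAffineOpen U),
      (𝒮F.deg U hU)₊ ≤ ((𝒮.deg U hU)₊).map (RelProj.gradedHomAt πF hπF U hU)}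
    {p : P ⟶ Y} {pE : PE ⟶ Y} {pF : PF ⟶ Y}
    {chart : ∀ (U : Y.Opens) (hU : IsAffineOpen U), ((p ⁻¹ᵁ U : P.Opens) : Scheme.{u}) ≅ Proj (𝒮.deg U hU)}
    {chartE : ∀ (U : Y.Opens) (hU : IsAffineOpen U), ((pE ⁻¹ᵁ U : PE.Opens) : Scheme.{u}) ≅ Proj (𝒮E.deg U hU)}
    {chartF : ∀ (U : Y.Opens) (hU : IsAffineOpen U), ((pF ⁻¹ᵁ U : PF.Opens) : Scheme.{u}) ≅ Proj (𝒮F.deg U hU)}
    (hP : RelProj.IsRelProj 𝒮 p chart) (hPE : RelProj.IsRelProj 𝒮E pE chartE) (hPF : RelProj.IsRelProj 𝒮F pF chartF)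
    {hE' : PE ⟶ P} (hhE : RelProj.IsRelProjMap πE hπE hirrE chart chartE hE')
    {hF' : PF ⟶ P} (hhF : RelProj.IsRelProjMap πF hπF hirrF chart chartF hF') :
    IsClosedImmersion (coprod.desc hE' hF') := by
  have kE : ∀ (U : Y.Opens) (z : Γ(E ⊞ F, U)),
      (πE.hom.app (op U)).hom (el j z) = el jE ((biprod.fst : E ⊞ F ⟶ E).app U z) := fun U z =>
    congr(($hjπE).app U z)
  have kF : ∀ (U : Y.Opens) (z : Γ(E ⊞ F, U)),
      (πF.hom.app (op U)).hom (el j z) = el jF ((biprod.snd : E ⊞ F ⟶ F).app U z) := fun U z =>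
    congr(($hjπF).app U z)
  haveI hcE : IsClosedImmersion hE' := by
    refine RP.map_isClosedImmersion_of_genDegOne πE hπE hirrE hP hPE (isGenDegOne_of_isGrSymAlg hE hjE)
      (fun U hU y hy => ?_) hhE
    haveI := hE
    obtain ⟨Φ, h0, h1, hmem⟩ := SymSheaf.exists_gradedEquiv hjE
    obtain ⟨t, rfl⟩ := (Φ U hU).surjective y
    have ht := (hmem U hU 1 t).2 hy
    rw [SymRing.piece, pow_one] at ht
    obtain ⟨m, rfl⟩ := ht
    refine ⟨el j ((biprod.inl : E ⟶ E ⊞ F).app U m), el_mem hj hU _, (kE U _).trans ?_⟩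
    rw [h1, show (biprod.fst : E ⊞ F ⟶ E).app U ((biprod.inl : E ⟶ E ⊞ F).app U m) = m from
      congr($(congrArg (fun k => Scheme.Modules.Hom.app k U) (biprod.inl_fst (X := E) (Y := F))) m)]
  haveI hcF : IsClosedImmersion hF' := by
    refine RP.map_isClosedImmersion_of_genDegOne πF hπF hirrF hP hPF (isGenDegOne_of_isGrSymAlg hF hjF)
      (fun U hU y hy => ?_) hhF
    haveI := hF
    obtain ⟨Φ, h0, h1, hmem⟩ := SymSheaf.exists_gradedEquiv hjF
    obtain ⟨t, rfl⟩ := (Φ U hU).surjective y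
    have ht := (hmem U hU 1 t).2 hy
    rw [SymRing.piece, pow_one] at ht
    obtain ⟨m, rfl⟩ := ht
    refine ⟨el j ((biprod.inr : F ⟶ E ⊞ F).app U m), el_mem hj hU _, (kF U _).trans ?_⟩
    rw [h1, show (biprod.snd : E ⊞ F ⟶ F).app U ((biprod.inr : F ⟶ E ⊞ F).app U m) = m from
      congr($(congrArg (fun k => Scheme.Modules.Hom.app k U) (biprod.inr_snd (X := E) (Y := F))) m)]
  refine isClosedImmersion_desc hE' hF' fun x y hxy => ?_
  have hoE := (RP.existsUnique_map πE hπE hirrE hP hPE).2 hE' hhE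
  have hoF := (RP.existsUnique_map πF hπF hirrF hP hPF).2 hF' hhF
  obtain ⟨_, ⟨U, hU, rfl⟩, hxU, -⟩ :=
    Y.isBasis_affineOpens.exists_subset_of_mem_open (Set.mem_univ (p (hE'.base x))) isOpen_univ
  have hx : x ∈ pE ⁻¹ᵁ U := by rw [← hoE]; exact hxU
  have hy : y ∈ pF ⁻¹ᵁ U := by
    rw [← hoF]
    show p.base (hF'.base y) ∈ U
    rw [← hxy]; exact hxU
  obtain ⟨z, hz⟩ := exists_mem_dom (chart := chart) hj hU hEF (z := hE'.base x) hxU
  let za := (biprod.fst ≫ biprod.inl : E ⊞ F ⟶ E ⊞ F).app U z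
  let zb := (biprod.snd ≫ biprod.inr : E ⊞ F ⟶ E ⊞ F).app U z
  have hsum : z = za + zb :=
    (congr($(congrArg (fun k => Scheme.Modules.Hom.app k U) (biprod.total (X := E) (Y := F))) z)).symm
  have hb : hE'.base x ∉ dom chart j U hU zb := notMem_dom_of_ker hhE hU zb (by
    rw [kE, show (biprod.fst : E ⊞ F ⟶ E).app U zb = 0 from
      congr($(congrArg (fun k => Scheme.Modules.Hom.app k U)
        (show (biprod.snd ≫ biprod.inr) ≫ (biprod.fst : E ⊞ F ⟶ E) = 0 by simp)) z)]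
    exact map_zero _) x hx
  have ha : hE'.base x ∉ dom chart j U hU za := by
    rw [hxy]
    exact notMem_dom_of_ker hhF hU za (by
      rw [kF, show (biprod.snd : E ⊞ F ⟶ F).app U za = 0 from
        congr($(congrArg (fun k => Scheme.Modules.Hom.app k U)
          (show (biprod.fst ≫ biprod.inl) ≫ (biprod.snd : E ⊞ F ⟶ F) = 0 by simp)) z)]
      exact map_zero _) y hy
  obtain ⟨w, hw, hwx⟩ := hz
  refine (Proj.mem_basicOpen _ _ _).1 hw ?_
  have ea : el j za ∈ w.asHomogeneousIdeal := by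
    by_contra hc
    exact ha ⟨w, (Proj.mem_basicOpen _ _ _).2 hc, hwx⟩
  have eb : el j zb ∈ w.asHomogeneousIdeal := by
    by_contra hc
    exact hb ⟨w, (Proj.mem_basicOpen _ _ _).2 hc, hwx⟩
  rw [hsum, el, map_add]
  exact add_mem ea eb

end Groth.L18.PBundle
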