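import Groth.Agent.L18.PBundle.Biprod
import Groth.Agent.L18.PBundle.SymMap
import Groth.Agent.L18.PBundle.VeryAmpleOps
import Groth.Agent.L18.PBundle.Refine
import Groth.Agent.L17.QCohExtension
import Groth.Agent.L18.CoprodModules
import Groth.Agent.L18.IsoCover

/-!
# Very ample modules on a disjoint union
-/

set_option autoImplicit false
set_option linter.style.haveILetI false
set_option backward.isDefEq.respectTransparency false

noncomputable section

universe u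

open CategoryTheory CategoryTheory.Limits AlgebraicGeometry TopologicalSpace Opposite
open scoped HomogeneousIdeal
open Groth.L18

namespace Groth.L18.PBundle

/-- A morphism immersive through an open subscheme containing the preimage of `G` is immersive over `G`. -/
theorem isImmersion_restrict_of_comp {A B C : Scheme.{u}} (k : A ⟶ B) [IsOpenImmersion k] (r : B ⟶ C)
    [IsImmersion (k ≫ r)] (G : C.Opens) (hG : r ⁻¹ᵁ G ≤ k.opensRange) : IsImmersion (r ∣_ G) := by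
  haveI : IsIso (k ∣_ (r ⁻¹ᵁ G)) := by
    have hsurj : Function.Surjective (k ∣_ (r ⁻¹ᵁ G)) := fun z => by
      obtain ⟨a, ha⟩ := hG z.2
      refine ⟨⟨a, show k.base a ∈ r ⁻¹ᵁ G by rw [ha]; exact z.2⟩, Subtype.ext ?_⟩
      show (((k ∣_ (r ⁻¹ᵁ G)) ≫ (r ⁻¹ᵁ G).ι).base _) = _
      rw [morphismRestrict_ι]
      exact ha
    haveI : Surjective (k ∣_ (r ⁻¹ᵁ G)) := ⟨hsurj⟩
    exact (isIso_iff_isOpenImmersion_and_surjective _).2 ⟨inferInstance, inferInstance⟩
  have h : IsImmersion ((k ≫ r) ∣_ G) := inferInstance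
  rw [morphismRestrict_comp] at h
  exact (MorphismProperty.cancel_left_of_respectsIso (@IsImmersion) (k ∣_ (r ⁻¹ᵁ G)) (r ∣_ G)).1 h

theorem exists_preimage_coprod {A B : Scheme.{u}} (z : ↑(A ⨿ B)) :
    (∃ a, (coprod.inl : A ⟶ A ⨿ B).base a = z) ∨ ∃ b, (coprod.inr : B ⟶ A ⨿ B).base b = z := by
  obtain ⟨s, rfl⟩ := (coprodMk A B).surjective z
  cases s with
  | inl a => exact Or.inl ⟨a, (coprodMk_inl A B a).symm⟩
  | inr b => exact Or.inr ⟨b, (coprodMk_inr A B b).symm⟩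

/-- Immersions with separated images give an immersion of the coproduct. -/
theorem isImmersion_desc {A B C : Scheme.{u}} (r : A ⨿ B ⟶ C) [IsImmersion ((coprod.inl : A ⟶ A ⨿ B) ≫ r)]
    [IsImmersion ((coprod.inr : B ⟶ A ⨿ B) ≫ r)] (KA KB : Set C) (hKA : IsClosed KA) (hKB : IsClosed KB)
    (hd : Disjoint KA KB) (hA : ∀ a, r.base ((coprod.inl : A ⟶ A ⨿ B).base a) ∈ KA)
    (hB : ∀ b, r.base ((coprod.inr : B ⟶ A ⨿ B).base b) ∈ KB) : IsImmersion r := by
  refine isImmersion_of_forall_exists r fun z => ?_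
  rcases exists_preimage_coprod z with ⟨a, rfl⟩ | ⟨b, rfl⟩
  · refine ⟨⟨KBᶜ, hKB.isOpen_compl⟩, fun h => Set.disjoint_left.1 hd (hA a) h,
      isImmersion_restrict_of_comp (coprod.inl : A ⟶ A ⨿ B) r _ fun w hw => ?_⟩
    rcases exists_preimage_coprod w with ⟨a', rfl⟩ | ⟨b', rfl⟩
    · exact ⟨a', rfl⟩
    · exact absurd (hB b') hw
  · refine ⟨⟨KAᶜ, hKA.isOpen_compl⟩, fun h => Set.disjoint_left.1 hd h (hB b),
      isImmersion_restrict_of_comp (coprod.inr : B ⟶ A ⨿ B) r _ fun w hw => ?_⟩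
    rcases exists_preimage_coprod w with ⟨a', rfl⟩ | ⟨b', rfl⟩
    · exact absurd (hA a') hw
    · exact ⟨b', rfl⟩

/-- The unit of the restriction adjunction is bijective on opens inside the range. -/
theorem unit_restrict_bijective {A B : Scheme.{u}} (k : A ⟶ B) [IsOpenImmersion k] (M : B.Modules) (V : B.Opens)
    (hV : V ≤ k.opensRange) :
    Function.Bijective (((Scheme.Modules.restrictAdjunction k).unit.app M).app V) := by
  have e : k ''ᵁ (k ⁻¹ᵁ V) = V := by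
    rw [Scheme.Hom.image_preimage_eq_opensRange_inf, inf_eq_right.2 hV]
  have h : ((Scheme.Modules.restrictAdjunction k).unit.app M).app V =
      M.presheaf.map (homOfLE e.le).op := rfl
  rw [h]
  haveI : IsIso (M.presheaf.map (homOfLE e.le).op) := by
    rw [show homOfLE e.le = eqToHom e from rfl]; infer_instance
  exact ConcreteCategory.bijective_of_isIso _

theorem subsingleton_push_of_disjoint {A B : Scheme.{u}} (k : A ⟶ B) (M : A.Modules) (V : B.Opens)
    (hV : k ⁻¹ᵁ V = ⊥) : Subsingleton Γ((Scheme.Modules.pushforward k).obj M, V) := by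
  show Subsingleton Γ(M, k ⁻¹ᵁ V)
  rw [hV]
  haveI : Subsingleton Γ(A, ⊥) := inferInstance
  exact Module.subsingleton Γ(A, ⊥) _

/-- A module on a coproduct is glued from its restrictions. -/
def unitGlue {A B : Scheme.{u}} (M : (A ⨿ B).Modules) :
    M ⟶ CoprodMod.glue ((Scheme.Modules.restrictFunctor (coprod.inl : A ⟶ A ⨿ B)).obj M)
      ((Scheme.Modules.restrictFunctor (coprod.inr : B ⟶ A ⨿ B)).obj M) :=
  biprod.lift ((Scheme.Modules.restrictAdjunction _).unit.app M) ((Scheme.Modules.restrictAdjunction _).unit.app M)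

/-- Sections of a biproduct one of whose summands has no sections. -/
theorem bijective_lift_of_subsingleton {B : Scheme.{u}} {M P Q : B.Modules} (a : M ⟶ P) (b : M ⟶ Q) (V : B.Opens)
    (ha : Function.Bijective (a.app V)) [Subsingleton Γ(Q, V)] :
    Function.Bijective ((biprod.lift a b).app V) ∧ Function.Bijective ((biprod.lift b a).app V) := by
  have key : ∀ {R : B.Modules} (c : M ⟶ R) (f : R ⟶ P) (g : R ⟶ Q) (i₁ : P ⟶ R) (i₂ : Q ⟶ R),
      c ≫ f = a → f ≫ i₁ + g ≫ i₂ = 𝟙 R → Function.Bijective (c.app V) := by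
    intro R c f g i₁ i₂ hc htot
    have h1 : ∀ m, f.app V (c.app V m) = a.app V m := fun m =>
      congr($(congrArg (fun k => Scheme.Modules.Hom.app k V) hc) m)
    have h2 : ∀ z : Γ(R, V), z = i₁.app V (f.app V z) := fun z => by
      have h3 : i₁.app V (f.app V z) + i₂.app V (g.app V z) = z :=
        congr($(congrArg (fun k => Scheme.Modules.Hom.app k V) htot) z)
      rw [show g.app V z = 0 from Subsingleton.elim _ _, map_zero, add_zero] at h3
      exact h3.symm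
    refine ⟨fun m m' h => ha.1 (by rw [← h1, ← h1, h]), fun z => ?_⟩
    obtain ⟨m, hm⟩ := ha.2 (f.app V z)
    exact ⟨m, by rw [h2 (c.app V m), h1, hm, ← h2]⟩
  exact ⟨key _ biprod.fst biprod.snd biprod.inl biprod.inr (biprod.lift_fst a b) biprod.total,
    key _ biprod.snd biprod.fst biprod.inr biprod.inl (biprod.lift_snd b a) (by rw [add_comm]; exact biprod.total)⟩

theorem isIso_unitGlue {A B : Scheme.{u}} (M : (A ⨿ B).Modules) : IsIso (unitGlue M) := by
  refine IsoCover.isIso_of_bijective _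
    (fun b : Bool => cond b (coprod.inl : A ⟶ A ⨿ B).opensRange (coprod.inr : B ⟶ A ⨿ B).opensRange)
    (fun z => ?_) fun b V hV => ?_
  · rcases exists_preimage_coprod z with ⟨a, rfl⟩ | ⟨b, rfl⟩
    · exact ⟨true, a, rfl⟩
    · exact ⟨false, b, rfl⟩
  have hdis := (isCompl_opensRange_inl_inr A B).inf_eq_bot
  cases b with
  | true =>
    haveI := subsingleton_push_of_disjoint (coprod.inr : B ⟶ A ⨿ B)
      ((Scheme.Modules.restrictFunctor (coprod.inr : B ⟶ A ⨿ B)).obj M) V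
      (le_bot_iff.1 fun x hx => (hdis.le (show _ ∈ _ ⊓ _ from ⟨hV hx, ⟨x, rfl⟩⟩) : _ ∈ ⊥).elim)
    exact (bijective_lift_of_subsingleton _ _ V (unit_restrict_bijective _ M V hV)).1
  | false =>
    haveI := subsingleton_push_of_disjoint (coprod.inl : A ⟶ A ⨿ B)
      ((Scheme.Modules.restrictFunctor (coprod.inl : A ⟶ A ⨿ B)).obj M) V
      (le_bot_iff.1 fun x hx => (hdis.le (show _ ∈ _ ⊓ _ from ⟨⟨x, rfl⟩, hV hx⟩) : _ ∈ ⊥).elim)
    exact (bijective_lift_of_subsingleton _ _ V (unit_restrict_bijective _ M V hV)).2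

/-- A module on a coproduct is determined by its pullbacks to the summands. -/
theorem nonempty_iso_coprod {A B : Scheme.{u}} {M N : (A ⨿ B).Modules}
    (a : (Scheme.Modules.pullback (coprod.inl : A ⟶ A ⨿ B)).obj M ≅
      (Scheme.Modules.pullback (coprod.inl : A ⟶ A ⨿ B)).obj N)
    (b : (Scheme.Modules.pullback (coprod.inr : B ⟶ A ⨿ B)).obj M ≅
      (Scheme.Modules.pullback (coprod.inr : B ⟶ A ⨿ B)).obj N) : Nonempty (M ≅ N) := by
  haveI := isIso_unitGlue M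
  haveI := isIso_unitGlue N
  let kl := Scheme.Modules.restrictFunctorIsoPullback (coprod.inl : A ⟶ A ⨿ B)
  let kr := Scheme.Modules.restrictFunctorIsoPullback (coprod.inr : B ⟶ A ⨿ B)
  exact ⟨asIso (unitGlue M) ≪≫ biprod.mapIso
    ((Scheme.Modules.pushforward _).mapIso (kl.app M ≪≫ a ≪≫ (kl.app N).symm))
    ((Scheme.Modules.pushforward _).mapIso (kr.app M ≪≫ b ≪≫ (kr.app N).symm)) ≪≫ (asIso (unitGlue N)).symm⟩

section maps

variable {S : Scheme.{u}} {E : S.Modules} {𝒯 𝒮 : RelProj.QCGrAlg S} {j : E ⟶ 𝒯.toModule}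
  {P Q : Scheme.{u}} {p : P ⟶ S} {q : Q ⟶ S}
  {chP : ∀ (U : S.Opens) (hU : IsAffineOpen U), (((p ⁻¹ᵁ U : P.Opens) : Scheme.{u}) ≅ Proj (𝒯.deg U hU))}
  {chQ : ∀ (U : S.Opens) (hU : IsAffineOpen U), (((q ⁻¹ᵁ U : Q.Opens) : Scheme.{u}) ≅ Proj (𝒮.deg U hU))}

/-- The map of bundles attached to a map onto the degree-one part, with its defining data. -/
theorem exists_projMap (hE : Coh.IsQCoh E) (hj : RelProj.IsGrSymAlg E 𝒯 j) (k : E ⟶ 𝒮.toModule)
    (hk : ∀ (U : S.Opens) (hU : IsAffineOpen U) (x : Γ(E, U)), k.app U x ∈ 𝒮.deg U hU 1)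
    (hsurj : ∀ (U : S.Opens) (hU : IsAffineOpen U), ∀ y ∈ 𝒮.deg U hU 1,
      ∃ x : Γ(E, U), (show 𝒮.presheaf.obj (op U) from k.app U x) = y)
    (hgenT : 𝒯.IsGenDegOne) (hgen : 𝒮.IsGenDegOne) (hP : RelProj.IsRelProj 𝒯 p chP)
    (hQ : RelProj.IsRelProj 𝒮 q chQ) :
    ∃ (φ : 𝒯.toQCAlg ⟶ 𝒮.toQCAlg) (hφ : RelProj.IsGradedHom φ)
      (hirr : ∀ (U : S.Opens) (hU : IsAffineOpen U),
        (𝒮.deg U hU)₊ ≤ ((𝒯.deg U hU)₊).map (RelProj.gradedHomAt φ hφ U hU)) (h : Q ⟶ P),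
      RelProj.IsRelProjMap φ hφ hirr chP chQ h ∧ j ≫ RelSpec.QCAlg.Hom.toModuleMap φ = k ∧
        IsClosedImmersion h ∧ h ≫ p = q ∧
        ∀ (n : ℤ) (LP : P.Modules) (lamP : ∀ (U : S.Opens) (hU : IsAffineOpen U),
          LP ⟶ (Scheme.Modules.pushforward (RelProj.emb p chP U hU)).obj (GrTwist.twist (𝒯.deg U hU) n))
          (LQ : Q.Modules) (lamQ : ∀ (U : S.Opens) (hU : IsAffineOpen U),
          LQ ⟶ (Scheme.Modules.pushforward (RelProj.emb q chQ U hU)).obj (GrTwist.twist (𝒮.deg U hU) n)),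
          RelProj.IsRelTwist 𝒯 p chP n LP lamP → RelProj.IsRelTwist 𝒮 q chQ n LQ lamQ →
            Nonempty ((Scheme.Modules.pullback h).obj LP ≅ LQ) := by
  obtain ⟨φ, hφ, hval⟩ := exists_gradedHom hE hj k hk
  have h1 : ∀ (U : S.Opens) (hU : IsAffineOpen U), ∀ y ∈ 𝒮.deg U hU 1,
      ∃ x ∈ 𝒯.deg U hU 1, (φ.hom.app (op U)).hom x = y := fun U hU y hy => by
    obtain ⟨m, hm⟩ := hsurj U hU y hy
    exact ⟨_, hj.2 U hU m, (hval U m).trans hm⟩
  have hirr := irr_of_surj_one hgen φ hφ h1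
  obtain ⟨⟨h, hh, -⟩, hover⟩ := RP.existsUnique_map φ hφ hirr hP hQ
  exact ⟨φ, hφ, hirr, h, hh, Scheme.Modules.hom_ext _ _ fun U => by ext x; exact hval U x,
    RP.map_isClosedImmersion_of_genDegOne φ hφ hirr hP hQ hgen h1 hh, hover h hh,
    fun n LP lamP LQ lamQ hLP hLQ => RelTilde.nonempty_iso_pullback hgenT hP hQ hh hLP hLQ⟩

/-- A split epimorphism onto the generators gives surjectivity in degree one. -/
theorem surj_deg_one {F : S.Modules} (hF : Coh.IsQCoh F) {jF : F ⟶ 𝒮.toModule}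
    (hjF : RelProj.IsGrSymAlg F 𝒮 jF) (π : E ⟶ F) (σ : F ⟶ E) (hσ : σ ≫ π = 𝟙 F)
    (U : S.Opens) (hU : IsAffineOpen U) (y : 𝒮.presheaf.obj (op U)) (hy : y ∈ 𝒮.deg U hU 1) :
    ∃ x : Γ(E, U), (show 𝒮.presheaf.obj (op U) from (π ≫ jF).app U x) = y := by
  haveI := hF
  obtain ⟨Φ, h0, h1, hmem⟩ := SymSheaf.exists_gradedEquiv hjF
  obtain ⟨t, rfl⟩ := (Φ U hU).surjective y
  have ht := (hmem U hU 1 t).2 hy
  rw [SymRing.piece, pow_one] at ht
  obtain ⟨m, rfl⟩ := ht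
  refine ⟨σ.app U m, ?_⟩
  rw [h1]
  show jF.app U (π.app U (σ.app U m)) = _
  rw [show π.app U (σ.app U m) = m from congr($(congrArg (fun k => Scheme.Modules.Hom.app k U) hσ) m)]

end maps

/-- Two very ample modules give a very ample module on the disjoint union. -/
theorem isRelVeryAmple_coprod {X X' Y : Scheme.{u}} {f : X ⨿ X' ⟶ Y} {L : (X ⨿ X').Modules}
    (h1 : RelProj.IsRelVeryAmple ((coprod.inl : X ⟶ X ⨿ X') ≫ f)
      ((Scheme.Modules.pullback (coprod.inl : X ⟶ X ⨿ X')).obj L))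
    (h2 : RelProj.IsRelVeryAmple ((coprod.inr : X' ⟶ X ⨿ X') ≫ f)
      ((Scheme.Modules.pullback (coprod.inr : X' ⟶ X ⨿ X')).obj L)) : RelProj.IsRelVeryAmple f L := by
  obtain ⟨E, hE, 𝒮E, jE, hjE, PE, pE, chartE, hPE, OE, lamE, hOE, iE, hiE, hiEf, ⟨eE⟩⟩ := h1
  obtain ⟨F, hF, 𝒮F, jF, hjF, PF, pF, chartF, hPF, OF, lamF, hOF, iF, hiF, hiFf, ⟨eF⟩⟩ := h2
  haveI := hiE
  haveI := hiF
  have hEF : Coh.IsQCoh (E ⊞ F) := Groth.L17.QCohExtension.isQCoh_extension
    (ShortComplex.mk (biprod.inl : E ⟶ E ⊞ F) biprod.snd biprod.inl_snd)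
    (ShortComplex.Splitting.ofHasBinaryBiproduct E F).shortExact hE hF
  haveI := hEF
  obtain ⟨P, p, chart, hP⟩ := RP.exists_isRelProj (SymSheaf.symGr (E ⊞ F))
  have hj := SymSheaf.isGrSymAlg (E ⊞ F)
  obtain ⟨O1, lam, hO1⟩ := exists_twist hP 1
  have hgen := isGenDegOne_of_isGrSymAlg hEF hj
  obtain ⟨πE, hπE, hirrE, cE, hcE, hjπE, hclE, hcEp, htwE⟩ := exists_projMap hEF hj (biprod.fst ≫ jE)
    (fun U hU x => hjE.2 U hU _) (surj_deg_one hE hjE biprod.fst biprod.inl biprod.inl_fst) hgen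
    (isGenDegOne_of_isGrSymAlg hE hjE) hP hPE
  obtain ⟨πF, hπF, hirrF, cF, hcF, hjπF, hclF, hcFp, htwF⟩ := exists_projMap hEF hj (biprod.snd ≫ jF)
    (fun U hU x => hjF.2 U hU _) (surj_deg_one hF hjF biprod.snd biprod.inr biprod.inr_snd) hgen
    (isGenDegOne_of_isGrSymAlg hF hjF) hP hPF
  haveI := closedImmersion_biprod hE hF hEF hjE hjF hj hjπE hjπF hP hPE hPF hcE hcF
  haveI := hclE
  haveI := hclF
  have hd : Disjoint (Set.range cE.base) (Set.range cF.base) := by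
    rw [Set.disjoint_left]
    rintro z ⟨a, rfl⟩ ⟨b, hb⟩
    have h : (coprod.inl : PE ⟶ PE ⨿ PF).base a = (coprod.inr : PF ⟶ PE ⨿ PF).base b :=
      (coprod.desc cE cF).isClosedEmbedding.injective (by
        rw [← Scheme.Hom.comp_apply, ← Scheme.Hom.comp_apply, coprod.inl_desc, coprod.inr_desc]
        exact hb.symm)
    rw [← coprodMk_inl, ← coprodMk_inr] at h
    exact Sum.inl_ne_inr ((coprodMk PE PF).injective h)
  let r : X ⨿ X' ⟶ P := coprod.desc (iE ≫ cE) (iF ≫ cF)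
  haveI : IsImmersion ((coprod.inl : X ⟶ X ⨿ X') ≫ r) := by rw [coprod.inl_desc]; infer_instance
  haveI : IsImmersion ((coprod.inr : X' ⟶ X ⨿ X') ≫ r) := by rw [coprod.inr_desc]; infer_instance
  haveI : IsImmersion r := isImmersion_desc r (Set.range cE.base) (Set.range cF.base)
    cE.isClosedEmbedding.isClosed_range cF.isClosedEmbedding.isClosed_range hd
    (fun a => by rw [← Scheme.Hom.comp_apply, coprod.inl_desc]; exact ⟨iE.base a, rfl⟩)
    (fun b => by rw [← Scheme.Hom.comp_apply, coprod.inr_desc]; exact ⟨iF.base b, rfl⟩)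
  have hr : r ≫ p = f := coprod.hom_ext
    (by rw [coprod.inl_desc_assoc, Category.assoc, hcEp, hiEf])
    (by rw [coprod.inr_desc_assoc, Category.assoc, hcFp, hiFf])
  obtain ⟨τE⟩ := htwE 1 O1 lam OE lamE hO1 hOE
  obtain ⟨τF⟩ := htwF 1 O1 lam OF lamF hO1 hOF
  refine ⟨E ⊞ F, hEF, _, _, hj, P, p, chart, hP, O1, lam, hO1, r, inferInstance, hr, ?_⟩
  let uE : (Scheme.Modules.pullback (coprod.inl : X ⟶ X ⨿ X')).obj ((Scheme.Modules.pullback r).obj O1) ≅
      (Scheme.Modules.pullback (coprod.inl : X ⟶ X ⨿ X')).obj L :=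
    (Scheme.Modules.pullbackComp _ r).app O1 ≪≫ (Scheme.Modules.pullbackCongr (coprod.inl_desc _ _)).app O1 ≪≫
      ((Scheme.Modules.pullbackComp iE cE).app O1).symm ≪≫ (Scheme.Modules.pullback iE).mapIso τE ≪≫ eE.symm
  let uF : (Scheme.Modules.pullback (coprod.inr : X' ⟶ X ⨿ X')).obj ((Scheme.Modules.pullback r).obj O1) ≅
      (Scheme.Modules.pullback (coprod.inr : X' ⟶ X ⨿ X')).obj L :=
    (Scheme.Modules.pullbackComp _ r).app O1 ≪≫ (Scheme.Modules.pullbackCongr (coprod.inr_desc _ _)).app O1 ≪≫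
      ((Scheme.Modules.pullbackComp iF cF).app O1).symm ≪≫ (Scheme.Modules.pullback iF).mapIso τF ≪≫ eF.symm
  exact ⟨(nonempty_iso_coprod uE uF).some.symm⟩

end Groth.L18.PBundle
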