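import Groth.Agent.L18.PBundle.VeryAmpleComp

/-!
# Very ample modules on fibre products
-/

set_option autoImplicit false
set_option linter.style.haveILetI false
set_option backward.isDefEq.respectTransparency false

noncomputable section

universe u

open CategoryTheory CategoryTheory.Limits AlgebraicGeometry TopologicalSpace Opposite
open Groth.L18

namespace Groth.L18.PBundle

/-- A solution along an equal morphism. -/
theorem Sol.cast {X Y P : Scheme.{u}} {E : Y.Modules} {p : P ⟶ Y} {O1 : P.Modules}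
    {φ : E ⟶ (Scheme.Modules.pushforward p).obj O1} {g g' : X ⟶ Y} (e : g = g') {L : X.Modules} {r : X ⟶ P}
    {hr : r ≫ p = g} {w : E ⟶ (Scheme.Modules.pushforward g).obj L} (hs : Sol φ r hr w) :
    ∃ (hr' : r ≫ p = g') (w' : E ⟶ (Scheme.Modules.pushforward g').obj L), Sol φ r hr' w' := by
  subst e
  exact ⟨hr, w, hs⟩

/-- The external product of very ample modules over a common base. -/
theorem isRelVeryAmple_external {P A₁ A₂ Q : Scheme.{u}} {f₁ : A₁ ⟶ Q} {f₂ : A₂ ⟶ Q} {q : P ⟶ Q}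
    (a₁ : P ⟶ A₁) (a₂ : P ⟶ A₂) (h₁ : a₁ ≫ f₁ = q) (h₂ : a₂ ≫ f₂ = q)
    (himm : IsImmersion (pullback.lift a₁ a₂ (h₁.trans h₂.symm) : P ⟶ pullback f₁ f₂))
    {L₁ : A₁.Modules} (hL₁ : PicF.IsInvertible L₁) (hva₁ : RelProj.IsRelVeryAmple f₁ L₁)
    {L₂ : A₂.Modules} (hL₂ : PicF.IsInvertible L₂) (hva₂ : RelProj.IsRelVeryAmple f₂ L₂) :
    RelProj.IsRelVeryAmple q
      (CohB1.tensorMod ((Scheme.Modules.pullback a₁).obj L₁) ((Scheme.Modules.pullback a₂).obj L₂)) := by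
  obtain ⟨E₁, 𝒮₁, j₁, P₁, p₁, chart₁, O₁, lam₁, φ₁, i₁, hi₁, s₁, hE₁, hj₁, hP₁, hO₁, hφ₁, hii₁, -, hs₁⟩ :=
    exists_data hva₁
  obtain ⟨E₂, 𝒮₂, j₂, P₂, p₂, chart₂, O₂, lam₂, φ₂, i₂, hi₂, s₂, hE₂, hj₂, hP₂, hO₂, hφ₂, hii₂, -, hs₂⟩ :=
    exists_data hva₂
  haveI := himm
  haveI := hii₁
  haveI := hii₂
  obtain ⟨hr₁, w₁, hs₁'⟩ := Sol.cast h₁ (hs₁.comp a₁ (show (a₁ ≫ i₁) ≫ p₁ = a₁ ≫ f₁ by rw [Category.assoc, hi₁]))
  obtain ⟨hr₂, w₂, hs₂'⟩ := Sol.cast h₂ (hs₂.comp a₂ (show (a₂ ≫ i₂) ≫ p₂ = a₂ ≫ f₂ by rw [Category.assoc, hi₂]))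
  refine isRelVeryAmple_tensor_of_pair (Groth.L18.Ample.isInvertible_pullback a₁ hL₁)
    (Groth.L18.Ample.isInvertible_pullback a₂ hL₂) hE₁ hj₁ hP₁ hO₁ hφ₁ hE₂ hj₂ hP₂ hO₂ hφ₂ hs₁' hs₂' ?_
  let M : pullback f₁ f₂ ⟶ pullback p₁ p₂ :=
    pullback.map f₁ f₂ p₁ p₂ i₁ i₂ (𝟙 _) (by simp [hi₁]) (by simp [hi₂])
  haveI : IsImmersion M := MorphismProperty.pullbackMap (P := @IsImmersion) (i₁ := i₁) (i₂ := i₂)
    hii₁ hii₂ hi₁.symm hi₂.symm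
  rw [show pullback.lift (a₁ ≫ i₁) (a₂ ≫ i₂) (hr₁.trans hr₂.symm) =
    pullback.lift a₁ a₂ (h₁.trans h₂.symm) ≫ M from pullback.hom_ext (by simp [M]) (by simp [M])]
  infer_instance

/-- The product of two morphisms carrying very ample modules. -/
theorem isRelVeryAmple_fibreProd {S X₁ X₂ Y₁ Y₂ P Q : Scheme.{u}} {y₁ : Y₁ ⟶ S} {y₂ : Y₂ ⟶ S}
    {f₁ : X₁ ⟶ Y₁} {f₂ : X₂ ⟶ Y₂} {p₁ : P ⟶ X₁} {p₂ : P ⟶ X₂} (hP : IsPullback p₁ p₂ (f₁ ≫ y₁) (f₂ ≫ y₂))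
    {q₁ : Q ⟶ Y₁} {q₂ : Q ⟶ Y₂} (hQ : IsPullback q₁ q₂ y₁ y₂) {h : P ⟶ Q}
    (hh₁ : h ≫ q₁ = p₁ ≫ f₁) (hh₂ : h ≫ q₂ = p₂ ≫ f₂)
    {L₁ : X₁.Modules} (hL₁ : PicF.IsInvertible L₁) (hva₁ : RelProj.IsRelVeryAmple f₁ L₁)
    {L₂ : X₂.Modules} (hL₂ : PicF.IsInvertible L₂) (hva₂ : RelProj.IsRelVeryAmple f₂ L₂) :
    RelProj.IsRelVeryAmple h
      (CohB1.tensorMod ((Scheme.Modules.pullback p₁).obj L₁) ((Scheme.Modules.pullback p₂).obj L₂)) := by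
  let a₁ : P ⟶ pullback f₁ q₁ := pullback.lift p₁ h hh₁.symm
  let a₂ : P ⟶ pullback f₂ q₂ := pullback.lift p₂ h hh₂.symm
  have h₁ : a₁ ≫ pullback.snd f₁ q₁ = h := pullback.lift_snd _ _ _
  have h₂ : a₂ ≫ pullback.snd f₂ q₂ = h := pullback.lift_snd _ _ _
  let l : P ⟶ pullback (pullback.snd f₁ q₁) (pullback.snd f₂ q₂) := pullback.lift a₁ a₂ (h₁.trans h₂.symm)
  let k : pullback (pullback.snd f₁ q₁) (pullback.snd f₂ q₂) ⟶ P :=
    hP.lift (pullback.fst _ _ ≫ pullback.fst f₁ q₁) (pullback.snd _ _ ≫ pullback.fst f₂ q₂) (by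
      simp only [Category.assoc]
      rw [pullback.condition_assoc (f := f₁) (g := q₁), pullback.condition_assoc (f := f₂) (g := q₂), hQ.w,
        pullback.condition_assoc])
  have hk1 : k ≫ p₁ = pullback.fst _ _ ≫ pullback.fst f₁ q₁ := hP.lift_fst _ _ _
  have hk2 : k ≫ p₂ = pullback.snd _ _ ≫ pullback.fst f₂ q₂ := hP.lift_snd _ _ _
  have hlk : l ≫ k = 𝟙 P := hP.hom_ext (by simp [l, a₁, hk1]) (by simp [l, a₂, hk2])
  have hkh : k ≫ h = pullback.fst _ _ ≫ pullback.snd f₁ q₁ := hQ.hom_ext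
    (by rw [Category.assoc, hh₁, reassoc_of% hk1, pullback.condition, Category.assoc])
    (by rw [Category.assoc, hh₂, reassoc_of% hk2, pullback.condition, ← pullback.condition_assoc, Category.assoc])
  have hkl : k ≫ l = 𝟙 _ := by
    refine pullback.hom_ext (pullback.hom_ext ?_ ?_) (pullback.hom_ext ?_ ?_)
    · simp [l, a₁, hk1]
    · simp [l, a₁, hkh]
    · simp [l, a₂, hk2]
    · simp [l, a₂, hkh, pullback.condition]
  haveI : IsIso l := ⟨k, hlk, hkl⟩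
  have hva := isRelVeryAmple_external a₁ a₂ h₁ h₂ (show IsImmersion l by infer_instance)
    (Groth.L18.Ample.isInvertible_pullback _ hL₁) (isRelVeryAmple_baseChange (IsPullback.of_hasPullback f₁ q₁) hva₁)
    (Groth.L18.Ample.isInvertible_pullback _ hL₂) (isRelVeryAmple_baseChange (IsPullback.of_hasPullback f₂ q₂) hva₂)
  exact isRelVeryAmple_of_iso (Groth.L00.Tensor.tensorIso
    ((Scheme.Modules.pullbackComp a₁ _).app L₁ ≪≫ (Scheme.Modules.pullbackCongr (pullback.lift_fst _ _ _)).app L₁)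
    ((Scheme.Modules.pullbackComp a₂ _).app L₂ ≪≫ (Scheme.Modules.pullbackCongr (pullback.lift_fst _ _ _)).app L₂)).symm hva

end Groth.L18.PBundle
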