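import Groth.Agent.L18.PBundle.ProjSpaceVA
import Groth.Agent.L18.PBundle.Segre
import Groth.Agent.L18.PBundle.TwistPow
import Mathlib.AlgebraicGeometry.QuasiAffine

/-!
# Invertible modules on quasi-affine schemes are very ample
-/

set_option autoImplicit false
set_option linter.style.haveILetI false
set_option backward.isDefEq.respectTransparency false

noncomputable section

universe u

open CategoryTheory CategoryTheory.Limits AlgebraicGeometry TopologicalSpace Opposite
open Groth.L18
open Groth.L18.Frame (rs ro rs_rs rs_self rs_smul IsFrame)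

namespace Groth.L18.PBundle

/-- The structure module is very ample relative to an immersion. -/
theorem isRelVeryAmple_structureModule {X Y : Scheme.{u}} (j : X ⟶ Y) [IsImmersion j] :
    RelProj.IsRelVeryAmple j (Coh.structureModule X) := by
  haveI := Groth.L18.PS.isIso_toSpec_zero (ULift.{u} ℤ)
  haveI hiso : IsIso (pullback.snd (CohB1.ProjSpace.toSpec 0 (ULift.{u} ℤ)) (specULiftZIsTerminal.from Y)) :=
    inferInstance
  let s := pullback.snd (CohB1.ProjSpace.toSpec 0 (ULift.{u} ℤ)) (specULiftZIsTerminal.from Y)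
  let i : X ⟶ CohB1.ProjSpaceOver 0 Y := j ≫ inv s
  haveI : IsImmersion i := inferInstanceAs (IsImmersion (j ≫ inv s))
  have hva := isRelVeryAmple_comp_immersion i (isRelVeryAmple_twistOver 0 Y)
  rw [show i ≫ s = j by simp [i]] at hva
  have hD : (PUP.D (R := ULift.{u} ℤ) (0 : Fin 1)) = ⊤ := by
    refine top_le_iff.1 ?_
    rw [← PS.iSup_chart (n := 0) (R := ULift.{u} ℤ)]
    exact iSup_le fun k => by rw [show k = 0 from Fin.ext (by omega)]
  have hT := PUP.T_frame (R := ULift.{u} ℤ) (0 : Fin 1)
  have hfr : IsFrame (PUP.O1 0 (ULift.{u} ℤ)) ⊤ (PUP.T 0) := by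
    intro V h
    have := hT V (h.trans hD.ge)
    rw [rs_rs] at this
    exact this
  obtain ⟨e⟩ := nonempty_iso_unit hfr
  exact isRelVeryAmple_of_iso ((Groth.L29.LocFree.pullbackUnitIso i).symm ≪≫ (Scheme.Modules.pullback i).mapIso
    ((Groth.L29.LocFree.pullbackUnitIso _).symm ≪≫ (Scheme.Modules.pullback _).mapIso e.symm)) hva

/-- Every invertible module on a quasi-affine scheme is very ample relative to its spectrum of functions. -/
theorem isRelVeryAmple_toSpecΓ {X : Scheme.{u}} [X.IsQuasiAffine] {L : X.Modules} (hL : PicF.IsInvertible L) :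
    RelProj.IsRelVeryAmple X.toSpecΓ L := by
  haveI := Groth.L21.Extend.isQCoh_of_isInvertible hL
  haveI hQ : Coh.IsQCoh ((Scheme.Modules.pushforward X.toSpecΓ).obj L) := Groth.L16.QcqsPush.isQCoh_push L _
  have hepi : Epi ((Scheme.Modules.pullbackPushforwardAdjunction X.toSpecΓ).counit.app L) :=
    counit_epi_of_gen X.toSpecΓ L fun x => by
      obtain ⟨W, e, hxW, he⟩ := Frame.exists_frame hL x
      obtain ⟨_, ⟨_, ⟨a, -, rfl⟩, rfl⟩, hxa, haW⟩ :=
        (Scheme.IsQuasiAffine.isBasis_basicOpen X).exists_subset_of_mem_open hxW W.2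
      have haW' : X.basicOpen a ≤ W := haW
      obtain ⟨n, t, ht⟩ := Groth.L16.QcqsPush.exists_pow_smul_eq_res L (U := ⊤) (by exact isCompact_univ)
        (by exact isQuasiSeparated_univ) a (rs L haW' e)
      refine ⟨⊤, t, X.basicOpen a, le_top, hxa, ?_⟩
      show IsFrame L (X.basicOpen a) (rs L (X.basicOpen_le a) t); rw [ht]
      refine (he.mono haW').smul_unit ?_
      rw [Groth.L16.QcqsPush.ro_pow]
      exact (RingedSpace.isUnit_res_basicOpen X.toRingedSpace a).pow n
  have h := isRelVeryAmple_tensor_of_epi (Groth.L18.Ample.isInvertible_structureModule X)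
    (isRelVeryAmple_structureModule X.toSpecΓ) hL hQ _ hepi
  exact isRelVeryAmple_of_iso (Groth.L00.Tensor.tensorUnitLeft L).symm h

end Groth.L18.PBundle
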