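import Groth.Agent.L18.PBundle.Counit
import Groth.Agent.L18.QMap.Point
import Groth.Agent.L18.RelTilde.Mul

/-!
# Standard opens of a projective bundle
-/

set_option autoImplicit false

noncomputable section

universe u

open CategoryTheory CategoryTheory.Limits AlgebraicGeometry TopologicalSpace Opposite HomogeneousLocalization
open Groth.L18
open Groth.L18.Frame (rs ro rs_rs rs_self IsFrame)
open Groth.L18.RelTilde (rdT rdT_smul rdT_rs)

namespace Groth.L18.PBundle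

variable {Y P : Scheme.{u}} {E : Y.Modules} {𝒮 : RelProj.QCGrAlg Y}

/-- The degree-one element of a section of `E`. -/
abbrev el (j : E ⟶ 𝒮.toModule) {U : Y.Opens} (e : Γ(E, U)) : 𝒮.presheaf.obj (op U) := j.app U e

section

variable {p : P ⟶ Y}
  (chart : ∀ (U : Y.Opens) (hU : IsAffineOpen U), (((p ⁻¹ᵁ U : P.Opens) : Scheme.{u}) ≅ Proj (𝒮.deg U hU)))
  (j : E ⟶ 𝒮.toModule)

/-- `D₊(j e₀)` as an open of the bundle. -/
def dom (U : Y.Opens) (hU : IsAffineOpen U) (e₀ : Γ(E, U)) : P.Opens :=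
  RelProj.emb p chart U hU ''ᵁ Proj.basicOpen (𝒮.deg U hU) (el j e₀)

theorem dom_le (U : Y.Opens) (hU : IsAffineOpen U) (e₀ : Γ(E, U)) : dom chart j U hU e₀ ≤ p ⁻¹ᵁ U :=
  (Scheme.Hom.image_le_opensRange _ _).trans (RP.opensRange_emb U hU).le

variable {j} (hj : RelProj.IsGrSymAlg E 𝒮 j) {U : Y.Opens} (hU : IsAffineOpen U) (e₀ : Γ(E, U))

include hj in
theorem el_mem (e : Γ(E, U)) : el j e ∈ 𝒮.deg U hU 1 := hj.2 U hU e

/-- The chart `Spec 𝒮(U)_(j e₀) ⟶ P`. -/
def aE : Spec (CommRingCat.of (Away (𝒮.deg U hU) (el j e₀))) ⟶ P :=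
  Proj.awayι (𝒮.deg U hU) (el j e₀) (el_mem hj hU e₀) one_pos ≫ RelProj.emb p chart U hU

instance : IsOpenImmersion (aE chart hj hU e₀) := by unfold aE; infer_instance

theorem opensRange_aE : (aE chart hj hU e₀).opensRange = dom chart j U hU e₀ := by
  show (Proj.awayι (𝒮.deg U hU) (el j e₀) (el_mem hj hU e₀) one_pos ≫ RelProj.emb p chart U hU).opensRange = _
  rw [Scheme.Hom.opensRange_comp, Proj.opensRange_awayι]
  rfl

include hj in
theorem isAffineOpen_dom : IsAffineOpen (dom chart j U hU e₀) := by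
  rw [← opensRange_aE chart hj hU e₀]
  exact isAffineOpen_opensRange _

theorem top_le_aE : ⊤ ≤ aE chart hj hU e₀ ⁻¹ᵁ dom chart j U hU e₀ := fun x _ =>
  (opensRange_aE chart hj hU e₀).le ⟨x, rfl⟩

/-- The structure map of the degree-zero localisation. -/
def strAway : Γ(Y, U) →+* Away (𝒮.deg U hU) (el j e₀) :=
  (fromZeroRingHom (𝒮.deg U hU) (Submonoid.powers (el j e₀))).comp (𝒮.strZero U hU).hom

theorem aE_p (hP : RelProj.IsRelProj 𝒮 p chart) :
    aE chart hj hU e₀ ≫ p = Spec.map (CommRingCat.ofHom (strAway hU (j := j) e₀)) ≫ hU.fromSpec := by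
  rw [aE, Category.assoc, show RelProj.emb p chart U hU ≫ p = RP.projBase 𝒮 U hU ≫ U.ι by
    rw [RelProj.emb, Category.assoc, RP.chart_ι_comp hP U hU]]
  simp only [RP.projBase, RP.projπ, Category.assoc, IsAffineOpen.isoSpec_inv_ι, Proj.awayι_toSpecZero_assoc]
  rw [← Category.assoc, ← Spec.map_comp]
  rfl

/-- The fraction `(j e) / (j e₀)`. -/
def frac (e : Γ(E, U)) : Away (𝒮.deg U hU) (el j e₀) :=
  Away.mk (𝒮.deg U hU) (el_mem hj hU e₀) 1 (el j e) (by simpa using el_mem hj hU e)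

/-- An element of the localisation as a function on the open. -/
def fn (b : Away (𝒮.deg U hU) (el j e₀)) : Γ(P, dom chart j U hU e₀) :=
  ((RelProj.emb p chart U hU).appIso (Proj.basicOpen (𝒮.deg U hU) (el j e₀))).inv
    (Proj.awayToSection (𝒮.deg U hU) (el j e₀) b)

theorem awayι_appLE (b : Away (𝒮.deg U hU) (el j e₀)) :
    (Proj.awayι (𝒮.deg U hU) (el j e₀) (el_mem hj hU e₀) one_pos).appLE (Proj.basicOpen (𝒮.deg U hU) (el j e₀)) ⊤
        (fun x _ => (Proj.opensRange_awayι (𝒮.deg U hU) _ (el_mem hj hU e₀) one_pos).le ⟨x, rfl⟩)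
        (Proj.awayToSection (𝒮.deg U hU) (el j e₀) b) =
      (Scheme.ΓSpecIso (CommRingCat.of (Away (𝒮.deg U hU) (el j e₀)))).inv b := by
  let D := Proj.basicOpen (𝒮.deg U hU) (el j e₀)
  let I := Proj.basicOpenIsoSpec (𝒮.deg U hU) (el j e₀) (el_mem hj hU e₀) one_pos
  have h1 : I.hom.appTop ((Scheme.ΓSpecIso _).inv b) = D.topIso.inv (Proj.awayToSection (𝒮.deg U hU) (el j e₀) b) := by
    have h := ConcreteCategory.congr_hom (Proj.basicOpenToSpec_app_top (𝒮.deg U hU) (el j e₀))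
      ((Scheme.ΓSpecIso _).inv b)
    refine Eq.trans h ?_
    show D.topIso.inv (Proj.awayToSection _ _ ((Scheme.ΓSpecIso _).hom ((Scheme.ΓSpecIso _).inv b))) = _
    rw [Iso.inv_hom_id_apply]
  have h2 : I.inv.appTop (I.hom.appTop ((Scheme.ΓSpecIso _).inv b)) = (Scheme.ΓSpecIso _).inv b := by
    rw [← CommRingCat.comp_apply, ← Scheme.Hom.comp_appTop, I.inv_hom_id]
    rfl
  rw [h1] at h2
  refine Eq.trans ?_ h2
  have h3 : D.topIso.inv = D.ι.appLE D ⊤ (fun x _ => x.2) := by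
    simp [Scheme.Hom.appLE, Scheme.Opens.topIso]
    rfl
  rw [h3]
  exact (ConcreteCategory.congr_hom (Scheme.Hom.appLE_comp_appLE I.inv D.ι D ⊤ ⊤ (fun x _ => x.2)
    (fun _ _ => trivial)) (Proj.awayToSection (𝒮.deg U hU) (el j e₀) b)).symm.trans (by
      simp only [Scheme.Hom.appTop, Scheme.Hom.app_eq_appLE]; rfl)

theorem aE_fn (b : Away (𝒮.deg U hU) (el j e₀)) :
    (aE chart hj hU e₀).appLE (dom chart j U hU e₀) ⊤ (top_le_aE chart hj hU e₀) (fn chart hU e₀ b) =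
      (Scheme.ΓSpecIso (CommRingCat.of (Away (𝒮.deg U hU) (el j e₀)))).inv b := by
  refine Eq.trans ?_ (awayι_appLE hj hU e₀ b)
  have h : (RelProj.emb p chart U hU).appLE (dom chart j U hU e₀) (Proj.basicOpen (𝒮.deg U hU) (el j e₀))
      ((RelProj.emb p chart U hU).preimage_image_eq _).ge (fn chart hU e₀ b) =
      Proj.awayToSection (𝒮.deg U hU) (el j e₀) b := by
    exact (ConcreteCategory.congr_hom (Scheme.Hom.appIso_hom' (RelProj.emb p chart U hU) _).symm _).trans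
      (Iso.inv_hom_id_apply ((RelProj.emb p chart U hU).appIso _) _)
  rw [← h, ← CommRingCat.comp_apply, Scheme.Hom.appLE_comp_appLE]
  rfl

include hj in
/-- The localisation is generated by the base and the fractions of degree one. -/
theorem closure_eq_top (hE : Coh.IsQCoh E) :
    Subring.closure (Set.range (strAway hU (j := j) e₀) ∪ Set.range (frac hj hU e₀)) = ⊤ := by
  haveI := hE
  obtain ⟨Φ, h0, h1, hmem⟩ := SymSheaf.exists_gradedEquiv hj
  set T := Subring.closure (Set.range (strAway hU (j := j) e₀) ∪ Set.range (frac hj hU e₀))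
  suffices H : ∀ (n : ℕ), ∀ x ∈ SymRing.piece Γ(Y, U) Γ(E, U) n, ∃ c ∈ T, c.val =
      Localization.mk (Φ U hU x) (⟨el j e₀ ^ n, n, rfl⟩ : Submonoid.powers (el j e₀)) by
    refine top_le_iff.mp fun b _ => ?_
    obtain ⟨n, a, ha, rfl⟩ := Away.mk_surjective (𝒮.deg U hU) (el_mem hj hU e₀) b
    obtain ⟨x, rfl⟩ := (Φ U hU).surjective a
    obtain ⟨c, hc, hcv⟩ := H n x ((hmem U hU n x).2 (by simpa using ha))
    convert hc
    exact val_injective _ (by rw [hcv, Away.val_mk])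
  intro n x hx
  induction hx using Submodule.pow_induction_on_left' with
  | algebraMap r =>
    refine ⟨strAway hU (j := j) e₀ r, Subring.subset_closure (Or.inl ⟨r, rfl⟩), ?_⟩
    rw [h0]
    simp [strAway, fromZeroRingHom, HomogeneousLocalization.val_mk]
    rfl
  | add x y i hx hy ihx ihy =>
    obtain ⟨c, hc, hcv⟩ := ihx
    obtain ⟨d, hd, hdv⟩ := ihy
    exact ⟨c + d, add_mem hc hd, by rw [val_add, hcv, hdv, Localization.add_mk_self, map_add]⟩
  | mem_mul m hm i x hx ih =>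
    obtain ⟨m', rfl⟩ := hm
    obtain ⟨c, hc, hcv⟩ := ih
    refine ⟨frac hj hU e₀ m' * c, mul_mem (Subring.subset_closure (Or.inr ⟨m', rfl⟩)) hc, ?_⟩
    rw [val_mul, hcv, frac, Away.val_mk, Localization.mk_mul, map_mul, h1]
    refine congrArg₂ Localization.mk rfl (Subtype.ext ?_)
    simp [pow_succ, mul_comm]

include hj in
/-- A homomorphism out of the localisation. -/
theorem exists_awayHom (hE : Coh.IsQCoh E) {C : Type u} [CommRing C] (σ : Γ(Y, U) →+* C) (a : Γ(E, U) → C)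
    (hadd : ∀ x y, a (x + y) = a x + a y) (hsmul : ∀ (r : Γ(Y, U)) x, a (r • x) = σ r * a x) (h₀ : a e₀ = 1) :
    ∃ ψ : Away (𝒮.deg U hU) (el j e₀) →+* C, (∀ r, ψ (strAway hU (j := j) e₀ r) = σ r) ∧
      ∀ e, ψ (frac hj hU e₀ e) = a e := by
  haveI := hE
  obtain ⟨Φ, h0, h1, -⟩ := SymSheaf.exists_gradedEquiv hj
  letI : Algebra Γ(Y, U) C := σ.toAlgebra
  let l : Γ(E, U) →ₗ[Γ(Y, U)] C := { toFun := a, map_add' := hadd, map_smul' := fun r x => hsmul r x }
  let F : 𝒮.presheaf.obj (op U) →+* C := (SymmetricAlgebra.lift l).toRingHom.comp (Φ U hU).symm.toRingHom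
  have hF0 : ∀ r, F ((𝒮.str.app (op U)).hom r) = σ r := fun r => by
    rw [← h0 U hU r]
    show SymmetricAlgebra.lift l ((Φ U hU).symm (Φ U hU _)) = _
    rw [RingEquiv.symm_apply_apply, AlgHom.commutes]
    rfl
  have hF1 : ∀ e, F (el j e) = a e := fun e => by
    rw [el, ← h1 U hU e]
    show SymmetricAlgebra.lift l ((Φ U hU).symm (Φ U hU _)) = _
    rw [RingEquiv.symm_apply_apply, SymmetricAlgebra.lift_ι_apply]
    rfl
  have hu : IsUnit (F (el j e₀)) := by rw [hF1, h₀]; exact isUnit_one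
  let G : Localization.Away (el j e₀) →+* C := IsLocalization.Away.lift (el j e₀) hu
  refine ⟨G.comp (algebraMap (Away (𝒮.deg U hU) (el j e₀)) (Localization.Away (el j e₀))), fun r => ?_, fun e => ?_⟩
  · rw [← hF0]
    exact IsLocalization.Away.lift_eq (el j e₀) hu _
  · rw [RingHom.comp_apply, HomogeneousLocalization.algebraMap_apply, frac, Away.val_mk, Localization.mk_eq_mk']
    show IsLocalization.lift _ _ = _
    rw [IsLocalization.lift_mk'_spec]
    show F (el j e) = F (el j e₀ ^ 1) * a e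
    rw [pow_one, hF1, hF1, h₀, one_mul]

end

section frames

variable {p : P ⟶ Y}
  {chart : ∀ (U : Y.Opens) (hU : IsAffineOpen U), (((p ⁻¹ᵁ U : P.Opens) : Scheme.{u}) ≅ Proj (𝒮.deg U hU))}
  {j : E ⟶ 𝒮.toModule} {O1 : P.Modules}
  {lam : ∀ (U : Y.Opens) (hU : IsAffineOpen U),
    O1 ⟶ (Scheme.Modules.pushforward (RelProj.emb p chart U hU)).obj (GrTwist.twist (𝒮.deg U hU) 1)}
  (φ : E ⟶ (Scheme.Modules.pushforward p).obj O1)

/-- A section of `E` as a section of `O(1)`. -/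
abbrev sec {U : Y.Opens} (e : Γ(E, U)) : Γ(O1, p ⁻¹ᵁ U) := φ.app U e

/-- The compatibility of `φ` with the identifications. -/
def IsTaut (lam : ∀ (U : Y.Opens) (hU : IsAffineOpen U),
    O1 ⟶ (Scheme.Modules.pushforward (RelProj.emb p chart U hU)).obj (GrTwist.twist (𝒮.deg U hU) 1))
    (j : E ⟶ 𝒮.toModule) : Prop :=
  ∀ (U : Y.Opens) (hU : IsAffineOpen U) (e : Γ(E, U))
    (y : ↥(RelProj.emb p chart U hU ⁻¹ᵁ (p ⁻¹ᵁ U))),
    GrTwist.val (V := RelProj.emb p chart U hU ⁻¹ᵁ (p ⁻¹ᵁ U)) ((lam U hU).app (p ⁻¹ᵁ U) ((φ.app U) e)) y =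
      algebraMap (𝒮.presheaf.obj (op U)) (GrTwist.Loc (𝒮.deg U hU) y.1) ((j.app U) e : 𝒮.presheaf.obj (op U))

variable {φ} (hj : RelProj.IsGrSymAlg E 𝒮 j) (hO1 : RelProj.IsRelTwist 𝒮 p chart 1 O1 lam) (hφ : IsTaut φ lam j)
  {U : Y.Opens} (hU : IsAffineOpen U) (e₀ : Γ(E, U))

include hj hφ in
private theorem reading (e : Γ(E, U)) {W : P.Opens} (hW : W ≤ p ⁻¹ᵁ U) :
    rdT lam ⟨U, hU⟩ (rs O1 hW (sec φ e)) =
      GrM.genT (⟨el j e, el_mem hj hU e⟩ : 𝒮.deg U hU 1) (TwistAmp.one0 (𝒮.deg U hU)) (n := (1 : ℤ)) (by simp)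
        (RelProj.emb p chart U hU ⁻¹ᵁ W) (fun x => one_notMem x.1) := by
  refine (rdT_rs (lam := lam) ⟨U, hU⟩ hW (sec φ e)).trans (GrM.sectN_ext fun y => ?_)
  refine (hφ U hU e ⟨y.1, hW y.2⟩).trans ?_
  rw [GrM.genT_val, ← Localization.mk_one_eq_algebraMap]
  rfl

include hj hO1 hφ in
/-- `φ e₀` is a frame on `D₊(j e₀)`. -/
theorem isFrame_dom : IsFrame O1 (dom chart j U hU e₀) (rs O1 (dom_le chart j U hU e₀) (sec φ e₀)) := by
  obtain ⟨e, he, hval⟩ := RelTilde.exists_frame_twist hO1 hU (⟨el j e₀, el_mem hj hU e₀⟩ : 𝒮.deg U hU 1)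
    (TwistAmp.one0 (𝒮.deg U hU)) (n := (1 : ℤ)) (W := dom chart j U hU e₀) (by simp) (dom_le chart j U hU e₀)
    (fun y hy => by
      obtain ⟨y', hy', e'⟩ := hy
      rw [(RelProj.emb p chart U hU).isOpenEmbedding.injective e'] at hy'
      exact (Proj.mem_basicOpen _ _ _).1 hy')
    (fun y _ => one_notMem y)
  have : rs O1 (dom_le chart j U hU e₀) (sec φ e₀) = e := by
    refine (hO1.bijective U hU _ (dom_le chart j U hU e₀)).1 ?_
    exact (reading hj hφ hU e₀ (dom_le chart j U hU e₀)).trans hval.symm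
  rwa [this]

include hj in
/-- The standard opens of one affine open cover its preimage. -/
theorem exists_mem_dom (hE : Coh.IsQCoh E) {z : P} (hz : z ∈ p ⁻¹ᵁ U) : ∃ e : Γ(E, U), z ∈ dom chart j U hU e := by
  haveI := hE
  obtain ⟨y, rfl⟩ := (RP.opensRange_emb (chart := chart) U hU).ge hz
  obtain ⟨t, ht, hty⟩ := RelTilde.irr_le_span (isGenDegOne_of_isGrSymAlg hE hj) U hU y
  obtain ⟨Φ, h0, h1, hmem⟩ := SymSheaf.exists_gradedEquiv hj
  obtain ⟨x, rfl⟩ := (Φ U hU).surjective t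
  have hx := (hmem U hU 1 x).2 ht
  rw [SymRing.piece, pow_one] at hx
  obtain ⟨m, rfl⟩ := hx
  rw [h1] at hty
  exact ⟨m, y, (Proj.mem_basicOpen _ _ _).2 hty, rfl⟩

theorem app_fn_val (b : Away (𝒮.deg U hU) (el j e₀))
    (y : ↥(RelProj.emb p chart U hU ⁻¹ᵁ dom chart j U hU e₀)) :
    ((show GrTwist.O (op (RelProj.emb p chart U hU ⁻¹ᵁ dom chart j U hU e₀)) from
      (RelProj.emb p chart U hU).app (dom chart j U hU e₀) (fn chart hU e₀ b)).1 y).val =
      IsLocalization.map (M := Submonoid.powers (el j e₀)) (T := y.1.asHomogeneousIdeal.toIdeal.primeCompl) _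
        (RingHom.id _) (Submonoid.powers_le.mpr
          ((Proj.mem_basicOpen _ _ _).1 (((RelProj.emb p chart U hU).preimage_image_eq _).le y.2 :
            y.1 ∈ Proj.basicOpen (𝒮.deg U hU) (el j e₀)))) b.val := by
  have h : (RelProj.emb p chart U hU).app (dom chart j U hU e₀) (fn chart hU e₀ b) =
      (Proj (𝒮.deg U hU)).presheaf.map
        (homOfLE ((RelProj.emb p chart U hU).preimage_image_eq (Proj.basicOpen (𝒮.deg U hU) (el j e₀))).le).op
        (Proj.awayToSection (𝒮.deg U hU) (el j e₀) b) := by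
    have h' : (RelProj.emb p chart U hU).appLE (dom chart j U hU e₀) (Proj.basicOpen (𝒮.deg U hU) (el j e₀))
        ((RelProj.emb p chart U hU).preimage_image_eq _).ge (fn chart hU e₀ b) =
        Proj.awayToSection (𝒮.deg U hU) (el j e₀) b := by
      exact (ConcreteCategory.congr_hom (Scheme.Hom.appIso_hom' (RelProj.emb p chart U hU) _).symm _).trans
        (Iso.inv_hom_id_apply ((RelProj.emb p chart U hU).appIso _) _)
    rw [← h', ← CommRingCat.comp_apply, Scheme.Hom.appLE_map, Scheme.Hom.app_eq_appLE]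
    rfl
  rw [h]
  exact ProjectiveSpectrum.Proj.awayToSection_apply (𝒮.deg U hU) (el j e₀) b ⟨y.1, _⟩

include hj hO1 hφ in
/-- The defining equation of the fractions. -/
theorem fn_frac_smul (e : Γ(E, U)) :
    fn chart hU e₀ (frac hj hU e₀ e) • rs O1 (dom_le chart j U hU e₀) (sec φ e₀) =
      rs O1 (dom_le chart j U hU e₀) (sec φ e) := by
  refine (hO1.bijective U hU _ (dom_le chart j U hU e₀)).1 ?_
  refine (rdT_smul (lam := lam) ⟨U, hU⟩ _ _).trans (GrM.sectN_ext fun y => ?_)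
  refine (GrTwist.coe_smul_val (1 : ℤ) y.1 _ _).trans ?_
  refine (congrArg₂ (· * ·) (app_fn_val hU e₀ (frac hj hU e₀ e) y)
    (congrArg (fun t : GrTwist.sectN (𝒜 := 𝒮.deg U hU) 1 (op (RelProj.emb p chart U hU ⁻¹ᵁ dom chart j U hU e₀)) =>
      ((t.1 y : GrTwist.twistAt (𝒮.deg U hU) 1 y.1) : GrTwist.Loc (𝒮.deg U hU) y.1))
      (reading hj hφ hU e₀ (dom_le chart j U hU e₀)))).trans ?_
  refine Eq.trans ?_ (congrArg (fun t : GrTwist.sectN (𝒜 := 𝒮.deg U hU) 1
      (op (RelProj.emb p chart U hU ⁻¹ᵁ dom chart j U hU e₀)) =>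
      ((t.1 y : GrTwist.twistAt (𝒮.deg U hU) 1 y.1) : GrTwist.Loc (𝒮.deg U hU) y.1))
      (reading hj hφ hU e (dom_le chart j U hU e₀))).symm
  rw [GrM.genT_val, GrM.genT_val, frac, Away.val_mk, Localization.mk_eq_mk', IsLocalization.map_mk',
    ← Localization.mk_eq_mk', Localization.mk_mul, Localization.mk_eq_mk_iff, Localization.r_iff_exists]
  exact ⟨1, by simp; ring⟩

include hj hO1 hφ in
/-- The locus where a coefficient is invertible. -/
theorem basicOpen_le_dom (e₁ : Γ(E, U)) (c : Γ(P, dom chart j U hU e₁))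
    (hc : c • rs O1 (dom_le chart j U hU e₁) (sec φ e₁) = rs O1 (dom_le chart j U hU e₁) (sec φ e₀)) :
    P.basicOpen c ≤ dom chart j U hU e₀ := by
  have hc' : c = fn chart hU e₁ (frac hj hU e₁ e₀) :=
    (isFrame_dom hj hO1 hφ hU e₁).inj le_rfl (by
      rw [rs_self]
      exact hc.trans (fn_frac_smul hj hO1 hφ hU e₁ e₀).symm)
  subst hc'
  intro z hz
  obtain ⟨w, rfl⟩ := (opensRange_aE chart hj hU e₁).ge ((P.basicOpen_le _) hz)
  have h : w ∈ (Spec (CommRingCat.of (Away (𝒮.deg U hU) (el j e₁)))).basicOpen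
      ((Scheme.ΓSpecIso (CommRingCat.of (Away (𝒮.deg U hU) (el j e₁)))).inv (frac hj hU e₁ e₀)) := by
    rw [← aE_fn chart hj hU e₁, Scheme.basicOpen_appLE]
    exact ⟨trivial, hz⟩
  rw [basicOpen_eq_of_affine] at h
  refine ⟨_, ?_, rfl⟩
  show (Proj.awayι (𝒮.deg U hU) (el j e₁) (el_mem hj hU e₁) one_pos).base w ∈ Proj.basicOpen (𝒮.deg U hU) (el j e₀)
  have h2 := Proj.awayι_preimage_basicOpen (𝒮.deg U hU) (el_mem hj hU e₁) (one_pos : 0 < 1) (el_mem hj hU e₀) (m' := 1) one_pos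
  refine (SetLike.ext_iff.mp h2 w).2 ?_
  convert h
  refine congrArg PrimeSpectrum.basicOpen (val_injective _ ?_)
  simp [frac, Away.isLocalizationElem, Away.val_mk]

end frames

end Groth.L18.PBundle
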