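import Groth.Agent.L18.PBundle.UPExist

/-!
# The universal property of a projective bundle, in terms of the canonical morphism
-/

set_option autoImplicit false
set_option backward.isDefEq.respectTransparency false

noncomputable section

universe u

open CategoryTheory CategoryTheory.Limits AlgebraicGeometry TopologicalSpace Opposite
open Groth.L18
open Groth.L18.Frame (rs rs_rs rs_self pull)
open Groth.L18.Ample (hom_app_rs)

namespace Groth.L18.PBundle

variable {X Y P : Scheme.{u}} {E : Y.Modules} {p : P ⟶ Y} {O1 : P.Modules}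
  {φ : E ⟶ (Scheme.Modules.pushforward p).obj O1} {g : X ⟶ Y} {L : X.Modules}

/-- The pullback of the universal quotient. -/
abbrev canon (φ : E ⟶ (Scheme.Modules.pushforward p).obj O1) {r : X ⟶ P} (hr : r ≫ p = g) :
    (Scheme.Modules.pullback g).obj E ⟶ (Scheme.Modules.pullback r).obj O1 :=
  (Scheme.Modules.pullbackCongr hr).inv.app E ≫ (Scheme.Modules.pullbackComp r p).inv.app E ≫
    (Scheme.Modules.pullback r).map (adjHom φ)

theorem canon_pull {r : X ⟶ P} (hr : r ≫ p = g) (U : Y.Opens) (e : Γ(E, U)) :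
    (canon φ hr).app (g ⁻¹ᵁ U) (pull g E U e) =
      rs ((Scheme.Modules.pullback r).obj O1) (le_base hr U) (pull r O1 (p ⁻¹ᵁ U) (φ.app U e)) := by
  subst hr
  refine Eq.trans ?_ (rs_self _ _ _).symm
  refine (congrArg (fun t => ((Scheme.Modules.pullback r).map (adjHom φ)).app ((r ≫ p) ⁻¹ᵁ U)
    (((Scheme.Modules.pullbackComp r p).inv.app E).app ((r ≫ p) ⁻¹ᵁ U) t))
    ((Groth.L19.ProjBdl.pull_congr (rfl : r ≫ p = r ≫ p) E U e rfl).trans (rs_self _ _ _))).trans ?_
  refine (congrArg (((Scheme.Modules.pullback r).map (adjHom φ)).app ((r ≫ p) ⁻¹ᵁ U))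
    (Groth.L19.ProjBdl.pull_comp r p E U e)).trans ?_
  exact (Groth.L19.ProjBdl.pull_app r (adjHom φ) (p ⁻¹ᵁ U) (pull p E U e)).trans
    (congrArg (pull r O1 (p ⁻¹ᵁ U)) (adjHom_pull φ U e))

theorem sol_iff {r : X ⟶ P} (hr : r ≫ p = g) (s : (Scheme.Modules.pullback g).obj E ⟶ L) :
    Sol φ r hr (adjSec s) ↔ ∃ τ : (Scheme.Modules.pullback r).obj O1 ≅ L,
      (Scheme.Modules.pullbackCongr hr).inv.app E ≫ (Scheme.Modules.pullbackComp r p).inv.app E ≫
        (Scheme.Modules.pullback r).map (adjHom φ) ≫ τ.hom = s := by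
  subst hr
  refine exists_congr fun τ => ⟨fun h => hom_ext_pull fun U e => ?_, fun h U e => ?_⟩
  · refine (congrArg (τ.hom.app ((r ≫ p) ⁻¹ᵁ U)) ((canon_pull (φ := φ) rfl U e).trans (rs_self _ _ _))).trans ?_
    exact ((h U e).trans (rs_self _ _ _)).trans (adjSec_app s U e)
  · refine Eq.trans ?_ ((rs_self L _ _).trans (adjSec_app s U e)).symm
    refine Eq.trans (congrArg (τ.hom.app ((r ≫ p) ⁻¹ᵁ U)) ((canon_pull (φ := φ) rfl U e).trans (rs_self _ _ _))).symm ?_
    exact congr(($h).app ((r ≫ p) ⁻¹ᵁ U) (pull (r ≫ p) E U e))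

end Groth.L18.PBundle
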