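import Groth.Agent.L18.PBundle.VeryAmplePair
import Groth.Agent.L18.PBundle.SegrePair
import Groth.Agent.L16.QcqsPush

/-!
# Composition and very ampleness
-/

set_option autoImplicit false
set_option linter.style.haveILetI false
set_option backward.isDefEq.respectTransparency false

noncomputable section

universe u

open CategoryTheory CategoryTheory.Limits AlgebraicGeometry TopologicalSpace Opposite HomogeneousLocalization
open Groth.L18
open Groth.L18.Frame (rs ro rs_rs rs_self rs_smul IsFrame)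

namespace Groth.L18.PBundle

variable {X Y Z : Scheme.{u}} (f : X ⟶ Y) (g : Y ⟶ Z)

/-- Enough sections give an immersion into `P(E) ×_Z Y`. -/
theorem isImmersion_lift_of_hasGeneration [IsAffine Z] {N : X.Modules} (hgen : HasGeneration f N)
    (hQ : Coh.IsQCoh ((Scheme.Modules.pushforward (f ≫ g)).obj N)) {𝒮 : RelProj.QCGrAlg Z}
    {j : (Scheme.Modules.pushforward (f ≫ g)).obj N ⟶ 𝒮.toModule} {P : Scheme.{u}} {p : P ⟶ Z}
    {chart : ∀ (U : Z.Opens) (hU : IsAffineOpen U), (((p ⁻¹ᵁ U : P.Opens) : Scheme.{u}) ≅ Proj (𝒮.deg U hU))}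
    {O1 : P.Modules} {lam : ∀ (U : Z.Opens) (hU : IsAffineOpen U),
      O1 ⟶ (Scheme.Modules.pushforward (RelProj.emb p chart U hU)).obj (GrTwist.twist (𝒮.deg U hU) 1)}
    {φ : (Scheme.Modules.pushforward (f ≫ g)).obj N ⟶ (Scheme.Modules.pushforward p).obj O1}
    (hj : RelProj.IsGrSymAlg ((Scheme.Modules.pushforward (f ≫ g)).obj N) 𝒮 j)
    (hO1 : RelProj.IsRelTwist 𝒮 p chart 1 O1 lam) (hφ : IsTaut φ lam j) {r : X ⟶ P} {hr : r ≫ p = f ≫ g}
    (hs : Sol φ r hr (L := N) (𝟙 ((Scheme.Modules.pushforward (f ≫ g)).obj N))) :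
    IsImmersion (pullback.lift r f hr : X ⟶ pullback p g) := by
  refine isImmersion_of_forall_exists _ fun x => ?_
  obtain ⟨V, hV, T, hT, γ, S₀, S, c, hfr, hmax, hxc, haffc, hA⟩ := hgen x
  let l : X ⟶ pullback p g := pullback.lift r f hr
  have hl1 : l ≫ pullback.fst p g = r := pullback.lift_fst _ _ _
  have hl2 : l ≫ pullback.snd p g = f := pullback.lift_snd _ _ _
  have hU := isAffineOpen_top Z
  let e₀ : Γ((Scheme.Modules.pushforward (f ≫ g)).obj N, ⊤) := S₀
  let D := dom chart j ⊤ hU e₀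
  let G₀ := pullback.fst p g ⁻¹ᵁ D ⊓ pullback.snd p g ⁻¹ᵁ V
  have hG₀ : IsAffineOpen G₀ := isAffineOpen_pullback_inf p g (isAffineOpen_dom chart hj hU e₀) hV
  have hTD : T ≤ r ⁻¹ᵁ D := fun z hz => hs.mem hQ hj hO1 hφ hU e₀ (V := T) le_top hfr hz
  have hpre : l ⁻¹ᵁ G₀ = T := by
    show (l ≫ pullback.fst p g) ⁻¹ᵁ D ⊓ (l ≫ pullback.snd p g) ⁻¹ᵁ V = T
    rw [hl1, hl2]
    refine le_antisymm (hmax _ inf_le_right ?_) (le_inf hTD hT)
    have h := (hs.isFrame hj hO1 hφ hU e₀).mono (inf_le_left : r ⁻¹ᵁ D ⊓ f ⁻¹ᵁ V ≤ r ⁻¹ᵁ D)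
    rw [rs_rs] at h
    exact h
  let π := l.appLE G₀ T hpre.ge
  have h0 : ∀ a, f.appLE V T hT a ∈ π.hom.range := fun a => ⟨(pullback.snd p g).appLE V G₀ inf_le_right a, by
    refine (ConcreteCategory.congr_hom (Scheme.Hom.appLE_comp_appLE l (pullback.snd p g) V G₀ T inf_le_right hpre.ge) a).trans ?_
    simp only [hl2]⟩
  have h1 : ∀ k a, a • rs N le_top S₀ = rs N (le_top : T ≤ ⊤) (S k) → a ∈ π.hom.range := fun k a ha =>
    ⟨(pullback.fst p g).appLE D G₀ inf_le_left (fn chart hU e₀ (frac hj hU e₀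
      (show Γ((Scheme.Modules.pushforward (f ≫ g)).obj N, ⊤) from S k))), by
      refine (ConcreteCategory.congr_hom (Scheme.Hom.appLE_comp_appLE l (pullback.fst p g) D G₀ T inf_le_left hpre.ge) _).trans ?_
      simp only [hl1]
      refine hfr.inj le_rfl ?_
      rw [rs_self, ha]
      exact hs.coeff hj hO1 hφ hU e₀ _ (V := T) hTD le_top _ (fn_frac_smul hj hO1 hφ hU e₀ _)⟩
  obtain ⟨hc, hA'⟩ := hA π.hom.range h0 h1
  obtain ⟨c', hc'⟩ := hc
  have hpre' : l ⁻¹ᵁ (pullback p g).basicOpen c' = X.basicOpen c := by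
    rw [← hc']
    show _ = X.basicOpen (l.appLE G₀ T hpre.ge c')
    rw [Scheme.basicOpen_appLE, inf_eq_right.2]
    exact (l.preimage_mono ((pullback p g).basicOpen_le c')).trans hpre.le
  refine ⟨(pullback p g).basicOpen c', hpre'.ge hxc, ?_⟩
  haveI := isClosedImmersion_restrict_of_appLE l (hG₀.basicOpen c') haffc hpre' (by
    rw [← RingHom.range_eq_top]
    have hres : ∀ z, l.appLE ((pullback p g).basicOpen c') (X.basicOpen c) hpre'.ge
        (ro ((pullback p g).basicOpen_le c') z) = ro (X.basicOpen_le c) (π z) := fun z => by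
      simp only [ro, π, ← CommRingCat.comp_apply, Scheme.Hom.map_appLE, Scheme.Hom.appLE_map]
    refine hA' _ (fun a ha => ?_) fun w hw => ?_
    · obtain ⟨z, rfl⟩ := ha
      exact ⟨_, hres z⟩
    · have hu : IsUnit (ro ((pullback p g).basicOpen_le c') c') :=
        RingedSpace.isUnit_res_basicOpen (pullback p g).toRingedSpace c'
      obtain ⟨v, hv⟩ := hu.exists_left_inv
      refine ⟨v, ?_⟩
      have h2 := congrArg (l.appLE ((pullback p g).basicOpen c') (X.basicOpen c) hpre'.ge) hv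
      rw [map_mul, map_one, hres, show π c' = c from hc'] at h2
      exact left_inv_eq_right_inv h2 (by rw [mul_comm]; exact hw))
  infer_instance

/-- `tw L (f^* K^d) k` is `L ⊗ f^* K^(d k)`. -/
theorem nonempty_tw_iso (L : X.Modules) (K : Y.Modules) (d : ℕ) : ∀ k : ℕ,
    Nonempty (Groth.L18.Ample.tw L ((Scheme.Modules.pullback f).obj (CohB1.tensorPow K d)) (k + 1) ≅
      CohB1.tensorMod L ((Scheme.Modules.pullback f).obj (CohB1.tensorPow K (d * (k + 1)))))
  | 0 => ⟨Groth.L00.Tensor.tensorIso (Iso.refl L)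
      ((Scheme.Modules.pullback f).mapIso (eqToIso (congrArg (CohB1.tensorPow K) (mul_one d).symm)))⟩
  | k + 1 => by
    obtain ⟨e⟩ := nonempty_tw_iso L K d k
    exact ⟨Groth.L00.Tensor.tensorIso e (Iso.refl _) ≪≫ Groth.L00.Tensor.tensorAssoc _ _ _ ≪≫
      Groth.L00.Tensor.tensorIso (Iso.refl L) (Groth.L29.DC.PullTensor.pullTensor f _ _ ≪≫
        (Scheme.Modules.pullback f).mapIso (Groth.L00.Tensor.tensorPowAdd K _ _ ≪≫
          eqToIso (congrArg (CohB1.tensorPow K) (Nat.mul_succ d (k + 1)).symm)))⟩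

/-- Positive powers of a very ample module are very ample. -/
theorem isRelVeryAmple_tensorPow_succ {K : Y.Modules} (hK : PicF.IsInvertible K) (hKva : RelProj.IsRelVeryAmple g K) :
    ∀ k : ℕ, RelProj.IsRelVeryAmple g (CohB1.tensorPow K (k + 1))
  | 0 => isRelVeryAmple_of_iso (Groth.L00.Tensor.tensorUnitLeft K) hKva
  | k + 1 => by
    obtain ⟨E', 𝒮', j', P', p', chart', O1', lam', φ', i', hi', s', hE', -, -, -, -, -, hs', -⟩ := exists_data hKva
    exact isRelVeryAmple_tensor_of_epi (Groth.L18.Ample.isInvertible_tensorPow hK (k + 1))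
      (isRelVeryAmple_tensorPow_succ hK hKva k) hK hE' s' hs'

/-- Composition over an affine base. -/
theorem exists_forall_comp_affine [IsAffine Z] [QuasiCompact f] [LocallyOfFiniteType f] [QuasiCompact g]
    {L : X.Modules} (hL : PicF.IsInvertible L) (hLva : RelProj.IsRelVeryAmple f L) {K : Y.Modules}
    (hK : PicF.IsInvertible K) (hKva : RelProj.IsRelVeryAmple g K) :
    ∃ n₀ : ℕ, 0 < n₀ ∧ ∀ n, n₀ ≤ n → RelProj.IsRelVeryAmple (f ≫ g)
      (CohB1.tensorMod L ((Scheme.Modules.pullback f).obj (CohB1.tensorPow K n))) := by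
  obtain ⟨d, K₀, hgen⟩ := exists_hasGeneration f g hL hLva hK hKva
  set N := Groth.L18.Ample.tw L ((Scheme.Modules.pullback f).obj (CohB1.tensorPow K d)) (K₀ + 1) with hN'
  have hN : PicF.IsInvertible N := Groth.L22.VeryAmple.isInvertible_tw hL
    (Groth.L18.Ample.isInvertible_pullback f (Groth.L18.Ample.isInvertible_tensorPow hK d)) _
  haveI : QuasiSeparated f := by
    obtain ⟨E, hE, 𝒮, j, hj, P, p, chart, hP, O1, lam, hO1, i, hi, hip, -⟩ := hLva
    haveI : IsSeparated p := RP.isSeparated hP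
    rw [← hip]
    infer_instance
  haveI : QuasiSeparated g := by
    obtain ⟨E, hE, 𝒮, j, hj, P, p, chart, hP, O1, lam, hO1, i, hi, hip, -⟩ := hKva
    haveI : IsSeparated p := RP.isSeparated hP
    rw [← hip]
    infer_instance
  haveI := Groth.L21.Extend.isQCoh_of_isInvertible hN
  haveI hQ : Coh.IsQCoh ((Scheme.Modules.pushforward (f ≫ g)).obj N) := Groth.L16.QcqsPush.isQCoh_push N (f ≫ g)
  have hepi : Epi ((Scheme.Modules.pullbackPushforwardAdjunction (f ≫ g)).counit.app N) :=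
    counit_epi_of_gen (f ≫ g) N fun x => by
      obtain ⟨V, -, T, hT, γ, S₀, S, c, hfr, -, hxc, -⟩ := hgen x
      exact ⟨⊤, S₀, T, le_top, X.basicOpen_le c hxc, hfr⟩
  obtain ⟨P, p, chart, hP⟩ := RP.exists_isRelProj (SymSheaf.symGr ((Scheme.Modules.pushforward (f ≫ g)).obj N))
  have hj := SymSheaf.isGrSymAlg ((Scheme.Modules.pushforward (f ≫ g)).obj N)
  obtain ⟨O1, lam, hO1⟩ := exists_twist hP 1
  obtain ⟨φ, hφ⟩ := exists_taut hj hP hQ hO1
  obtain ⟨r, hr, hs⟩ := exists_morphism hj hQ hP hO1 hφ hN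
    ((Scheme.Modules.pullbackPushforwardAdjunction (f ≫ g)).counit.app N) hepi
  have h1 : adjSec ((Scheme.Modules.pullbackPushforwardAdjunction (f ≫ g)).counit.app N) =
      𝟙 ((Scheme.Modules.pushforward (f ≫ g)).obj N) := by
    rw [adjSec, Adjunction.homEquiv_unit]
    exact (Scheme.Modules.pullbackPushforwardAdjunction (f ≫ g)).right_triangle_components _
  obtain ⟨τ, hτ⟩ := hs
  have hs : Sol φ r hr (L := N) (𝟙 ((Scheme.Modules.pushforward (f ≫ g)).obj N)) :=
    ⟨τ, fun U e => (hτ U e).trans (congrArg (rs N _) (congr(($h1).app U e)))⟩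
  haveI himm := isImmersion_lift_of_hasGeneration f g hgen hQ hj hO1 hφ hs
  refine ⟨d * (K₀ + 1) + 1, Nat.succ_pos _, fun n hn => ?_⟩
  obtain ⟨m, rfl⟩ := Nat.exists_eq_add_of_le hn
  have hKm : RelProj.IsRelVeryAmple g (CohB1.tensorPow K (m + 1)) :=
    isRelVeryAmple_tensorPow_succ g hK hKva m
  obtain ⟨E₂, 𝒮₂, j₂, P₂, p₂, chart₂, O₂, lam₂, φ₂, i₂, hi₂, s₂, hE₂, hj₂, hP₂, hO₂, hφ₂, hii₂, -, hs₂⟩ :=
    exists_data hKm
  haveI := hii₂
  have hs₂' := hs₂.comp f (show (f ≫ i₂) ≫ p₂ = f ≫ g by rw [Category.assoc, hi₂])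
  have hva := isRelVeryAmple_tensor_of_pair hN
    (Groth.L18.Ample.isInvertible_pullback f (Groth.L18.Ample.isInvertible_tensorPow hK (m + 1)))
    hQ hj hP hO1 hφ hE₂ hj₂ hP₂ hO₂ hφ₂ hs hs₂' (by
      let M : pullback p g ⟶ pullback p p₂ := pullback.map p g p p₂ (𝟙 _) i₂ (𝟙 _) (by simp) (by simp [hi₂])
      haveI : IsImmersion M := MorphismProperty.pullbackMap (P := @IsImmersion) (i₁ := 𝟙 P) (i₂ := i₂)
        (show IsImmersion (𝟙 P) by infer_instance) hii₂ (Category.id_comp _).symm hi₂.symm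
      rw [show pullback.lift r (f ≫ i₂) (hr.trans (show (f ≫ i₂) ≫ p₂ = f ≫ g by rw [Category.assoc, hi₂]).symm) =
        pullback.lift r f hr ≫ M from pullback.hom_ext (by simp [M]) (by simp [M])]
      infer_instance)
  obtain ⟨e⟩ := nonempty_tw_iso f L K d K₀
  exact isRelVeryAmple_of_iso ((Groth.L00.Tensor.tensorIso e (Iso.refl _) ≪≫ Groth.L00.Tensor.tensorAssoc _ _ _ ≪≫
      Groth.L00.Tensor.tensorIso (Iso.refl L) (Groth.L29.DC.PullTensor.pullTensor f _ _ ≪≫
        (Scheme.Modules.pullback f).mapIso (Groth.L00.Tensor.tensorPowAdd K _ _ ≪≫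
          eqToIso (congrArg (CohB1.tensorPow K) (by omega))))).symm) hva

/-- Restriction of very ampleness to an open of the base. -/
theorem isRelVeryAmple_restrict {L : X.Modules} (hva : RelProj.IsRelVeryAmple f L) (B : Y.Opens) :
    RelProj.IsRelVeryAmple (f ∣_ B) (L.restrict (f ⁻¹ᵁ B).ι) :=
  isRelVeryAmple_of_iso ((Scheme.Modules.restrictFunctorIsoPullback _).app L)
    (isRelVeryAmple_baseChange (isPullback_morphismRestrict f B).flip hva)

/-- Composition over a quasi-compact base. -/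
theorem exists_forall_comp [CompactSpace Z] [QuasiCompact f] [LocallyOfFiniteType f] [QuasiCompact g]
    {L : X.Modules} (hL : PicF.IsInvertible L) (hLva : RelProj.IsRelVeryAmple f L) {K : Y.Modules}
    (hK : PicF.IsInvertible K) (hKva : RelProj.IsRelVeryAmple g K) :
    ∃ n₀ : ℕ, 0 < n₀ ∧ ∀ n, n₀ ≤ n → RelProj.IsRelVeryAmple (f ≫ g)
      (CohB1.tensorMod L ((Scheme.Modules.pullback f).obj (CohB1.tensorPow K n))) := by
  choose W hW hzW _ using fun z : Z => exists_isAffineOpen_mem_and_subset (x := z) (U := ⊤) trivial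
  have key : ∀ z : Z, ∃ n₀ : ℕ, ∀ n, n₀ ≤ n → RelProj.IsRelVeryAmple ((f ≫ g) ∣_ W z)
      ((CohB1.tensorMod L ((Scheme.Modules.pullback f).obj (CohB1.tensorPow K n))).restrict
        ((f ≫ g) ⁻¹ᵁ W z).ι) := by
    intro z
    set B := g ⁻¹ᵁ W z
    set A := f ⁻¹ᵁ B
    haveI : IsAffine (W z).toScheme := hW z
    obtain ⟨n₀, -, hn₀⟩ := exists_forall_comp_affine (f ∣_ B) (g ∣_ W z)
      (Groth.L18.Ample.isInvertible_restrict hL A) (isRelVeryAmple_restrict f hLva B)
      (Groth.L18.Ample.isInvertible_restrict hK B) (isRelVeryAmple_restrict g hKva (W z))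
    refine ⟨n₀, fun n hn => ?_⟩
    rw [morphismRestrict_comp]
    refine isRelVeryAmple_of_iso ?_ (hn₀ n hn)
    exact (Groth.L00.Tensor.tensorRestrict A.ι L _).symm ≪≫ Groth.L00.Tensor.tensorIso (Iso.refl _)
      (((Scheme.Modules.pullback (f ∣_ B)).mapIso (Groth.L00.Tensor.tensorPowRestrict B.ι K n ≪≫
          (Scheme.Modules.restrictFunctorIsoPullback B.ι).app _) ≪≫
        (Scheme.Modules.pullbackComp _ _).app _ ≪≫
        (Scheme.Modules.pullbackCongr (morphismRestrict_ι f B)).app _ ≪≫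
        ((Scheme.Modules.pullbackComp _ _).app _).symm ≪≫
        ((Scheme.Modules.restrictFunctorIsoPullback A.ι).app _).symm).symm)
  choose n₀ hn₀ using key
  obtain ⟨T, hT⟩ := isCompact_univ.elim_finite_subcover (fun z : Z => (W z : Set Z))
    (fun z => (W z).2) (fun z _ => Set.mem_iUnion.2 ⟨z, hzW z⟩)
  refine ⟨T.sup n₀ + 1, Nat.succ_pos _, fun n hn => isRelVeryAmple_of_openCover
    (Groth.L18.GenLoc.isInvertible_tensor hL (Groth.L18.Ample.isInvertible_pullback f
      (Groth.L18.Ample.isInvertible_tensorPow hK n))) fun z => ?_⟩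
  obtain ⟨z', hz', hzz'⟩ := Set.mem_iUnion₂.1 (hT (Set.mem_univ z))
  exact ⟨W z', hzz', hn₀ z' n ((Finset.le_sup hz').trans (by omega))⟩

end Groth.L18.PBundle
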