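import Groth.Agent.L18.PBundle.ProjSpaceVA
import Groth.Agent.L18.VeryAmpleOver

/-!
# Finitely many coordinates suffice locally
-/

set_option autoImplicit false
set_option linter.style.haveILetI false
set_option backward.isDefEq.respectTransparency false

noncomputable section

universe u

open CategoryTheory CategoryTheory.Limits AlgebraicGeometry TopologicalSpace Opposite HomogeneousLocalization
open Groth.L18
open Groth.L18.Frame (rs ro rs_rs rs_self rs_smul IsFrame)

namespace Groth.L18.PBundle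

/-- An immersion is a closed immersion with surjective ring maps over small affine opens. -/
theorem app_surjective_of_le_coborder {X P : Scheme.{u}} (i : X ⟶ P) [IsImmersion i] {B : P.Opens}
    (hB : IsAffineOpen B) (hle : B ≤ i.coborderRange) :
    Function.Surjective (i.app B) ∧ IsAffineOpen (i ⁻¹ᵁ B) := by
  let U' : i.coborderRange.toScheme.Opens := i.coborderRange.ι ⁻¹ᵁ B
  have e : i.coborderRange.ι ''ᵁ U' = B := by
    rw [Scheme.Hom.image_preimage_eq_opensRange_inf, Scheme.Opens.opensRange_ι, inf_eq_right.2 hle]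
  have hU' : IsAffineOpen U' :=
    hB.preimage_of_isOpenImmersion i.coborderRange.ι (by rw [Scheme.Opens.opensRange_ι]; exact hle)
  refine ⟨?_, ?_⟩
  · have h := i.liftCoborder.app_surjective U' hU'
    rw [liftCoborder_app] at h
    have h2 : Function.Surjective (i.app (i.coborderRange.ι ''ᵁ U')) := fun y => by
      obtain ⟨a, ha⟩ := h (X.presheaf.map (eqToHom (i.liftCoborder_preimage U')).op y)
      exact ⟨a, (ConcreteCategory.bijective_of_isIso (X.presheaf.map (eqToHom (i.liftCoborder_preimage U')).op)).1 ha⟩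
    rwa [e] at h2
  · have h := hU'.preimage i.liftCoborder
    rw [i.liftCoborder_preimage U', e] at h
    exact h

variable {X Y : Scheme.{u}} (f : X ⟶ Y) [LocallyOfFiniteType f] {L : X.Modules}

/-- Near every point, a very ample module embeds by finitely many of its sections over an affine open. -/
theorem exists_local_data (hva : RelProj.IsRelVeryAmple f L) {V : Y.Opens} (hV : IsAffineOpen V) {x : X}
    (hx : x ∈ f ⁻¹ᵁ V) :
    ∃ (e₀ : Γ(L, f ⁻¹ᵁ V)) (T : X.Opens) (hT : T ≤ f ⁻¹ᵁ V) (γ : Type u) (_ : Finite γ)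
      (e : γ → Γ(L, f ⁻¹ᵁ V)) (c : Γ(X, T)),
      IsFrame L T (rs L hT e₀) ∧ (∀ (W : X.Opens) (hW : W ≤ f ⁻¹ᵁ V), IsFrame L W (rs L hW e₀) → W ≤ T) ∧
        x ∈ X.basicOpen c ∧ IsAffineOpen (X.basicOpen c) ∧
        ∀ A : Subring Γ(X, T), (∀ a, f.appLE V T hT a ∈ A) →
          (∀ k a, a • rs L hT e₀ = rs L hT (e k) → a ∈ A) → c ∈ A ∧
            ∀ A' : Subring Γ(X, X.basicOpen c), (∀ a ∈ A, ro (X.basicOpen_le c) a ∈ A') →
              (∀ w, w * ro (X.basicOpen_le c) c = 1 → w ∈ A') → A' = ⊤ := by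
  classical
  obtain ⟨E, 𝒮, j, P, p, chart, O1, lam, φ, i, hi, s, hE, hj, hP, hO1, hφ, hii, -, hs⟩ := exists_data hva
  haveI := hii
  obtain ⟨eE, heE⟩ := exists_mem_dom (chart := chart) hj hV hE (z := i x) (le_base hi V hx)
  let D := dom chart j V hV eE
  let T := i ⁻¹ᵁ D
  have hT : T ≤ f ⁻¹ᵁ V := (i.preimage_mono (dom_le chart j V hV eE)).trans (base_le hi V)
  let w : Γ(E, V) → Γ(L, f ⁻¹ᵁ V) := fun e => (adjSec s).app V e
  have hD : IsAffineOpen D := isAffineOpen_dom chart hj hV eE
  obtain ⟨d, hdle, hxd⟩ := hD.exists_basicOpen_le (V := D ⊓ i.coborderRange)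
    ⟨i x, heE, subset_coborder ⟨x, rfl⟩⟩ heE
  let c : Γ(X, T) := i.app D d
  have hpre : X.basicOpen c = i ⁻¹ᵁ P.basicOpen d := (Scheme.preimage_basicOpen i d).symm
  obtain ⟨hsur, haffd⟩ := app_surjective_of_le_coborder i (hD.basicOpen d) (hdle.trans inf_le_right)
  have haff : IsAffineOpen (X.basicOpen c) := by rw [hpre]; exact haffd
  have hle : X.basicOpen c ≤ f ⁻¹ᵁ V := (X.basicOpen_le c).trans hT
  obtain ⟨γ', hγ', g, hg⟩ := VeryAmpleOver.exists_generators_affine f hV haff hle
  -- every function on the standard open depends on finitely many coordinates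
  have hdep : ∀ b : Γ(P, D), ∃ t : Finset Γ(E, V), ∀ A : Subring Γ(X, T), (∀ a, f.appLE V T hT a ∈ A) →
      (∀ k ∈ t, ∀ a, a • rs L hT (w eE) = rs L hT (w k) → a ∈ A) → i.app D b ∈ A := by
    intro b
    haveI : IsIso (Proj.awayToSection (𝒮.deg V hV) (el j eE)) :=
      (Proj.basicOpenIsoAway (𝒮.deg V hV) (el j eE) (el_mem hj hV eE) one_pos).isIso_hom
    let F : CommRingCat.of (Away (𝒮.deg V hV) (el j eE)) ⟶ Γ(P, D) := Proj.awayToSection (𝒮.deg V hV) (el j eE) ≫
      ((RelProj.emb p chart V hV).appIso (Proj.basicOpen (𝒮.deg V hV) (el j eE))).inv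
    obtain ⟨z, rfl⟩ := (ConcreteCategory.bijective_of_isIso F).2 b
    have hz : z ∈ Subring.closure (Set.range (strAway hV (j := j) eE) ∪ Set.range (frac hj hV eE)) := by
      rw [closure_eq_top hj hV eE hE]; trivial
    induction hz using Subring.closure_induction with
    | mem y hy =>
      rcases hy with ⟨a, rfl⟩ | ⟨e, rfl⟩
      · refine ⟨∅, fun A h0 _ => ?_⟩
        have h1 : F (strAway hV (j := j) eE a) = p.appLE V D (dom_le chart j V hV eE) a := fn_str hj hP hV eE a
        rw [h1, Scheme.Hom.app_eq_appLE, ← CommRingCat.comp_apply, Scheme.Hom.appLE_comp_appLE]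
        simp only [hi]
        exact h0 a
      · refine ⟨{e}, fun A _ h1 => h1 e (Finset.mem_singleton_self e) _ ?_⟩
        rw [Scheme.Hom.app_eq_appLE]
        exact hs.coeff hj hO1 hφ hV eE e (V := T) le_rfl hT _ (fn_frac_smul hj hO1 hφ hV eE e)
    | zero => exact ⟨∅, fun A _ _ => by simp⟩
    | one => exact ⟨∅, fun A _ _ => by simp⟩
    | add y z _ _ hy hz =>
      obtain ⟨t, ht⟩ := hy
      obtain ⟨t', ht'⟩ := hz
      exact ⟨t ∪ t', fun A h0 h1 => by
        rw [map_add, map_add]
        exact add_mem (ht A h0 fun k hk => h1 k (Finset.mem_union_left _ hk))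
          (ht' A h0 fun k hk => h1 k (Finset.mem_union_right _ hk))⟩
    | neg y _ hy =>
      obtain ⟨t, ht⟩ := hy
      exact ⟨t, fun A h0 h1 => by rw [map_neg, map_neg]; exact neg_mem (ht A h0 h1)⟩
    | mul y z _ _ hy hz =>
      obtain ⟨t, ht⟩ := hy
      obtain ⟨t', ht'⟩ := hz
      exact ⟨t ∪ t', fun A h0 h1 => by
        rw [map_mul, map_mul]
        exact mul_mem (ht A h0 fun k hk => h1 k (Finset.mem_union_left _ hk))
          (ht' A h0 fun k hk => h1 k (Finset.mem_union_right _ hk))⟩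
  choose t ht using hdep
  -- the generators come from `D`, up to powers of `d`
  haveI := hD.isLocalization_basicOpen d
  have hg' : ∀ l : γ', ∃ (b : Γ(P, D)) (n : ℕ),
      g l * ro (X.basicOpen_le c) c ^ n = ro (X.basicOpen_le c) (i.app D b) := by
    intro l
    obtain ⟨y, hy⟩ := hsur (X.presheaf.map (eqToHom hpre.symm).op (g l))
    obtain ⟨n, b, hb⟩ := IsLocalization.Away.surj d y
    refine ⟨b, n, ?_⟩
    have hnat : ∀ b, X.presheaf.map (eqToHom hpre).op (i.app _ (algebraMap Γ(P, D) Γ(P, P.basicOpen d) b)) =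
        ro (X.basicOpen_le c) (i.app D b) := fun b => by
      show X.presheaf.map (eqToHom hpre).op (i.app _ (P.presheaf.map (homOfLE (P.basicOpen_le d)).op b)) = _
      rw [← CommRingCat.comp_apply, ← CommRingCat.comp_apply, Scheme.Hom.naturality_assoc, ← Functor.map_comp]
      rfl
    have hl : X.presheaf.map (eqToHom hpre).op (i.app _ y) = g l := by
      rw [hy, ← CommRingCat.comp_apply, ← Functor.map_comp]
      simp
    rw [← hnat b, ← hb, map_mul, map_mul, map_pow, map_pow, hl, hnat]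
  choose b n hb using hg'
  haveI := Fintype.ofFinite γ'
  let S : Finset Γ(E, V) := t d ∪ Finset.univ.biUnion fun l => t (b l)
  refine ⟨w eE, T, hT, S, inferInstance, fun k => w k.1, c, hs.isFrame hj hO1 hφ hV eE,
    fun W hW hf z hz => hs.mem hE hj hO1 hφ hV eE hW hf hz, by rw [hpre]; exact hxd, haff,
    fun A h0 h1 => ?_⟩
  have hA : ∀ y, t y ⊆ S → i.app D y ∈ A := fun y hy => ht y A h0 fun k hk a ha => h1 ⟨k, hy hk⟩ a ha
  refine ⟨hA d Finset.subset_union_left, fun A' hA' hinv => hg A' (fun a => ?_) fun l => ?_⟩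
  · have h := hA' _ (h0 a)
    rwa [ro, ← CommRingCat.comp_apply, Scheme.Hom.appLE_map] at h
  · have hcu : IsUnit (ro (X.basicOpen_le c) c) := RingedSpace.isUnit_res_basicOpen X.toRingedSpace c
    obtain ⟨u, hu⟩ := hcu.exists_left_inv
    have hpow : g l = ro (X.basicOpen_le c) (i.app D (b l)) * u ^ n l := by
      rw [← hb l, mul_assoc, ← mul_pow, mul_comm (ro _ c), show u * ro (X.basicOpen_le c) c = 1 from hu, one_pow,
        mul_one]
    rw [hpow]
    refine mul_mem (hA' _ (hA _ ?_)) (pow_mem (hinv u hu) _)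
    exact (Finset.subset_biUnion_of_mem (fun l => t (b l)) (Finset.mem_univ l)).trans Finset.subset_union_right

end Groth.L18.PBundle
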