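import Groth.Agent.L18.PBundle.VeryAmpleLocal
import Groth.Agent.L18.AmpleComp
import Groth.Agent.L22.VeryAmple.Sections

/-!
# Morphisms into a product with the base from finitely many extended sections
-/

set_option autoImplicit false
set_option linter.style.haveILetI false
set_option backward.isDefEq.respectTransparency false

noncomputable section

universe u

open CategoryTheory CategoryTheory.Limits AlgebraicGeometry TopologicalSpace Opposite HomogeneousLocalization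
open Groth.L18
open Groth.L18.Frame (rs ro rs_rs rs_self rs_smul IsFrame)

namespace Groth.L18.PBundle

theorem isAffineOpen_pullback_inf {A B Z : Scheme.{u}} [IsAffine Z] (a : A ⟶ Z) (b : B ⟶ Z) {D : A.Opens}
    (hD : IsAffineOpen D) {V : B.Opens} (hV : IsAffineOpen V) :
    IsAffineOpen (pullback.fst a b ⁻¹ᵁ D ⊓ pullback.snd a b ⁻¹ᵁ V) := by
  haveI : IsAffine D.toScheme := hD
  haveI : IsAffine V.toScheme := hV
  let m := pullback.map (D.ι ≫ a) (V.ι ≫ b) a b D.ι V.ι (𝟙 _) (Category.comp_id _) (Category.comp_id _)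
  have h := isAffineOpen_opensRange m
  convert h using 1
  refine Opens.ext ?_
  rw [Scheme.Hom.coe_opensRange, Scheme.Pullback.range_map]
  simp [Scheme.Opens.range_ι]

variable {X Y Z : Scheme.{u}} (f : X ⟶ Y) (g : Y ⟶ Z) {N : X.Modules}

/-- The finitely many sections which make `X ⟶ P(q_* N) ×_Z Y` an immersion. -/
def HasGeneration (N : X.Modules) : Prop :=
  ∀ x : X, ∃ (V : Y.Opens) (_ : IsAffineOpen V) (T : X.Opens) (hT : T ≤ f ⁻¹ᵁ V) (γ : Type u) (S₀ : Γ(N, ⊤))
    (S : γ → Γ(N, ⊤)) (c : Γ(X, T)),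
    IsFrame N T (rs N le_top S₀) ∧
      (∀ W : X.Opens, W ≤ f ⁻¹ᵁ V → IsFrame N W (rs N le_top S₀) → W ≤ T) ∧
      x ∈ X.basicOpen c ∧ IsAffineOpen (X.basicOpen c) ∧
      ∀ A : Subring Γ(X, T), (∀ a, f.appLE V T hT a ∈ A) →
        (∀ k a, a • rs N le_top S₀ = rs N (le_top : T ≤ ⊤) (S k) → a ∈ A) → c ∈ A ∧
          ∀ A' : Subring Γ(X, X.basicOpen c), (∀ a ∈ A, ro (X.basicOpen_le c) a ∈ A') →
            (∀ w, w * ro (X.basicOpen_le c) c = 1 → w ∈ A') → A' = ⊤

/-- `e` is a frame where `e ⊗ σ^k` is one and `σ` does not vanish. -/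
theorem isFrame_of_isFrame_it {L M : X.Modules} (hL : PicF.IsInvertible L) {W : X.Opens}
    {s : Coh.structureModule X ⟶ M} (hW : W ≤ CohB1.genLocus M s) {e : Γ(L, W)} {k : ℕ}
    (he : IsFrame (Groth.L18.Ample.tw L M k) W (Groth.L18.Ample.it (GenLoc.secOf s) W e k)) : IsFrame L W e := by
  have hloc : ∀ x : W, ∃ (V : X.Opens) (hV : V ≤ W), x.1 ∈ V ∧ IsFrame L V (rs L hV e) := by
    intro x
    obtain ⟨W₁, η, hx1, hη⟩ := Frame.exists_frame hL x.1
    let V := W ⊓ W₁
    have h1 := hη.mono (inf_le_right : V ≤ W₁)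
    obtain ⟨a, ha⟩ := h1.exists_coeff le_rfl (rs L (inf_le_left : V ≤ W) e)
    rw [rs_self] at ha
    have h3 := he.mono (inf_le_left : V ≤ W)
    rw [Groth.L18.Ample.it_rs, ← ha, ← Groth.L22.VeryAmple.it_smul_of_le ((inf_le_left : V ≤ W).trans hW)] at h3
    have hu := Frame.isUnit_of_isFrame
      (Groth.L22.VeryAmple.isFrame_powFrame ((inf_le_left : V ≤ W).trans hW) h1) h3
    exact ⟨V, inf_le_left, ⟨x.2, hx1⟩, ha ▸ h1.smul_unit hu⟩
  choose V hV hxV hF using hloc
  exact IsFrame.of_cover V hV (fun x hx => Opens.mem_iSup.mpr ⟨⟨x, hx⟩, hxV ⟨x, hx⟩⟩) hF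

/-- Extensions with a common exponent. -/
theorem exists_common_extend {X : Scheme.{u}} [CompactSpace X] [QuasiSeparatedSpace X] {L M : X.Modules}
    (hM : PicF.IsInvertible M) (hL : PicF.IsInvertible L) {κ : Type u} [Finite κ]
    (s : κ → (Coh.structureModule X ⟶ M)) (m : ∀ p, Γ(L, CohB1.genLocus M (s p))) :
    ∃ (K₀ : ℕ) (S : κ → Γ(Groth.L18.Ample.tw L M (K₀ + 1), ⊤)), ∀ p,
      rs (Groth.L18.Ample.tw L M (K₀ + 1)) le_top (S p) =
        Groth.L18.Ample.it (GenLoc.secOf (s p)) (CohB1.genLocus M (s p)) (m p) (K₀ + 1) := by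
  choose k hk using fun p => Groth.L22.VeryAmple.exists_extend_ge hM hL (s p) (m p)
  obtain ⟨K₀, hK₀⟩ := (Set.finite_range k).bddAbove
  choose S hS using fun p => hk p (K₀ + 1) ((hK₀ ⟨p, rfl⟩).trans K₀.le_succ)
  exact ⟨K₀, S, hS⟩

theorem exists_hasGeneration_aux [CompactSpace X] [QuasiSeparatedSpace X] [LocallyOfFiniteType f] {L M : X.Modules}
    (hL : PicF.IsInvertible L) (hM : PicF.IsInvertible M) (hLva : RelProj.IsRelVeryAmple f L) {ι : Type u}
    (t : ι → (Coh.structureModule X ⟶ M)) (V : ι → Y.Opens) (hV : ∀ i, IsAffineOpen (V i))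
    (hcov : ∀ y, ∃ i, y ∈ V i) (hgl : ∀ i, CohB1.genLocus M (t i) = f ⁻¹ᵁ V i) :
    ∃ K₀ : ℕ, HasGeneration f (Groth.L18.Ample.tw L M (K₀ + 1)) := by
  classical
  choose i hi using fun x : X => hcov (f x)
  choose e₀ T hT γ hγ e c hfr hmax hxc haffc hgen using
    fun x : X => exists_local_data f hLva (hV (i x)) (x := x) (hi x)
  obtain ⟨F, hF⟩ := isCompact_univ.elim_finite_subcover (fun x : X => (X.basicOpen (c x) : Set X))
    (fun x => (X.basicOpen (c x)).2) (fun x _ => Set.mem_iUnion.2 ⟨x, hxc x⟩)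
  -- extend all the chosen sections with a common exponent
  let m : ∀ p : Σ x : F, Option (γ x.1), Γ(L, CohB1.genLocus M (t (i p.1.1))) := fun p =>
    rs L (hgl (i p.1.1)).le (p.2.elim (e₀ p.1.1) (e p.1.1))
  obtain ⟨K₀, S, hS⟩ := exists_common_extend hM hL (fun p : Σ x : F, Option (γ x.1) => t (i p.1.1)) m
  refine ⟨K₀, fun x => ?_⟩
  obtain ⟨y, hy, hxy⟩ := Set.mem_iUnion₂.1 (hF (Set.mem_univ x))
  let G := CohB1.genLocus M (t (i y))
  have hTG : T y ≤ G := (hT y).trans (hgl (i y)).ge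
  have hres : ∀ (o : Option (γ y)) (W : X.Opens) (hW : W ≤ G),
      rs (Groth.L18.Ample.tw L M (K₀ + 1)) (le_top : W ≤ ⊤) (S ⟨⟨y, hy⟩, o⟩) =
        Groth.L18.Ample.it (GenLoc.secOf (t (i y))) W (rs L (hW.trans (hgl (i y)).le) (o.elim (e₀ y) (e y)))
          (K₀ + 1) := fun o W hW => by
    have h := congrArg (rs (Groth.L18.Ample.tw L M (K₀ + 1)) hW) (hS ⟨⟨y, hy⟩, o⟩)
    rw [rs_rs, Groth.L18.Ample.it_rs, rs_rs] at h
    exact h
  refine ⟨_, hV (i y), T y, hT y, γ y, S ⟨⟨y, hy⟩, none⟩, fun k => S ⟨⟨y, hy⟩, some k⟩, c y, ?_, ?_, hxy,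
    haffc y, fun A h0 h1 => hgen y A h0 fun k a ha => h1 k a ?_⟩
  · rw [hres none _ hTG]
    exact Groth.L22.VeryAmple.isFrame_powFrame hTG (hfr y)
  · intro W hW hWf
    have hWG : W ≤ G := hW.trans (hgl (i y)).ge
    rw [hres none W hWG] at hWf
    exact hmax y W hW (isFrame_of_isFrame_it hL hWG hWf)
  · rw [hres none _ hTG, hres (some k) _ hTG, Groth.L22.VeryAmple.it_smul_of_le hTG]
    exact congrArg (fun z => Groth.L18.Ample.it (GenLoc.secOf (t (i y))) (T y) z (K₀ + 1)) ha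


/-- Very ampleness gives the sections, after twisting by a large power of an ample module of the base. -/
theorem exists_hasGeneration [IsAffine Z] [QuasiCompact f] [LocallyOfFiniteType f] [QuasiCompact g] {L : X.Modules}
    (hL : PicF.IsInvertible L) (hLva : RelProj.IsRelVeryAmple f L) {K : Y.Modules} (hK : PicF.IsInvertible K)
    (hKva : RelProj.IsRelVeryAmple g K) :
    ∃ d K₀ : ℕ, HasGeneration f (Groth.L18.Ample.tw L ((Scheme.Modules.pullback f).obj (CohB1.tensorPow K d)) (K₀ + 1)) := by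
  classical
  have hKamp : CohB1.IsAmple K := Groth.L18.Ample.isAmple_of_isRelAmple (isRelAmple_of_isRelVeryAmple (f := g) hKva)
  haveI := hKamp.2.1
  haveI : Y.IsSeparated := Groth.L18.Ample.isSeparated_of_isAmple hKamp
  haveI : CompactSpace X := QuasiCompact.compactSpace_of_compactSpace f
  haveI : IsSeparated f := by
    obtain ⟨E, hE, 𝒮, j, hj, P, p, chart, hP, O1, lam, hO1, i, hi, hip, -⟩ := hLva
    haveI : IsSeparated p := RP.isSeparated hP
    rw [← hip]
    infer_instance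
  haveI : X.IsSeparated := ⟨by
    rw [show terminal.from X = f ≫ terminal.from Y from terminal.hom_ext _ _]
    infer_instance⟩
  obtain ⟨d, -, ι, hι, t, hcov, haff⟩ := Groth.L22.VeryAmple.exists_common_degree hKamp
  let M := (Scheme.Modules.pullback f).obj (CohB1.tensorPow K d)
  have hM : PicF.IsInvertible M :=
    Groth.L18.Ample.isInvertible_pullback f (Groth.L18.Ample.isInvertible_tensorPow hK d)
  let t' := fun i => Groth.L18.Ample.pullHom f (t i)
  have hgl : ∀ i, CohB1.genLocus M (t' i) = f ⁻¹ᵁ CohB1.genLocus _ (t i) := fun i =>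
    Groth.L18.Ample.genLocus_pullHom f (Groth.L18.Ample.isInvertible_tensorPow hK d) (t i)
  haveI : QuasiSeparatedSpace X := inferInstance
  obtain ⟨K₀, h⟩ := exists_hasGeneration_aux f hL hM hLva t' (fun i => CohB1.genLocus _ (t i)) haff hcov hgl
  exact ⟨d, K₀, h⟩

end Groth.L18.PBundle
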